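import Groth.Agent.NonAbH1.K554.Fpqc

/-!
# Actions over `D ⟶ S` of a group over `S`, read in `Over S`

* `ofPoints`: an action from its action on points.
* `push b`: for an action `b` of `Red.bc d G` on `Z` over `D`, the action of `G` on `Z` regarded over `S`
  (through `d : D ⟶ S`).
* `isEquivariant_push_iff`, `sm_push_bc`, `sm_push_restrict_bc`: how `push` behaves.
-/

set_option autoImplicit false
universe u

open CategoryTheory CategoryTheory.Limits MonoidalCategory CartesianMonoidalCategory MonObj GrpObj AlgebraicGeometry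
open Groth.Agent.Books.BorelOrb

namespace K552.Push

section OfPoints

variable {S : Scheme.{u}} {G X : Over S} [GrpObj G]

/-- An action given on points. -/
noncomputable def ofPoints (s : ∀ {T : Over S}, (T ⟶ G) → (T ⟶ X) → (T ⟶ X))
    (hcomp : ∀ {T T' : Over S} (t : T' ⟶ T) (g : T ⟶ G) (x : T ⟶ X), t ≫ s g x = s (t ≫ g) (t ≫ x))
    (hone : ∀ {T : Over S} (x : T ⟶ X), s (1 : T ⟶ G) x = x)
    (hmul : ∀ {T : Over S} (g h : T ⟶ G) (x : T ⟶ X), s (g * h) x = s g (s h x)) : AlgGrp.Action G X where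
  act := s (fst G X) (snd G X)
  one_act := by
    rw [hcomp, whiskerRight_fst, whiskerRight_snd]
    have : fst (𝟙_ (Over S)) X ≫ η[G] = 1 := by
      rw [Hom.one_def]
      congr 1
    rw [this, hone, leftUnitor_hom]
  mul_act := by
    rw [hcomp, whiskerRight_fst, whiskerRight_snd]
    have e : fst (G ⊗ G) X ≫ μ[G] = (fst (G ⊗ G) X ≫ fst G G) * (fst (G ⊗ G) X ≫ snd G G) := by
      rw [Hom.mul_def, ← comp_lift, lift_fst_snd, Category.comp_id]
    rw [e, hmul]
    simp only [hcomp, whiskerLeft_fst, whiskerLeft_snd, associator_hom_fst, associator_hom_snd_fst,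
      associator_hom_snd_snd]

lemma sm_ofPoints (s : ∀ {T : Over S}, (T ⟶ G) → (T ⟶ X) → (T ⟶ X))
    (hcomp : ∀ {T T' : Over S} (t : T' ⟶ T) (g : T ⟶ G) (x : T ⟶ X), t ≫ s g x = s (t ≫ g) (t ≫ x))
    (hone : ∀ {T : Over S} (x : T ⟶ X), s (1 : T ⟶ G) x = x)
    (hmul : ∀ {T : Over S} (g h : T ⟶ G) (x : T ⟶ X), s (g * h) x = s g (s h x))
    {T : Over S} (g : T ⟶ G) (x : T ⟶ X) : sm (ofPoints s hcomp hone hmul) g x = s g x := by
  change lift g x ≫ s (fst G X) (snd G X) = _
  rw [hcomp, lift_fst, lift_snd]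

lemma action_ext {a b : AlgGrp.Action G X} (h : ∀ {T : Over S} (g : T ⟶ G) (x : T ⟶ X), sm a g x = sm b g x) :
    a = b := by
  apply AlgGrp.Action.ext'
  have := h (fst G X) (snd G X)
  rw [sm, sm, lift_fst_snd, Category.id_comp, Category.id_comp] at this
  exact this

end OfPoints

section Push

variable {S D : Scheme.{u}} {d : D ⟶ S} {G : Over S} [GrpObj G] {Z : Over D}

omit [GrpObj G] in
lemma isPullback_bc (d : D ⟶ S) (G : Over S) : IsPullback (pullback.fst G.hom d) (Red.bc d G).hom G.hom d :=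
  IsPullback.of_hasPullback _ _

/-- points of `G` over `S` as points of the base change -/
noncomputable def up {T : Over D} (g : (Over.map d).obj T ⟶ G) : T ⟶ Red.bc d G :=
  (Over.mapPullbackAdj d).homEquiv T G g

/-- points of the base change as points of `G` over `S` -/
noncomputable def dn {T : Over D} (g : T ⟶ Red.bc d G) : (Over.map d).obj T ⟶ G :=
  ((Over.mapPullbackAdj d).homEquiv T G).symm g

omit [GrpObj G] in
@[simp] lemma up_dn {T : Over D} (g : T ⟶ Red.bc d G) : up (dn g) = g := Equiv.apply_symm_apply _ _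

omit [GrpObj G] in
@[simp] lemma dn_up {T : Over D} (g : (Over.map d).obj T ⟶ G) : dn (up g) = g := Equiv.symm_apply_apply _ _

omit [GrpObj G] in
@[simp] lemma dn_left {T : Over D} (g : T ⟶ Red.bc d G) : (dn g).left = g.left ≫ pullback.fst G.hom d := by
  simp [dn, Adjunction.homEquiv_counit]

omit [GrpObj G] in
lemma up_left_fst {T : Over D} (g : (Over.map d).obj T ⟶ G) : (up g).left ≫ pullback.fst G.hom d = g.left := by
  rw [← dn_left, dn_up]

omit [GrpObj G] in
lemma comp_up {T T' : Over D} (t : T' ⟶ T) (g : (Over.map d).obj T ⟶ G) :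
    t ≫ up g = up ((Over.map d).map t ≫ g) :=
  ((Over.mapPullbackAdj d).homEquiv_naturality_left t g).symm

omit [GrpObj G] in
lemma comp_dn {T T' : Over D} (t : T' ⟶ T) (g : T ⟶ Red.bc d G) :
    dn (t ≫ g) = (Over.map d).map t ≫ dn g :=
  (Over.mapPullbackAdj d).homEquiv_naturality_left_symm t g

lemma up_mul {T : Over D} (g g' : (Over.map d).obj T ⟶ G) : up (g * g') = up g * up g' :=
  AlgGrp.Action.homEquiv_mul d g g'

lemma up_one {T : Over D} : up (1 : (Over.map d).obj T ⟶ G) = 1 := by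
  have h := up_mul (1 : (Over.map d).obj T ⟶ G) 1
  rw [_root_.mul_one] at h
  exact (left_eq_mul.mp h)

/-- the `D`-structure of the source of a point of `Z` over `S` -/
abbrev srcD {T : Over S} (z : T ⟶ (Over.map d).obj Z) : Over D := Over.mk (z.left ≫ Z.hom)

/-- a point of `Z` regarded over `S`, as a point over `D` -/
def ptD {T : Over S} (z : T ⟶ (Over.map d).obj Z) : srcD z ⟶ Z := Over.homMk z.left rfl

omit [GrpObj G] in
/-- the identification of the source -/
def srcIso {T : Over S} (z : T ⟶ (Over.map d).obj Z) : (Over.map d).obj (srcD z) ⟶ T :=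
  Over.homMk (𝟙 T.left) (by
    have := Over.w z
    change z.left ≫ Z.hom ≫ d = T.hom at this
    simp [srcD, this])

/-- the inverse of the identification of the source -/
def srcIso' {T : Over S} (z : T ⟶ (Over.map d).obj Z) : T ⟶ (Over.map d).obj (srcD z) :=
  Over.homMk (𝟙 T.left) (by
    have := Over.w z
    change z.left ≫ Z.hom ≫ d = T.hom at this
    simp [srcD, this])

/-- The action of `G` on points of `Z` over `S`. -/
noncomputable def psm (b : AlgGrp.Action (Red.bc d G) Z) {T : Over S} (g : T ⟶ G) (z : T ⟶ (Over.map d).obj Z) :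
    T ⟶ (Over.map d).obj Z :=
  srcIso' z ≫ (Over.map d).map (sm b (up (srcIso z ≫ g)) (ptD z))

@[simp] lemma psm_left (b : AlgGrp.Action (Red.bc d G) Z) {T : Over S} (g : T ⟶ G) (z : T ⟶ (Over.map d).obj Z) :
    (psm b g z).left = (sm b (up (srcIso z ≫ g)) (ptD z)).left := by
  simp [psm, srcIso']

lemma comp_psm (b : AlgGrp.Action (Red.bc d G) Z) {T T' : Over S} (t : T' ⟶ T) (g : T ⟶ G)
    (z : T ⟶ (Over.map d).obj Z) : t ≫ psm b g z = psm b (t ≫ g) (t ≫ z) := by
  ext
  rw [Over.comp_left, psm_left, psm_left]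
  let t' : srcD (t ≫ z) ⟶ srcD z := Over.homMk t.left (by simp [srcD])
  have h1 : t' ≫ sm b (up (srcIso z ≫ g)) (ptD z) = sm b (up (srcIso (t ≫ z) ≫ t ≫ g)) (ptD (t ≫ z)) := by
    rw [comp_sm, comp_up]
    congr 2
  have h2 := congrArg (fun f => f.left) h1
  simp only [Over.comp_left] at h2
  rw [← h2]
  rfl

/-- the basic formula: on points coming from `D` the action is the given one. -/
lemma psm_map (b : AlgGrp.Action (Red.bc d G) Z) {T : Over D} (g : (Over.map d).obj T ⟶ G) (z : T ⟶ Z) :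
    psm b g ((Over.map d).map z) = (Over.map d).map (sm b (up g) z) := by
  ext
  rw [psm_left]
  let e' : T ⟶ srcD ((Over.map d).map z) := Over.homMk (𝟙 T.left) (by simp [srcD])
  have h1 : e' ≫ sm b (up (srcIso ((Over.map d).map z) ≫ g)) (ptD ((Over.map d).map z)) = sm b (up g) z := by
    rw [comp_sm, comp_up]
    congr 2
  have h2 := congrArg (fun f => f.left) h1
  simp only [Over.comp_left] at h2
  change _ = (sm b (up g) z).left
  rw [← h2]
  simp [e']

lemma eq_src {T : Over S} (z : T ⟶ (Over.map d).obj Z) : z = srcIso' z ≫ (Over.map d).map (ptD z) := by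
  ext
  simp [srcIso', ptD]

/-- To check an identity of points it is enough to do it for points over `D`. -/
lemma exists_src {T : Over S} (z : T ⟶ (Over.map d).obj Z) :
    ∃ (T₀ : Over D) (i : T ⟶ (Over.map d).obj T₀) (j : (Over.map d).obj T₀ ⟶ T) (z₀ : T₀ ⟶ Z),
      i ≫ j = 𝟙 T ∧ j ≫ i = 𝟙 _ ∧ z = i ≫ (Over.map d).map z₀ :=
  ⟨srcD z, srcIso' z, srcIso z, ptD z, by ext; simp [srcIso, srcIso'], by ext; simp [srcIso, srcIso'], eq_src z⟩

lemma psm_one (b : AlgGrp.Action (Red.bc d G) Z) {T : Over S} (z : T ⟶ (Over.map d).obj Z) :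
    psm b (1 : T ⟶ G) z = z := by
  obtain ⟨T₀, i, j, z₀, h1, h2, rfl⟩ := exists_src z
  have : (1 : T ⟶ G) = i ≫ 1 := (comp_one i).symm
  rw [this, ← comp_psm, psm_map, up_one, one_sm]

lemma psm_mul (b : AlgGrp.Action (Red.bc d G) Z) {T : Over S} (g h : T ⟶ G) (z : T ⟶ (Over.map d).obj Z) :
    psm b (g * h) z = psm b g (psm b h z) := by
  obtain ⟨T₀, i, j, z₀, h1, h2, rfl⟩ := exists_src z
  obtain ⟨g, rfl⟩ : ∃ g', i ≫ g' = g := ⟨j ≫ g, by rw [← Category.assoc, h1, Category.id_comp]⟩
  obtain ⟨h, rfl⟩ : ∃ h', i ≫ h' = h := ⟨j ≫ h, by rw [← Category.assoc, h1, Category.id_comp]⟩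
  rw [← comp_mul, ← comp_psm, ← comp_psm, ← comp_psm, psm_map, psm_map, psm_map, up_mul, mul_sm]

/-- The action of `G` on `Z` regarded over `S`. -/
noncomputable def push (b : AlgGrp.Action (Red.bc d G) Z) : AlgGrp.Action G ((Over.map d).obj Z) :=
  ofPoints (psm b) (comp_psm b) (psm_one b) (psm_mul b)

lemma sm_push (b : AlgGrp.Action (Red.bc d G) Z) {T : Over S} (g : T ⟶ G) (z : T ⟶ (Over.map d).obj Z) :
    sm (push b) g z = psm b g z := sm_ofPoints _ _ _ _ _ _

lemma sm_push_map (b : AlgGrp.Action (Red.bc d G) Z) {T : Over D} (g : (Over.map d).obj T ⟶ G) (z : T ⟶ Z) :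
    sm (push b) g ((Over.map d).map z) = (Over.map d).map (sm b (up g) z) := by
  rw [sm_push, psm_map]

variable (d Z) in
/-- the projection of `Z` regarded over `S` to `D` regarded over `S`. -/
def proj : (Over.map d).obj Z ⟶ Over.mk d := Over.homMk Z.hom rfl

omit [GrpObj G] in
lemma map_proj {Z' : Over D} (f : Z ⟶ Z') : (Over.map d).map f ≫ proj d Z' = proj d Z := by
  ext; simp [proj]

lemma sm_push_proj (b : AlgGrp.Action (Red.bc d G) Z) {T : Over S} (g : T ⟶ G) (z : T ⟶ (Over.map d).obj Z) :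
    sm (push b) g z ≫ proj d Z = z ≫ proj d Z := by
  obtain ⟨T₀, i, j, z₀, h1, h2, rfl⟩ := exists_src z
  obtain ⟨g, rfl⟩ : ∃ g', i ≫ g' = g := ⟨j ≫ g, by rw [← Category.assoc, h1, Category.id_comp]⟩
  rw [← comp_sm, sm_push_map, Category.assoc, Category.assoc, map_proj, map_proj]

/-- A morphism over `S` to `Z` which projects to a morphism coming from `D`, comes from `D`. -/
lemma exists_lift_of_proj {T : Over D} (z : (Over.map d).obj T ⟶ (Over.map d).obj Z)
    (h : z ≫ proj d Z = proj d T) : ∃ z₀ : T ⟶ Z, (Over.map d).map z₀ = z := by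
  refine ⟨Over.homMk z.left ?_, ?_⟩
  · have := congrArg (fun f => f.left) h
    simpa [proj] using this
  · ext; simp

/-- The pushed action of a pseudo-torsor is simply transitive on the fibres of the projection. -/
lemma existsUnique_push {b : AlgGrp.Action (Red.bc d G) Z} (hb : NonAbH1.IsPseudoTorsorSch b) {T : Over S}
    (z z' : T ⟶ (Over.map d).obj Z) (h : z ≫ proj d Z = z' ≫ proj d Z) :
    ∃! g : T ⟶ G, sm (push b) g z' = z := by
  obtain ⟨T₀, i, j, z₀, h1, h2, rfl⟩ := exists_src z
  obtain ⟨z', rfl⟩ : ∃ z'', i ≫ z'' = z' := ⟨j ≫ z', by rw [← Category.assoc, h1, Category.id_comp]⟩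
  have h3 : z' ≫ proj d Z = proj d T₀ := by
    have := congrArg (fun f => j ≫ f) h
    simp only [← Category.assoc, h2, Category.id_comp] at this
    rw [← this, map_proj]
  obtain ⟨z', rfl⟩ := exists_lift_of_proj z' h3
  refine ⟨i ≫ dn (K554.Fpqc.dif hb z₀ z'), ?_, ?_⟩
  · change sm (push b) (i ≫ dn _) (i ≫ _) = _
    rw [← comp_sm, sm_push_map, up_dn, K554.Fpqc.sm_dif]
  · intro g hg
    obtain ⟨g, rfl⟩ : ∃ g', i ≫ g' = g := ⟨j ≫ g, by rw [← Category.assoc, h1, Category.id_comp]⟩
    rw [← comp_sm, sm_push_map] at hg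
    have h4 : (Over.map d).map (sm b (up g) z') = (Over.map d).map z₀ := by
      have := congrArg (fun f => j ≫ f) hg
      simpa only [← Category.assoc, h2, Category.id_comp] using this
    have h5 : sm b (up g) z' = z₀ := by
      ext
      have := congrArg (fun f => f.left) h4
      simpa using this
    rw [K554.Fpqc.dif_eq hb h5, dn_up]

/-- Equivariance over `D` is equivariance over `S` of the pushed actions. -/
lemma isEquivariant_push_iff {Z' : Over D} (b : AlgGrp.Action (Red.bc d G) Z) (b' : AlgGrp.Action (Red.bc d G) Z')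
    (f : Z ⟶ Z') : AlgGrp.Action.IsEquivariant b b' f ↔
      ∀ (T : Over S) (g : T ⟶ G) (z : T ⟶ (Over.map d).obj Z),
        sm (push b) g z ≫ (Over.map d).map f = sm (push b') g (z ≫ (Over.map d).map f) := by
  rw [K554.Fpqc.isEquivariant_iff]
  constructor
  · intro h T g z
    obtain ⟨T₀, i, j, z₀, h1, h2, rfl⟩ := exists_src z
    obtain ⟨g, rfl⟩ : ∃ g', i ≫ g' = g := ⟨j ≫ g, by rw [← Category.assoc, h1, Category.id_comp]⟩
    rw [← comp_sm, sm_push_map, Category.assoc, ← Functor.map_comp, h, Category.assoc, ← Functor.map_comp,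
      ← comp_sm, sm_push_map]
  · intro h T g z
    have := h ((Over.map d).obj T) (dn g) ((Over.map d).map z)
    rw [sm_push_map, ← Functor.map_comp, ← Functor.map_comp, sm_push_map, up_dn] at this
    ext
    have h2 := congrArg (fun f => f.left) this
    simpa using h2

/-! ### Base change along `U ⟶ S` -/

variable (d) (G) in
/-- the projection `G ×_S D ⟶ G` over `S`. -/
noncomputable def bcProj : (Over.map d).obj (Red.bc d G) ⟶ G := dn (𝟙 _)

variable (d) (G) in
omit [GrpObj G] in
@[simp] lemma bcProj_left : (bcProj d G).left = pullback.fst G.hom d := by simp [bcProj]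

omit [GrpObj G] in
lemma map_bcProj {T : Over D} (g : T ⟶ Red.bc d G) : (Over.map d).map g ≫ bcProj d G = dn g := by
  rw [bcProj, ← comp_dn, Category.comp_id]

/-- The action of `G` on the base change `Y ×_S D` regarded over `S`. -/
lemma sm_push_bc {Y : Over S} (a : AlgGrp.Action G Y) {T : Over S} (g : T ⟶ G)
    (z : T ⟶ (Over.map d).obj (Red.bc d Y)) :
    sm (push (a.bc d)) g z ≫ bcProj d Y = sm a g (z ≫ bcProj d Y) := by
  obtain ⟨T₀, i, j, z₀, h1, h2, rfl⟩ := exists_src z
  obtain ⟨g, rfl⟩ : ∃ g', i ≫ g' = g := ⟨j ≫ g, by rw [← Category.assoc, h1, Category.id_comp]⟩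
  rw [← comp_sm, sm_push_map, Category.assoc, Category.assoc, map_bcProj, map_bcProj, ← comp_sm]
  congr 1
  have h := AlgGrp.Action.lift_homEquiv_bc_act d a g (dn z₀)
  change sm (a.bc d) (up g) (up (dn z₀)) = up (sm a g (dn z₀)) at h
  rw [up_dn] at h
  rw [h, dn_up]

omit [GrpObj G] in
/-- points of `(G ×_S D)` over `S`. -/
lemma exists_lift_bc {T : Over S} (x : T ⟶ G) (u : T ⟶ Over.mk d) :
    ∃ z : T ⟶ (Over.map d).obj (Red.bc d G), z ≫ bcProj d G = x ∧ z ≫ proj d (Red.bc d G) = u := by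
  have hw : x.left ≫ G.hom = u.left ≫ d := (Over.w x).trans (Over.w u).symm
  refine ⟨Over.homMk (pullback.lift x.left u.left hw) ?_, ?_, ?_⟩
  · have := Over.w u
    simp only [Over.mk_hom] at this
    change pullback.lift x.left u.left hw ≫ pullback.snd G.hom d ≫ d = _
    rw [pullback.lift_snd_assoc, this]
  · ext
    rw [Over.comp_left, bcProj_left]
    exact pullback.lift_fst _ _ _
  · ext
    rw [Over.comp_left]
    exact pullback.lift_snd _ _ _

omit [GrpObj G] in
lemma hom_ext_bc {T : Over S} {z z' : T ⟶ (Over.map d).obj (Red.bc d G)}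
    (h1 : z ≫ bcProj d G = z' ≫ bcProj d G) (h2 : z ≫ proj d (Red.bc d G) = z' ≫ proj d (Red.bc d G)) : z = z' := by
  ext
  apply pullback.hom_ext
  · have := congrArg (fun f => f.left) h1
    simpa using this
  · have := congrArg (fun f => f.left) h2
    simpa [proj] using this

/-! ### Base change along `f : D' ⟶ D` of an action over `D ⟶ S` -/

variable {D' : Scheme.{u}} {d' : D' ⟶ S} (f : D' ⟶ D) (h : f ≫ d = d')

/-- `f` as a morphism over `S` -/
def ovr : Over.mk d' ⟶ Over.mk d := Over.homMk f (by simp [h])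

variable (Z) in
/-- the projection `Z ×_D D' ⟶ Z` over `S` -/
noncomputable def rProj : (Over.map d').obj (Red.bc f Z) ⟶ (Over.map d).obj Z :=
  Over.homMk (pullback.fst Z.hom f) (by simp [← h, pullback.condition_assoc])

lemma rProj_left : (rProj Z f h).left = pullback.fst Z.hom f := rfl

lemma rProj_proj : rProj Z f h ≫ proj d Z = proj d' (Red.bc f Z) ≫ ovr f h := by
  ext
  simp [rProj, proj, ovr, pullback.condition]

lemma exists_lift_r {T : Over S} (x : T ⟶ (Over.map d).obj Z) (u : T ⟶ Over.mk d')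
    (hx : x ≫ proj d Z = u ≫ ovr f h) :
    ∃ z : T ⟶ (Over.map d').obj (Red.bc f Z), z ≫ rProj Z f h = x ∧ z ≫ proj d' (Red.bc f Z) = u := by
  have hx' := congrArg (fun f => f.left) hx
  simp only [proj, ovr, Over.comp_left, Over.homMk_left] at hx'
  refine ⟨Over.homMk (pullback.lift x.left u.left hx') ?_, ?_, ?_⟩
  · have := Over.w u
    simp only [Over.mk_hom] at this
    change pullback.lift x.left u.left hx' ≫ pullback.snd Z.hom f ≫ d' = _
    rw [pullback.lift_snd_assoc, this]
  · ext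
    rw [Over.comp_left]
    exact pullback.lift_fst _ _ _
  · ext
    rw [Over.comp_left]
    exact pullback.lift_snd _ _ _

lemma hom_ext_r {T : Over S} {z z' : T ⟶ (Over.map d').obj (Red.bc f Z)}
    (h1 : z ≫ rProj Z f h = z' ≫ rProj Z f h) (h2 : z ≫ proj d' (Red.bc f Z) = z' ≫ proj d' (Red.bc f Z)) :
    z = z' := by
  ext
  apply pullback.hom_ext
  · have := congrArg (fun f => f.left) h1
    simpa [rProj] using this
  · have := congrArg (fun f => f.left) h2
    simpa [proj] using this

/-- The action of `G` on `Z ×_D D'` regarded over `S`. -/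
lemma sm_push_restrict_bc (b : AlgGrp.Action (Red.bc d G) Z) {T : Over S} (g : T ⟶ G)
    (z : T ⟶ (Over.map d').obj (Red.bc f Z)) :
    sm (push ((b.bc f).restrict (ActBC.bcCompIso f d G h).inv)) g z ≫ rProj Z f h =
      sm (push b) g (z ≫ rProj Z f h) := by
  obtain ⟨T₀, i, j, z₀, h1, h2, rfl⟩ := exists_src z
  obtain ⟨g, rfl⟩ : ∃ g', i ≫ g' = g := ⟨j ≫ g, by rw [← Category.assoc, h1, Category.id_comp]⟩
  rw [← comp_sm, sm_push_map, Category.assoc, Category.assoc, ← comp_sm]
  congr 1
  rw [K554.Fpqc.sm_restrict]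
  have h3 := AlgGrp.Action.lift_homEquiv_bc_act f b (dn (up g ≫ (ActBC.bcCompIso f d G h).inv)) (dn z₀)
  change sm (b.bc f) (up (dn _)) (up (dn z₀)) = up (sm b _ (dn z₀)) at h3
  rw [up_dn, up_dn] at h3
  rw [h3]
  ext
  rw [sm_push, psm_left]
  let t : (Over.map f).obj T₀ ⟶ srcD ((Over.map d').map z₀ ≫ rProj Z f h) := Over.homMk (𝟙 _) (by
    have := Over.w z₀
    simp only [Over.pullback_obj_hom] at this
    simp [srcD, rProj, pullback.condition, ← this])
  have h4 : t ≫ sm b (up (srcIso ((Over.map d').map z₀ ≫ rProj Z f h) ≫ g)) (ptD ((Over.map d').map z₀ ≫ rProj Z f h)) =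
      sm b (dn (up g ≫ (ActBC.bcCompIso f d G h).inv)) (dn z₀) := by
    rw [comp_sm, comp_up]
    congr 1
    · ext
      apply pullback.hom_ext
      · have e1 := up_left_fst ((Over.map d).map t ≫ srcIso ((Over.map d').map z₀ ≫ rProj Z f h) ≫ g)
        have e2 := up_left_fst g
        rw [e1, dn_left]
        have e3 : (ActBC.bcCompIso f d G h).inv.left ≫ pullback.fst (Red.bc d G).hom f ≫ pullback.fst G.hom d =
            pullback.fst G.hom d' := by
          rw [← ActBC.bcCompIso_hom_left_fst f d G h, ← Category.assoc, ← Over.comp_left, Iso.inv_hom_id]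
          simp
        simp only [Over.comp_left, Category.assoc]
        rw [e3, e2]
        simp [t, srcIso]
      · have e1 := Over.w (up ((Over.map d).map t ≫ srcIso ((Over.map d').map z₀ ≫ rProj Z f h) ≫ g))
        have e2 := Over.w (dn (up g ≫ (ActBC.bcCompIso f d G h).inv))
        exact e1.trans e2.symm
  have h5 := congrArg (fun f => f.left) h4
  simp only [Over.comp_left] at h5
  have h6 := up_left_fst (d := f) (sm b (dn (up g ≫ (ActBC.bcCompIso f d G h).inv)) (dn z₀))
  rw [← h5] at h6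
  simpa [t, rProj] using h6

end Push

end K552.Push
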