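import Groth.Agent.NonAbH1.K552.GlueTors

/-!
# The torsor on a doubled scheme attached to a point of the group over the overlap
-/

set_option autoImplicit false
universe u

open CategoryTheory CategoryTheory.Limits MonoidalCategory CartesianMonoidalCategory MonObj GrpObj AlgebraicGeometry
open Groth.Agent.Books.BorelOrb

namespace K552.Double

section pushout

variable {U X₁ X₂ : Scheme.{u}} (j₁ : U ⟶ X₁) (j₂ : U ⟶ X₂) [IsOpenImmersion j₁] [IsOpenImmersion j₂]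

attribute [local instance] Groth.Agent.FlatA.GlueTwo.hasPushout
  Groth.Agent.FlatA.GlueTwo.isOpenImmersion_inl Groth.Agent.FlatA.GlueTwo.isOpenImmersion_inr

/-- Two open immersions with the same source have a pushout, which is a gluing. -/
theorem exists_pushout : ∃ (B : Scheme.{u}) (i₁ : X₁ ⟶ B) (i₂ : X₂ ⟶ B),
    IsOpenImmersion i₁ ∧ IsOpenImmersion i₂ ∧ IsPushout j₁ j₂ i₁ i₂ ∧ IsPullback j₁ j₂ i₁ i₂ ∧
      ∀ b : B, b ∈ Set.range i₁ ∨ b ∈ Set.range i₂ := by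
  have {i j : WalkingSpan} (t : i ⟶ j) := Groth.Agent.FlatA.GlueTwo.isOpenImmersion_span_map j₁ j₂ t
  refine ⟨pushout j₁ j₂, pushout.inl _ _, pushout.inr _ _, inferInstance, inferInstance,
    IsPushout.of_hasPushout _ _, ?_, Groth.Agent.FlatA.GlueTwo.jointly_surjective j₁ j₂⟩
  have key : ∀ (x₁ : X₁) (x₂ : X₂), pushout.inl j₁ j₂ x₁ = pushout.inr j₁ j₂ x₂ →
      ∃ u : U, j₁ u = x₁ ∧ j₂ u = x₂ := by
    intro x₁ x₂ h
    have h' := (Scheme.IsLocallyDirected.ι_eq_ι_iff (span j₁ j₂) (i := WalkingSpan.left)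
      (j := WalkingSpan.right) (xi := x₁) (xj := x₂)).1 h
    obtain ⟨k, fi, fj, y, h1, h2⟩ := h'
    obtain (_ | (_ | _)) := k
    · refine ⟨y, ?_, ?_⟩
      · rw [← h1]
        have : fi = WalkingSpan.Hom.fst := Subsingleton.elim _ _
        rw [this]; rfl
      · rw [← h2]
        have : fj = WalkingSpan.Hom.snd := Subsingleton.elim _ _
        rw [this]; rfl
    · cases fj
    · cases fi
  let l : U ⟶ pullback (pushout.inl j₁ j₂) (pushout.inr j₁ j₂) := pullback.lift j₁ j₂ pushout.condition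
  have hl : l ≫ pullback.fst _ _ = j₁ := pullback.lift_fst _ _ _
  have h1 : IsOpenImmersion l := by
    have : IsOpenImmersion (l ≫ pullback.fst (pushout.inl j₁ j₂) (pushout.inr j₁ j₂)) := by rw [hl]; infer_instance
    exact .of_comp _ (pullback.fst (pushout.inl j₁ j₂) (pushout.inr j₁ j₂))
  have h2 : Function.Surjective l := by
    intro y
    obtain ⟨u, hu1, hu2⟩ := key (pullback.fst (pushout.inl j₁ j₂) (pushout.inr j₁ j₂) y)
      (pullback.snd (pushout.inl j₁ j₂) (pushout.inr j₁ j₂) y) (by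
        rw [← Scheme.Hom.comp_apply, ← Scheme.Hom.comp_apply, pullback.condition])
    refine ⟨u, ?_⟩
    apply (pullback.fst (pushout.inl j₁ j₂) (pushout.inr j₁ j₂)).isOpenEmbedding.injective
    rw [← Scheme.Hom.comp_apply, hl, hu1]
  have h3 : IsIso l := by
    have : Surjective l := ⟨h2⟩
    exact (isIso_iff_isOpenImmersion_and_epi_base l).2 ⟨h1, (TopCat.epi_iff_surjective _).2 h2⟩
  exact IsPullback.of_iso_pullback ⟨pushout.condition⟩ (asIso l) hl (pullback.lift_snd _ _ _)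

end pushout

section torsor

variable {B U₁ U₂ W : Scheme.{u}} (i₁ : U₁ ⟶ B) (i₂ : U₂ ⟶ B) [IsOpenImmersion i₁] [IsOpenImmersion i₂]
  (hcov : ∀ x : B, x ∈ Set.range i₁ ∨ x ∈ Set.range i₂) {p₁ : W ⟶ U₁} {p₂ : W ⟶ U₂} (hW : IsPullback p₁ p₂ i₁ i₂)
  {G : Over B} [GrpObj G]

/-- The free action of `G` on `G × U`. -/
noncomputable def prodAct (V : Over B) : AlgGrp.Action G (G ⊗ V) :=
  K552.Push.ofPoints (fun {T} (g : T ⟶ G) (x : T ⟶ G ⊗ V) => lift (g * (x ≫ fst G V)) (x ≫ snd G V))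
    (by intro T T' t g x; rw [comp_lift, comp_mul, Category.assoc, Category.assoc])
    (by intro T x; rw [_root_.one_mul]; ext <;> simp)
    (by intro T g h x; rw [lift_fst, lift_snd, _root_.mul_assoc])

lemma sm_prodAct (V : Over B) {T : Over B} (g : T ⟶ G) (x : T ⟶ G ⊗ V) :
    sm (prodAct V) g x = lift (g * (x ≫ fst G V)) (x ≫ snd G V) := by
  change lift g x ≫ lift (fst G (G ⊗ V) * (snd G (G ⊗ V) ≫ fst G V)) (snd G (G ⊗ V) ≫ snd G V) = _
  rw [comp_lift, comp_mul, lift_fst, lift_snd_assoc, lift_snd_assoc]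

/-- the square for `G × (-)` applied to `J`, twisted by right multiplication by a point. -/
lemma isPullback_twist {V V' : Over B} (J : V ⟶ V') (c : V ⟶ G) :
    IsPullback (lift (fst G V * (snd G V ≫ c)) (snd G V ≫ J)) (snd G V) (snd G V') J := by
  refine ⟨⟨by rw [lift_snd]⟩, ⟨PullbackCone.IsLimit.mk _
    (fun s => lift ((s.fst ≫ fst G V') * (s.snd ≫ c)⁻¹) s.snd) ?_ ?_ ?_⟩⟩
  · intro s
    apply CartesianMonoidalCategory.hom_ext
    · rw [Category.assoc, lift_fst, comp_mul, lift_fst, lift_snd_assoc, inv_mul_cancel_right]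
    · rw [Category.assoc, lift_snd, lift_snd_assoc, s.condition]
  · intro s
    rw [lift_snd]
  · intro s m h1 h2
    apply CartesianMonoidalCategory.hom_ext
    · rw [lift_fst, ← h1, ← h2, Category.assoc, Category.assoc, lift_fst, comp_mul, mul_inv_cancel_right]
    · rw [lift_snd, h2]

lemma isPullback_left {X Y Z W : Over B} {a : X ⟶ Y} {b : X ⟶ Z} {c : Y ⟶ W} {d : Z ⟶ W} (h : IsPullback a b c d) :
    IsPullback a.left b.left c.left d.left := h.map (Over.forget B)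

include hcov hW in
/-- **The torsor attached to a point of the group on the overlap of two opens.** If it has a section then the point is
a product of points over the two opens. -/
theorem exists_torsor_of_overlap (c : Over.mk (p₁ ≫ i₁) ⟶ G) :
    ∃ P : NonAbH1.TorsorSch G Scheme.fppfPrecoverage,
      (NonAbH1.HasSectionOver P.X (𝟙 B) → ∃ (a₁ : Over.mk i₁ ⟶ G) (a₂ : Over.mk i₂ ⟶ G),
        (Over.homMk p₁ rfl : Over.mk (p₁ ≫ i₁) ⟶ Over.mk i₁) ≫ a₁ * c =
          (Over.homMk p₂ hW.w.symm : Over.mk (p₁ ≫ i₁) ⟶ Over.mk i₂) ≫ a₂) := by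
  let J₁ : Over.mk (p₁ ≫ i₁) ⟶ Over.mk i₁ := Over.homMk p₁ rfl
  let J₂ : Over.mk (p₁ ≫ i₁) ⟶ Over.mk i₂ := Over.homMk p₂ hW.w.symm
  let Z : Over B := G ⊗ Over.mk (p₁ ≫ i₁)
  have e₁ := isPullback_left (isPullback_twist (G := G) J₁ 1)
  have e₂ := isPullback_left (isPullback_twist (G := G) J₂ c)
  obtain ⟨P, a, j₁, j₂, h1, h2, h3, hm₁, hm₂, ha₁, ha₂, hz⟩ :=
    K552.Glue.exists_glued_action i₁ i₂ hcov hW (Z := Z) e₁ e₂ (prodAct (Over.mk i₁)) (prodAct (Over.mk i₂)) (by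
      intro T g z
      refine ⟨lift (g * (z ≫ fst _ _)) (z ≫ snd _ _), ?_, ?_⟩
      · rw [sm_prodAct]
        simp only [comp_lift, Category.assoc, lift_fst, lift_snd, lift_snd_assoc, comp_one, _root_.mul_one]
      · rw [sm_prodAct]
        simp only [comp_lift, comp_mul, Category.assoc, lift_fst, lift_snd, lift_snd_assoc, _root_.mul_assoc])
  have hps : ∀ {U : Scheme.{u}} (i : U ⟶ B) [IsOpenImmersion i] {T : Over B} (q q' : T ⟶ G ⊗ Over.mk i),
      ∃! g : T ⟶ G, sm (prodAct (Over.mk i)) g q' = q := by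
    intro U i _ T q q'
    refine ⟨(q ≫ fst _ _) * (q' ≫ fst _ _)⁻¹, ?_, ?_⟩
    · change sm _ _ _ = _
      rw [sm_prodAct, inv_mul_cancel_right]
      apply CartesianMonoidalCategory.hom_ext
      · rw [lift_fst]
      · exact K552.Glue.mono_over i _ _
    · rintro g rfl
      rw [sm_prodAct, lift_fst, mul_inv_cancel_right]
  have hpt : NonAbH1.IsPseudoTorsorSch a := K552.Glue.isPseudoTorsorSch_of_two i₁ i₂ hcov j₁ j₂
    (fun x u => K552.Glue.lift_of_isPullback h1 x u) (fun x u => K552.Glue.lift_of_isPullback h2 x u)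
    _ _ a ha₁ ha₂ (hps i₁) (hps i₂)
  have hlt : NonAbH1.IsLocallyTrivialFor Scheme.fppfPrecoverage P := by
    apply K552.Glue.isLocallyTrivialFor_fppf_of_points
    intro b
    rcases hcov b with hb | hb
    · refine ⟨_, i₁, inferInstance, inferInstance, hb, (lift (1 : Over.mk i₁ ⟶ G) (𝟙 _) ≫ j₁).left, ?_⟩
      exact Over.w (lift (1 : Over.mk i₁ ⟶ G) (𝟙 _) ≫ j₁)
    · refine ⟨_, i₂, inferInstance, inferInstance, hb, (lift (1 : Over.mk i₂ ⟶ G) (𝟙 _) ≫ j₂).left, ?_⟩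
      exact Over.w (lift (1 : Over.mk i₂ ⟶ G) (𝟙 _) ≫ j₂)
  refine ⟨⟨P, a, hpt, hlt⟩, ?_⟩
  rintro ⟨s, hs⟩
  change s ≫ P.hom = 𝟙 B at hs
  -- restrict the section to the two opens
  let s₁ : Over.mk i₁ ⟶ P := Over.homMk (i₁ ≫ s) (by rw [Category.assoc, hs]; exact Category.comp_id _)
  let s₂ : Over.mk i₂ ⟶ P := Over.homMk (i₂ ≫ s) (by rw [Category.assoc, hs]; exact Category.comp_id _)
  obtain ⟨q₁, hq₁⟩ := K552.Glue.lift_of_isPullback h1 s₁ (𝟙 _)
  obtain ⟨q₂, hq₂⟩ := K552.Glue.lift_of_isPullback h2 s₂ (𝟙 _)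
  have hq : (J₁ ≫ q₁) ≫ j₁ = (J₂ ≫ q₂) ≫ j₂ := by
    rw [Category.assoc, Category.assoc, hq₁, hq₂]
    ext
    change p₁ ≫ i₁ ≫ s = p₂ ≫ i₂ ≫ s
    rw [← Category.assoc, ← Category.assoc, hW.w]
  obtain ⟨z, hz1, hz2⟩ := hz _ _ hq
  have k1 := congrArg (fun f => f ≫ fst _ _) hz1
  have k2 := congrArg (fun f => f ≫ fst _ _) hz2
  have k3 : z ≫ snd _ _ = 𝟙 _ := by
    ext
    have : IsOpenImmersion (p₁ ≫ i₁) := by
      have : IsOpenImmersion p₁ := MorphismProperty.of_isPullback hW.flip ‹_›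
      infer_instance
    rw [← cancel_mono (p₁ ≫ i₁)]
    exact (Over.w (z ≫ snd _ _)).trans (Over.w (𝟙 (Over.mk (p₁ ≫ i₁)))).symm
  refine ⟨q₁ ≫ fst _ _, q₂ ≫ fst _ _, ?_⟩
  change J₁ ≫ q₁ ≫ fst _ _ * c = J₂ ≫ q₂ ≫ fst _ _
  simp only [Category.assoc, lift_fst, comp_mul, comp_one, _root_.mul_one] at k1 k2
  rw [← k1, ← k2, ← Category.assoc z (snd _ _) c, k3, Category.id_comp]

end torsor

end K552.Double
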