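import Groth.Agent.Etcore.NormalEtale
import Groth.Agent.Sga4h.LFinGalRing
import Mathlib.FieldTheory.Normal.Closure
import Mathlib.FieldTheory.Galois.Basic

/-!
# Galois closures of finite etale algebras over integrally closed domains

A finite etale algebra over an integrally closed domain `V` maps to the integral closure `W` of `V` in a finite Galois
extension of the fraction field, with `W` finite etale over `V`.
-/

set_option autoImplicit false
universe u

open TensorProduct

namespace K552.VlGal

variable {V : Type u} [CommRing V] [IsDomain V] [IsIntegrallyClosed V]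

/-- The image of a finite etale algebra in a torsion-free domain is finite etale. -/
theorem etale_range (B L : Type u) [CommRing B] [Algebra V B] [Module.Finite V B] [Algebra.Etale V B] [Field L]
    [Algebra V L] (hinj : Function.Injective (algebraMap V L)) (φ : B →ₐ[V] L) :
    Algebra.Etale V φ.range ∧ Module.Finite V φ.range := by
  have hp : (RingHom.ker φ.toRingHom).IsPrime := RingHom.ker_isPrime _
  obtain ⟨e, he, hep, hdom, -⟩ :=
    Groth.Agent.Etcore.NormalEtale.exists_idempotent_notMem V B (RingHom.ker φ.toRingHom)
  have hφe : φ e = 1 := by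
    have h1 : φ e ≠ 0 := hep
    have h2 : φ e * φ e = φ e := by rw [← map_mul, he]
    exact mul_right_cancel₀ h1 (by rw [h2, one_mul])
  have hsurj : Function.Surjective (algebraMap B (Localization.Away e)) := by
    intro x
    obtain ⟨⟨a, s⟩, hs⟩ := IsLocalization.surj (Submonoid.powers e) x
    have h1 : algebraMap B (Localization.Away e) e = 1 := by
      have hu : IsUnit (algebraMap B (Localization.Away e) e) := IsLocalization.Away.algebraMap_isUnit e
      exact hu.mul_left_cancel (by rw [← map_mul, he, mul_one])
    obtain ⟨n, hn⟩ := s.2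
    refine ⟨a, ?_⟩
    rw [← hs, ← hn, map_pow, h1, one_pow, mul_one]
  have hfin : Module.Finite B (Localization.Away e) :=
    Module.Finite.of_surjective (Algebra.linearMap B (Localization.Away e)) hsurj
  have hfin' : Module.Finite V (Localization.Away e) := Module.Finite.trans B _
  have het : Algebra.Etale B (Localization.Away e) := Algebra.Etale.of_isLocalizationAway e
  have het' : Algebra.Etale V (Localization.Away e) := Algebra.Etale.comp V B _
  let φ' : Localization.Away e →ₐ[V] L := IsLocalization.liftAlgHom (M := Submonoid.powers e) (f := φ) (by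
    rintro ⟨_, n, rfl⟩
    rw [map_pow, hφe, one_pow]
    exact isUnit_one)
  have hφ' : ∀ b, φ' (algebraMap B _ b) = φ b := fun b => by simp [φ']
  have hinj' : Function.Injective φ' := by
    have h1 : RingHom.ker φ'.toRingHom = ⊥ := by
      apply Ideal.eq_bot_of_comap_eq_bot (R := V)
      rw [eq_bot_iff]
      intro x hx
      have h2 : φ' (algebraMap V _ x) = 0 := hx
      rw [AlgHom.commutes] at h2
      exact (map_eq_zero_iff _ hinj).mp h2
    exact (RingHom.injective_iff_ker_eq_bot _).mpr h1
  have hr : φ'.range = φ.range := by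
    ext x
    constructor
    · rintro ⟨y, rfl⟩
      obtain ⟨b, rfl⟩ := hsurj y
      exact ⟨b, (hφ' b).symm⟩
    · rintro ⟨b, rfl⟩
      exact ⟨algebraMap B _ b, hφ' b⟩
  let E : Localization.Away e ≃ₐ[V] φ.range :=
    (AlgEquiv.ofInjective φ' hinj').trans (Subalgebra.equivOfEq _ _ hr)
  exact ⟨Algebra.Etale.of_equiv E, Module.Finite.equiv E.toLinearEquiv⟩

/-- Finite suprema of finite etale subalgebras of a field are finite etale. -/
theorem etale_sup {L : Type u} [Field L] [Algebra V L] (hinj : Function.Injective (algebraMap V L)) {ι : Type*}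
    (s : Finset ι) (R : ι → Subalgebra V L) (hR : ∀ i, Algebra.Etale V (R i) ∧ Module.Finite V (R i)) :
    Algebra.Etale V ↥(s.sup R) ∧ Module.Finite V ↥(s.sup R) := by
  classical
  induction s using Finset.induction_on with
  | empty =>
    rw [Finset.sup_empty]
    have h := etale_range V L hinj (Algebra.ofId V L)
    have h1 : (Algebra.ofId V L).range = ⊥ := rfl
    rwa [h1] at h
  | insert i s _ ih =>
    rw [Finset.sup_insert]
    have h1 := (hR i).1
    have h2 := (hR i).2
    have h3 := ih.1
    have h4 := ih.2
    have h6 : Algebra.Etale V (↥(R i) ⊗[V] ↥(s.sup R)) := Algebra.Etale.comp V (R i) _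
    have h5 := etale_range (↥(R i) ⊗[V] ↥(s.sup R)) L hinj (Algebra.TensorProduct.productMap (R i).val (s.sup R).val)
    rwa [Algebra.TensorProduct.productMap_range, Subalgebra.range_val, Subalgebra.range_val] at h5

/-- **Galois closure.** -/
theorem exists_galois (C : Type u) [CommRing C] [Algebra V C] [Module.Finite V C] [Algebra.Etale V C] [Nontrivial C] :
    ∃ (L : Type u) (_ : Field L) (_ : Algebra (FractionRing V) L) (_ : Algebra V L)
      (_ : IsScalarTower V (FractionRing V) L) (_ : FiniteDimensional (FractionRing V) L)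
      (_ : IsGalois (FractionRing V) L), Algebra.Etale V (integralClosure V L) ∧
      Module.Finite V (integralClosure V L) ∧ Nonempty (C →ₐ[V] integralClosure V L) := by
  classical
  obtain ⟨L, _, _, _, _, _, _, ⟨ψ⟩⟩ := Groth.Agent.Sga4h.LFinGalRing.exists_field C (A := V)
  let K := FractionRing V
  have hVK : Function.Injective (algebraMap V K) := IsFractionRing.injective V K
  have hinj : Function.Injective (algebraMap V L) := by
    rw [IsScalarTower.algebraMap_eq V K L]
    exact (algebraMap K L).injective.comp hVK
  let R : (L ≃ₐ[K] L) → Subalgebra V L := fun g => ((g.restrictScalars V : L ≃ₐ[V] L).toAlgHom.comp ψ).range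
  have hR : ∀ g, Algebra.Etale V (R g) ∧ Module.Finite V (R g) := fun g => etale_range C L hinj _
  have hsup := etale_sup hinj Finset.univ R hR
  set W : Subalgebra V L := Finset.univ.sup R with hW
  have hWi : W = ⨆ g, R g := Finset.sup_univ_eq_iSup R
  have het : Algebra.Etale V W := hsup.1
  have hfin : Module.Finite V W := hsup.2
  have hWic : IsIntegrallyClosed W := Groth.Agent.Etcore.NormalEtale.isIntegrallyClosed_of_etale V W
  have hWst : ∀ (g : L ≃ₐ[K] L) (x : L), x ∈ W → g x ∈ W := by
    intro g x hx
    have h1 : W.map (g.restrictScalars V : L ≃ₐ[V] L).toAlgHom ≤ W := by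
      rw [hWi, (Subalgebra.gc_map_comap _).l_iSup]
      refine iSup_le fun h => ?_
      have h2 : (R h).map (g.restrictScalars V : L ≃ₐ[V] L).toAlgHom = R (g * h) := by
        rw [← AlgHom.range_comp]
        rfl
      rw [h2]
      exact le_iSup R (g * h)
    exact h1 ⟨x, hx, rfl⟩
  have hCW : ∀ c, ψ c ∈ W := by
    intro c
    rw [hWi]
    exact (le_iSup R 1) ⟨c, rfl⟩
  have hWint : ∀ x ∈ W, IsIntegral V x := by
    intro x hx
    exact (IsIntegral.of_finite V (⟨x, hx⟩ : W)).map W.val
  -- the field generated by `W`
  let L₁ : IntermediateField K L := IntermediateField.adjoin K (W : Set L)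
  have hWL : ∀ x ∈ W, x ∈ L₁ := fun x hx => IntermediateField.subset_adjoin K _ hx
  have hnorm : Normal K L₁ := by
    rw [IntermediateField.normal_iff_forall_map_le']
    intro σ
    rw [IntermediateField.adjoin_map, IntermediateField.adjoin_le_iff]
    rintro _ ⟨x, hx, rfl⟩
    exact hWL _ (hWst σ x hx)
  have hsep : Algebra.IsSeparable K L₁ := inferInstance
  have hgal : IsGalois K L₁ := ⟨⟩
  have hfd : FiniteDimensional K L₁ := inferInstance
  have hfrac : ∀ x ∈ L₁, ∃ v : V, v ≠ 0 ∧ v • x ∈ W := by
    let S : Subalgebra K L :=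
      { carrier := {x | ∃ v : V, v ≠ 0 ∧ v • x ∈ W}
        mul_mem' := by
          rintro x y ⟨v, hv, hx⟩ ⟨v', hv', hy⟩
          refine ⟨v * v', mul_ne_zero hv hv', ?_⟩
          have := mul_mem hx hy
          rwa [smul_mul_smul_comm] at this
        add_mem' := by
          rintro x y ⟨v, hv, hx⟩ ⟨v', hv', hy⟩
          refine ⟨v * v', mul_ne_zero hv hv', ?_⟩
          rw [smul_add, mul_comm, mul_smul, mul_comm, mul_smul]
          exact add_mem (W.smul_mem hx _) (W.smul_mem hy _)
        algebraMap_mem' := by
          intro k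
          obtain ⟨p, q, hq, rfl⟩ := IsFractionRing.div_surjective (A := V) k
          refine ⟨q, nonZeroDivisors.ne_zero hq, ?_⟩
          have h1 : q • algebraMap K L (algebraMap V K p / algebraMap V K q) = algebraMap V L p := by
            rw [Algebra.smul_def, IsScalarTower.algebraMap_apply V K L, ← map_mul, mul_div_cancel₀,
              ← IsScalarTower.algebraMap_apply]
            exact (map_ne_zero_iff _ hVK).mpr (nonZeroDivisors.ne_zero hq)
          rw [h1]
          exact W.algebraMap_mem p }
    have h1 : L₁.toSubalgebra = Algebra.adjoin K (W : Set L) :=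
      IntermediateField.adjoin_toSubalgebra_of_isAlgebraic fun x _ => Algebra.IsAlgebraic.isAlgebraic x
    have h2 : Algebra.adjoin K (W : Set L) ≤ S := Algebra.adjoin_le fun x hx => ⟨1, one_ne_zero, by rwa [one_smul]⟩
    intro x hx
    have h3 : x ∈ L₁.toSubalgebra := hx
    rw [h1] at h3
    exact h2 h3
  have hmem : ∀ x ∈ L₁, IsIntegral V x → x ∈ W := by
    intro x hx hxi
    obtain ⟨v, hv, hvx⟩ := hfrac x hx
    have hWL' : Function.Injective (algebraMap W L) := Subtype.val_injective
    let j : FractionRing W →ₐ[W] L := IsFractionRing.liftAlgHom (g := Algebra.ofId W L) hWL'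
    let y : FractionRing W := algebraMap W _ ⟨v • x, hvx⟩ / algebraMap W _ (algebraMap V W v)
    have hy : j y = x := by
      simp only [y]
      rw [map_div₀, AlgHom.commutes, AlgHom.commutes]
      have h1 : algebraMap W L (algebraMap V W v) = algebraMap V L v := rfl
      have h2 : algebraMap W L ⟨v • x, hvx⟩ = v • x := rfl
      rw [h1, h2, Algebra.smul_def, mul_div_cancel_left₀]
      exact (map_ne_zero_iff _ hinj).mpr hv
    have hyi : IsIntegral W y := by
      rw [← isIntegral_algHom_iff j (RingHom.injective _), hy]
      exact hxi.tower_top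
    obtain ⟨w, hw⟩ := IsIntegrallyClosed.isIntegral_iff.mp hyi
    have h3 : (w : L) = x := by
      rw [← hy, ← hw, AlgHom.commutes]
      rfl
    rw [← h3]
    exact w.2
  let W₁ := integralClosure V L₁
  let ι : L₁ →ₐ[V] L := (L₁.val).restrictScalars V
  have hι : Function.Injective ι := L₁.val.injective
  have hmap : W₁.map ι = W := by
    ext x
    constructor
    · rintro ⟨y, hy, rfl⟩
      exact hmem _ y.2 (IsIntegral.map ι (show IsIntegral V y from hy))
    · intro hx
      refine ⟨⟨x, hWL x hx⟩, ?_, rfl⟩
      change IsIntegral V (⟨x, hWL x hx⟩ : L₁)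
      rw [← isIntegral_algHom_iff ι hι]
      exact hWint x hx
  let E : W₁ ≃ₐ[V] W := (W₁.equivMapOfInjective ι hι).trans (Subalgebra.equivOfEq _ _ hmap)
  exact ⟨L₁, inferInstance, inferInstance, inferInstance, inferInstance, hfd, hgal, Algebra.Etale.of_equiv E.symm,
    Module.Finite.equiv E.symm.toLinearEquiv, ⟨E.symm.toAlgHom.comp (ψ.codRestrict W hCW)⟩⟩

end K552.VlGal
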