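import Groth.Agent.NonAbH1.K552.VlVal
import Groth.Agent.S1963
import Mathlib.RingTheory.IntegralClosure.Algebra.Basic
import Mathlib.FieldTheory.Galois.Basic
import Mathlib.Algebra.GCDMonoid.IntegrallyClosed
import Mathlib.RingTheory.PrincipalIdealDomain

/-!
# The Galois case over a valuation ring

For a valuation ring `V` and a finite Galois extension `L` of its fraction field such that the integral closure `W` of
`V` in `L` is finite etale over `V`, the hypotheses of `VlVal` are satisfied.
-/

set_option autoImplicit false
universe u

open scoped Pointwise TensorProduct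

namespace K552.VlSt

variable {V : Type u} [CommRing V] [IsDomain V] [ValuationRing V] {K : Type u} [Field K] [Algebra V K]
  [IsFractionRing V K] {L : Type u} [Field L] [Algebra K L] [Algebra V L] [IsScalarTower V K L]
  [FiniteDimensional K L] [IsGalois K L]

omit [IsDomain V] [ValuationRing V] [IsFractionRing V K] [FiniteDimensional K L] [IsGalois K L] in
/-- the Galois group acts `V`-linearly -/
lemma smulCommClass : SMulCommClass (L ≃ₐ[K] L) V L where
  smul_comm g v x := by
    rw [← algebraMap_smul K v x, ← algebraMap_smul K v (g • x), smul_comm]

attribute [local instance] smulCommClass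

omit [IsDomain V] [ValuationRing V] [IsFractionRing V K] [FiniteDimensional K L] [IsGalois K L] in
lemma coe_smul (g : L ≃ₐ[K] L) (w : integralClosure V L) : ((g • w : integralClosure V L) : L) = g w := rfl

omit [FiniteDimensional K L] [IsGalois K L] [IsFractionRing V K] [IsScalarTower V K L] [Algebra V L] [Algebra V K] in
variable (V) in
theorem isIntegrallyClosed : IsIntegrallyClosed V := by
  classical
  have : Nonempty (GCDMonoid V) := ⟨IsBezout.toGCDDomain V⟩
  infer_instance

lemma isInvariant : Algebra.IsInvariant V (integralClosure V L) (L ≃ₐ[K] L) where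
  isInvariant b hb := by
    have hic := isIntegrallyClosed V
    have h1 : (b : L) ∈ (⊥ : IntermediateField K L) := by
      rw [IsGalois.mem_bot_iff_fixed]
      intro g
      exact congrArg Subtype.val (hb g)
    rw [IntermediateField.mem_bot] at h1
    obtain ⟨k, hk⟩ := h1
    have h2 : IsIntegral V k := by
      have h3 : IsIntegral V (b : L) := b.2
      rw [← hk] at h3
      exact (isIntegral_algebraMap_iff (algebraMap K L).injective).mp h3
    obtain ⟨a, rfl⟩ := IsIntegrallyClosed.algebraMap_eq_of_integral h2
    refine ⟨a, Subtype.ext ?_⟩
    rw [← hk, ← IsScalarTower.algebraMap_apply]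
    rfl

lemma comap_eq (n : Ideal (integralClosure V L)) [hn : n.IsMaximal] :
    n.comap (algebraMap V (integralClosure V L)) = IsLocalRing.maximalIdeal V := by
  have : (n.comap (algebraMap V (integralClosure V L))).IsMaximal :=
    Ideal.isMaximal_comap_of_isIntegral_of_isMaximal n
  exact IsLocalRing.eq_maximalIdeal this

theorem st [Algebra.Etale V (integralClosure V L)] [Module.Finite V (integralClosure V L)] :
    VlVal.St (integralClosure V L) L (L ≃ₐ[K] L) where
  smul_alg _ _ := rfl
  val n hn a b := by
    obtain ⟨hdom, hval, -⟩ := Groth.Agent.S1963.result V (integralClosure V L) n (comap_eq n)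
    have := hval hdom
    exact Groth.Agent.Ega2.ArcNorm.exists_val n a b
  trans n n' hn hn' := by
    have := isInvariant (V := V) (K := K) (L := L)
    refine Algebra.IsInvariant.exists_smul_of_under_eq V (integralClosure V L) (L ≃ₐ[K] L) n n' ?_
    exact (comap_eq n).trans (comap_eq n').symm
  indep := by
    intro n hn g h hne
    by_contra hcon
    push Not at hcon
    have hfr : IsFractionRing (integralClosure V L) L := integralClosure.isFractionRing_of_finite_extension K L
    let m : (L ≃ₐ[K] L) → (L ≃ₐ[K] L) → (integralClosure V L ⊗[V] integralClosure V L →ₐ[V] integralClosure V L) := fun g h =>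
      Algebra.TensorProduct.productMap (MulSemiringAction.toAlgHom V (integralClosure V L) g) (MulSemiringAction.toAlgHom V (integralClosure V L) h)
    have hm : ∀ (g h : L ≃ₐ[K] L) (a b : integralClosure V L), m g h (a ⊗ₜ b) = (g • a) * (h • b) := fun g h a b => by
      simp [m]
    obtain ⟨t, ht1, ht2⟩ := (Algebra.FormallyUnramified.iff_exists_tensorProduct (R := V) (S := integralClosure V L)).mp inferInstance
    have h1 : m g g t = 1 := by
      have : m g g = (MulSemiringAction.toAlgHom V (integralClosure V L) g).comp (Algebra.TensorProduct.lmul' V) := by
        apply Algebra.TensorProduct.ext'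
        intro a b
        rw [hm]
        simp
      rw [this, AlgHom.comp_apply, ht2, map_one]
    have h2 : m g h t = 0 := by
      obtain ⟨s, hs⟩ : ∃ s : integralClosure V L, g • s ≠ h • s := by
        by_contra hall
        push Not at hall
        apply hne
        ext x
        obtain ⟨p, q, hq, rfl⟩ := IsFractionRing.div_surjective (A := integralClosure V L) x
        rw [map_div₀, map_div₀]
        exact congrArg₂ (· / ·) (congrArg Subtype.val (hall p)) (congrArg Subtype.val (hall q))
      have h3 := congrArg (m g h) (ht1 s)
      rw [map_mul, map_sub, hm, hm, map_zero, smul_one, smul_one, one_mul, mul_one] at h3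
      rcases mul_eq_zero.mp h3 with h4 | h4
      · exact absurd (sub_eq_zero.mp h4).symm hs
      · exact h4
    have h3 : ∀ t : integralClosure V L ⊗[V] integralClosure V L, m g g t - m g h t ∈ n := by
      intro t
      induction t with
      | zero => simp
      | tmul a b =>
        rw [hm, hm, ← mul_sub]
        exact Ideal.mul_mem_left _ _ (hcon b)
      | add a b ha hb =>
        rw [map_add, map_add, add_sub_add_comm]
        exact add_mem ha hb
    have h4 := h3 t
    rw [h1, h2, sub_zero] at h4
    exact hn.ne_top ((Ideal.eq_top_iff_one n).mpr h4)

end K552.VlSt
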