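import Groth.Prelude.Def_NonAbH1

/-!
Cech classes of torsors under sheaves of groups.
-/

set_option autoImplicit false
universe w' w v u
open CategoryTheory Opposite

namespace K552.Cech

open NonAbH1

variable {C : Type u} [Category.{v} C] {J : GrothendieckTopology C} {G : Sheaf J GrpCat.{w}}

/-- the difference of two sections of a pseudo-torsor: the unique `g` with `g • p = q`. -/
noncomputable def diff {P : GSheaf G} (hP : P.IsPseudoTorsor) {V : Cᵒᵖ} (p q : P.P.obj.obj V) : G.obj.obj V :=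
  (hP V p q).choose

lemma diff_smul {P : GSheaf G} (hP : P.IsPseudoTorsor) {V : Cᵒᵖ} (p q : P.P.obj.obj V) :
    P.smul (diff hP p q) p = q := (hP V p q).choose_spec.1

lemma diff_unique {P : GSheaf G} (hP : P.IsPseudoTorsor) {V : Cᵒᵖ} {p q : P.P.obj.obj V} {g : G.obj.obj V}
    (h : P.smul g p = q) : g = diff hP p q := (hP V p q).choose_spec.2 g h

lemma smul_cancel {P : GSheaf G} (hP : P.IsPseudoTorsor) {V : Cᵒᵖ} {p : P.P.obj.obj V} {g h : G.obj.obj V}
    (e : P.smul g p = P.smul h p) : g = h := by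
  rw [diff_unique hP e, ← diff_unique hP (rfl : P.smul h p = P.smul h p)]

lemma map_diff {P : GSheaf G} (hP : P.IsPseudoTorsor) {V W : Cᵒᵖ} (f : V ⟶ W) (p q : P.P.obj.obj V) :
    G.obj.map f (diff hP p q) = diff hP (P.P.obj.map f p) (P.P.obj.map f q) := by
  apply diff_unique
  rw [← P.map_smul, diff_smul]

lemma res_comp (F : Sheaf J (Type w)) {X Y Z : C} (f : X ⟶ Y) (g : Y ⟶ Z) (p : F.obj.obj (op Z)) :
    F.obj.map (f ≫ g).op p = F.obj.map f.op (F.obj.map g.op p) := by
  rw [op_comp, Functor.map_comp]; rfl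

lemma res_id (F : Sheaf J (Type w)) {X : C} (p : F.obj.obj (op X)) :
    F.obj.map (𝟙 X).op p = p := by
  rw [op_id, CategoryTheory.Functor.map_id]; rfl

/-- The cocycle cut out by a family of sections. -/
noncomputable def cocycleOf {P : GSheaf G} (hP : P.IsPseudoTorsor) {I : Type w'} {U : I → C}
    (s : ∀ i, P.P.obj.obj (op (U i))) : PresheafOfGroups.OneCocycle G.obj U where
  ev i j T a b := diff hP (P.P.obj.map b.op (s j)) (P.P.obj.map a.op (s i))
  ev_precomp i j T T' φ a b := by
    rw [map_diff, res_comp, res_comp]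
  ev_trans i j k T a b c := by
    apply diff_unique
    rw [P.mul_smul, diff_smul, diff_smul]

lemma isCocycleOf_cocycleOf {P : GSheaf G} (hP : P.IsPseudoTorsor) {I : Type w'} {U : I → C}
    (s : ∀ i, P.P.obj.obj (op (U i))) : P.IsCocycleOf U s (cocycleOf hP s) := fun _ _ _ _ _ => diff_smul _ _ _

lemma isCohomologous_of_isCocycleOf {P : GSheaf G} (hP : P.IsPseudoTorsor) {I : Type w'} {U : I → C}
    {s s' : ∀ i, P.P.obj.obj (op (U i))} {γ γ' : PresheafOfGroups.OneCocycle G.obj U}
    (h : P.IsCocycleOf U s γ) (h' : P.IsCocycleOf U s' γ') : γ.IsCohomologous γ' := by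
  refine ⟨fun i => diff hP (s i) (s' i), fun i j T a b => ?_⟩
  apply smul_cancel hP (p := P.P.obj.map b.op (s j))
  rw [P.mul_smul, P.mul_smul, h i j a b, map_diff, map_diff, diff_smul, diff_smul, h' i j a b]

end K552.Cech
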