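import Mathlib.CategoryTheory.Sites.CoversTop.Basic
import Groth.Agent.NonAbH1.K552.Cech

/-!
Torsors with the same Cech class are isomorphic; gluing along a family of objects covering the site.
-/

set_option autoImplicit false
universe w' w v u
open CategoryTheory Opposite

namespace K552.Cech

open NonAbH1

variable {C : Type u} [Category.{v} C] {J : GrothendieckTopology C} {G : Sheaf J GrpCat.{w}}

/-- Gluing a family indexed by the objects over `V` which map to some `U i`. -/
theorem glueObjects (F : Sheaf J (Type w)) {I : Type w'} {U : I → C} (hU : J.CoversTop U) {V : C}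
    (x : ∀ ⦃W : C⦄ (_ : W ⟶ V) (i : I) (_ : W ⟶ U i), F.obj.obj (op W))
    (hind : ∀ ⦃W : C⦄ (f : W ⟶ V) (i j : I) (a : W ⟶ U i) (b : W ⟶ U j), x f i a = x f j b)
    (hnat : ∀ ⦃W W' : C⦄ (g : W' ⟶ W) (f : W ⟶ V) (i : I) (a : W ⟶ U i),
      F.obj.map g.op (x f i a) = x (g ≫ f) i (g ≫ a)) :
    ∃! t : F.obj.obj (op V), ∀ ⦃W : C⦄ (f : W ⟶ V) (i : I) (a : W ⟶ U i), F.obj.map f.op t = x f i a := by
  have hS := F.property.isSheafFor (Sieve.ofObjects U V) (hU V)
  let y : Presieve.FamilyOfElements F.obj (Sieve.ofObjects U V).arrows :=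
    fun W f hf => x f hf.choose hf.choose_spec.some
  have hy : ∀ ⦃W : C⦄ (f : W ⟶ V) (i : I) (a : W ⟶ U i), y f ⟨i, ⟨a⟩⟩ = x f i a :=
    fun W f i a => hind _ _ _ _ _
  have hc : y.Compatible := by
    intro Y₁ Y₂ Z g₁ g₂ f₁ f₂ h₁ h₂ e
    obtain ⟨i₁, ⟨a₁⟩⟩ := h₁
    obtain ⟨i₂, ⟨a₂⟩⟩ := h₂
    rw [hy f₁ i₁ a₁, hy f₂ i₂ a₂, hnat, hnat]
    have : x (g₁ ≫ f₁) i₁ (g₁ ≫ a₁) = x (g₁ ≫ f₁) i₂ (g₂ ≫ a₂) := hind _ _ _ _ _
    rw [this]
    simp only [e]
  obtain ⟨t, ht, hu⟩ := hS y hc
  refine ⟨t, fun W f i a => ?_, fun t' ht' => hu t' ?_⟩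
  · rw [ht f ⟨i, ⟨a⟩⟩, hy]
  · intro W f hf
    obtain ⟨i, ⟨a⟩⟩ := hf
    rw [hy f i a]
    exact ht' f i a

theorem extObjects (F : Sheaf J (Type w)) {I : Type w'} {U : I → C} (hU : J.CoversTop U) {V : C}
    {t t' : F.obj.obj (op V)}
    (h : ∀ ⦃W : C⦄ (f : W ⟶ V) (i : I) (_ : W ⟶ U i), F.obj.map f.op t = F.obj.map f.op t') : t = t' := by
  have hS := F.property.isSheafFor (Sieve.ofObjects U V) (hU V)
  refine hS.isSeparatedFor.ext ?_
  rintro W f ⟨i, ⟨a⟩⟩
  exact h f i a

lemma diff_smul_right {R : GSheaf G} (hR : R.IsPseudoTorsor) {V : Cᵒᵖ} (g : G.obj.obj V) (p q : R.P.obj.obj V) :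
    diff hR p (R.smul g q) = g * diff hR p q := by
  symm
  apply diff_unique
  rw [R.mul_smul, diff_smul]

section Compare

variable {P Q : GSheaf G} (hP : P.IsPseudoTorsor) (hQ : Q.IsPseudoTorsor) {I : Type w'} {U : I → C}
  (s : ∀ i, P.P.obj.obj (op (U i))) (t : ∀ i, Q.P.obj.obj (op (U i)))

/-- `p` and `q` have the same coordinates. -/
def SameCoord {V : C} (p : P.P.obj.obj (op V)) (q : Q.P.obj.obj (op V)) : Prop :=
  ∀ ⦃W : C⦄ (f : W ⟶ V) (i : I) (a : W ⟶ U i),
    diff hP (P.P.obj.map a.op (s i)) (P.P.obj.map f.op p) = diff hQ (Q.P.obj.map a.op (t i)) (Q.P.obj.map f.op q)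

variable {s t hP hQ}

lemma SameCoord.symm {V : C} {p : P.P.obj.obj (op V)} {q : Q.P.obj.obj (op V)}
    (h : SameCoord hP hQ s t p q) : SameCoord hQ hP t s q p := fun _ f i a => (h f i a).symm

lemma SameCoord.map {V V' : C} (g : V' ⟶ V) {p : P.P.obj.obj (op V)} {q : Q.P.obj.obj (op V)}
    (h : SameCoord hP hQ s t p q) : SameCoord hP hQ s t (P.P.obj.map g.op p) (Q.P.obj.map g.op q) := by
  intro W f i a
  rw [← res_comp, ← res_comp]
  exact h (f ≫ g) i a

lemma SameCoord.smul {V : C} (g : G.obj.obj (op V)) {p : P.P.obj.obj (op V)} {q : Q.P.obj.obj (op V)}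
    (h : SameCoord hP hQ s t p q) : SameCoord hP hQ s t (P.smul g p) (Q.smul g q) := by
  intro W f i a
  rw [P.map_smul, Q.map_smul, diff_smul_right, diff_smul_right, h f i a]

lemma diff_mul_ev {γ : PresheafOfGroups.OneCocycle G.obj U} (hs : P.IsCocycleOf U s γ) {W : C}
    (i j : I) (a : W ⟶ U i) (b : W ⟶ U j) (p : P.P.obj.obj (op W)) :
    diff hP (P.P.obj.map a.op (s i)) p * γ.ev i j a b = diff hP (P.P.obj.map b.op (s j)) p := by
  apply diff_unique
  rw [P.mul_smul, hs i j a b, diff_smul]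

variable (hP hQ) in
lemma existsUnique_sameCoord (hU : J.CoversTop U) {γ : PresheafOfGroups.OneCocycle G.obj U}
    (hs : P.IsCocycleOf U s γ) (ht : Q.IsCocycleOf U t γ) {V : C} (p : P.P.obj.obj (op V)) :
    ∃! q : Q.P.obj.obj (op V), SameCoord hP hQ s t p q := by
  obtain ⟨q, hq, huq⟩ := glueObjects Q.P hU (V := V)
    (fun W f i a => Q.smul (diff hP (P.P.obj.map a.op (s i)) (P.P.obj.map f.op p)) (Q.P.obj.map a.op (t i)))
    (fun W f i j a b => by
      rw [← ht i j a b, ← Q.mul_smul, diff_mul_ev hs])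
    (fun W W' g f i a => by
      rw [Q.map_smul, map_diff, res_comp, res_comp, res_comp])
  refine ⟨q, fun W f i a => ?_, fun q' hq' => huq q' fun W f i a => ?_⟩
  · apply diff_unique
    rw [hq f i a]
  · rw [hq' f i a, diff_smul]

/-- The equivariant morphism between two torsors with the same cocycle. -/
noncomputable def compareHom (hP : P.IsPseudoTorsor) (hQ : Q.IsPseudoTorsor)
    (hU : J.CoversTop U) {γ : PresheafOfGroups.OneCocycle G.obj U}
    (hs : P.IsCocycleOf U s γ) (ht : Q.IsCocycleOf U t γ) : P ⟶ Q :=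
  have hspec : ∀ {V : C} (p : P.P.obj.obj (op V)), SameCoord hP hQ s t p (existsUnique_sameCoord hP hQ hU hs ht p).choose :=
    fun p => (existsUnique_sameCoord hP hQ hU hs ht p).choose_spec.1
  have huniq : ∀ {V : C} {p : P.P.obj.obj (op V)} {q : Q.P.obj.obj (op V)}, SameCoord hP hQ s t p q →
      q = (existsUnique_sameCoord hP hQ hU hs ht p).choose :=
    fun h => (existsUnique_sameCoord hP hQ hU hs ht _).choose_spec.2 _ h
  { hom := ⟨{
      app := fun V => TypeCat.ofHom fun p => (existsUnique_sameCoord hP hQ hU hs ht (V := V.unop) p).choose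
      naturality := fun V V' f => by
        apply ConcreteCategory.hom_ext
        intro p
        exact (huniq (SameCoord.map f.unop (hspec p))).symm }⟩
    map_smul := fun g p => (huniq (SameCoord.smul g (hspec p))).symm }

lemma sameCoord_compareHom (hP : P.IsPseudoTorsor) (hQ : Q.IsPseudoTorsor)
    (hU : J.CoversTop U) {γ : PresheafOfGroups.OneCocycle G.obj U}
    (hs : P.IsCocycleOf U s γ) (ht : Q.IsCocycleOf U t γ) {V : C} (p : P.P.obj.obj (op V)) :
    SameCoord hP hQ s t p ((compareHom hP hQ hU hs ht).hom.hom.app (op V) p) :=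
  (existsUnique_sameCoord hP hQ hU hs ht p).choose_spec.1

lemma sameCoord_right_unique (hU : J.CoversTop U) {V : C} {p : P.P.obj.obj (op V)} {q q' : Q.P.obj.obj (op V)}
    (h : SameCoord hP hQ s t p q) (h' : SameCoord hP hQ s t p q') : q = q' := by
  refine extObjects Q.P hU fun W f i a => ?_
  rw [← diff_smul hQ (Q.P.obj.map a.op (t i)) (Q.P.obj.map f.op q), ← h f i a, h' f i a, diff_smul]

/-- The equivariant isomorphism between two torsors with the same cocycle. -/
noncomputable def compareIso (hP : P.IsPseudoTorsor) (hQ : Q.IsPseudoTorsor)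
    (hU : J.CoversTop U) {γ : PresheafOfGroups.OneCocycle G.obj U}
    (hs : P.IsCocycleOf U s γ) (ht : Q.IsCocycleOf U t γ) : P ≅ Q where
  hom := compareHom hP hQ hU hs ht
  inv := compareHom hQ hP hU ht hs
  hom_inv_id := by
    apply GSheaf.hom_ext
    apply Sheaf.hom_ext
    ext V p
    exact sameCoord_right_unique hU (sameCoord_compareHom hQ hP hU ht hs _) (sameCoord_compareHom hP hQ hU hs ht _).symm
  inv_hom_id := by
    apply GSheaf.hom_ext
    apply Sheaf.hom_ext
    ext V p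
    exact sameCoord_right_unique hU (sameCoord_compareHom hP hQ hU hs ht _) (sameCoord_compareHom hQ hP hU ht hs _).symm

end Compare

/-- Changing the sections changes the cocycle by a coboundary; conversely every cohomologous cocycle is cut out. -/
lemma isCocycleOf_of_isCohomologous {P : GSheaf G} {I : Type w'} {U : I → C}
    {s : ∀ i, P.P.obj.obj (op (U i))} {γ γ' : PresheafOfGroups.OneCocycle G.obj U}
    (h : P.IsCocycleOf U s γ) {α : PresheafOfGroups.ZeroCochain G.obj U}
    (hα : PresheafOfGroups.OneCohomologyRelation γ.toOneCochain γ'.toOneCochain α) :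
    P.IsCocycleOf U (fun i => P.smul (α i) (s i)) γ' := by
  intro i j T a b
  rw [P.map_smul, P.map_smul, ← h i j a b, ← P.mul_smul, ← P.mul_smul, hα i j a b]

end K552.Cech
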