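import Mathlib.CategoryTheory.Sites.CoversTop.Basic
import Groth.Agent.NonAbH1.K552.Cech2

/-!
The torsor attached to a Cech cocycle.
-/

set_option autoImplicit false
universe w' w v u
open CategoryTheory Opposite

namespace K552.Cech

open NonAbH1

variable {C : Type u} [Category.{v} C] {J : GrothendieckTopology C}

/-- Gluing along a covering sieve. -/
theorem glueSieve (F : Sheaf J (Type w)) {V : C} {S : Sieve V} (hS : S ∈ J V)
    (x : ∀ ⦃W : C⦄ (f : W ⟶ V), S f → F.obj.obj (op W))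
    (hnat : ∀ ⦃W W' : C⦄ (g : W' ⟶ W) (f : W ⟶ V) (hf : S f),
      F.obj.map g.op (x f hf) = x (g ≫ f) (S.downward_closed hf g)) :
    ∃! t : F.obj.obj (op V), ∀ ⦃W : C⦄ (f : W ⟶ V) (hf : S f), F.obj.map f.op t = x f hf := by
  refine F.property.isSheafFor S hS (fun W f hf => x f hf) ?_
  intro Y₁ Y₂ Z g₁ g₂ f₁ f₂ h₁ h₂ e
  rw [hnat, hnat]
  simp only [e]

variable (G : Sheaf J GrpCat.{w})

/-- gluing in the sheaf of groups -/
theorem glueSieveGrp {V : C} {S : Sieve V} (hS : S ∈ J V)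
    (x : ∀ ⦃W : C⦄ (f : W ⟶ V), S f → G.obj.obj (op W))
    (hnat : ∀ ⦃W W' : C⦄ (g : W' ⟶ W) (f : W ⟶ V) (hf : S f),
      G.obj.map g.op (x f hf) = x (g ≫ f) (S.downward_closed hf g)) :
    ∃! t : G.obj.obj (op V), ∀ ⦃W : C⦄ (f : W ⟶ V) (hf : S f), G.obj.map f.op t = x f hf :=
  glueSieve ((sheafCompose J (forget GrpCat.{w})).obj G) hS x hnat

theorem glueObjectsGrp {I : Type w'} {U : I → C} (hU : J.CoversTop U) {V : C}
    (x : ∀ ⦃W : C⦄ (_ : W ⟶ V) (i : I) (_ : W ⟶ U i), G.obj.obj (op W))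
    (hind : ∀ ⦃W : C⦄ (f : W ⟶ V) (i j : I) (a : W ⟶ U i) (b : W ⟶ U j), x f i a = x f j b)
    (hnat : ∀ ⦃W W' : C⦄ (g : W' ⟶ W) (f : W ⟶ V) (i : I) (a : W ⟶ U i),
      G.obj.map g.op (x f i a) = x (g ≫ f) i (g ≫ a)) :
    ∃! t : G.obj.obj (op V), ∀ ⦃W : C⦄ (f : W ⟶ V) (i : I) (a : W ⟶ U i), G.obj.map f.op t = x f i a :=
  glueObjects ((sheafCompose J (forget GrpCat.{w})).obj G) hU x hind hnat

theorem extObjectsGrp {I : Type w'} {U : I → C} (hU : J.CoversTop U) {V : C}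
    {t t' : G.obj.obj (op V)}
    (h : ∀ ⦃W : C⦄ (f : W ⟶ V) (i : I) (_ : W ⟶ U i), G.obj.map f.op t = G.obj.map f.op t') : t = t' :=
  extObjects ((sheafCompose J (forget GrpCat.{w})).obj G) hU h

theorem extSieveGrp {V : C} {S : Sieve V} (hS : S ∈ J V) {t t' : G.obj.obj (op V)}
    (h : ∀ ⦃W : C⦄ (f : W ⟶ V) (_ : S f), G.obj.map f.op t = G.obj.map f.op t') : t = t' :=
  (((sheafCompose J (forget GrpCat.{w})).obj G).property.isSheafFor S hS).isSeparatedFor.ext h

lemma resG_comp {X Y Z : C} (f : X ⟶ Y) (g : Y ⟶ Z) (p : G.obj.obj (op Z)) :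
    G.obj.map (f ≫ g).op p = G.obj.map f.op (G.obj.map g.op p) := by
  rw [op_comp, Functor.map_comp]; rfl

lemma resG_id {X : C} (p : G.obj.obj (op X)) : G.obj.map (𝟙 X).op p = p := by
  rw [op_id, CategoryTheory.Functor.map_id]; rfl

variable {G} {I : Type w'} {U : I → C} (γ : PresheafOfGroups.OneCocycle G.obj U)

/-- Sections over `V` of the sheaf attached to a cocycle. -/
structure TwSec (V : C) where
  x : ∀ ⦃W : C⦄ (_ : W ⟶ V) (i : I) (_ : W ⟶ U i), G.obj.obj (op W)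
  nat : ∀ ⦃W W' : C⦄ (g : W' ⟶ W) (f : W ⟶ V) (i : I) (a : W ⟶ U i),
      G.obj.map g.op (x f i a) = x (g ≫ f) i (g ≫ a)
  coc : ∀ ⦃W : C⦄ (f : W ⟶ V) (i j : I) (a : W ⟶ U i) (b : W ⟶ U j), x f i a * γ.ev i j a b = x f j b

namespace TwSec

variable {γ}

lemma ext' {V : C} {s t : TwSec γ V} (h : ∀ ⦃W : C⦄ (f : W ⟶ V) (i : I) (a : W ⟶ U i), s.x f i a = t.x f i a) :
    s = t := by
  cases s; cases t
  congr
  funext W f i a
  exact h f i a

/-- restriction -/
def res {V V' : C} (g : V' ⟶ V) (s : TwSec γ V) : TwSec γ V' where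
  x W f i a := s.x (f ≫ g) i a
  nat W W' g' f i a := by rw [s.nat, Category.assoc]
  coc W f i j a b := s.coc _ i j a b

@[simp] lemma res_x {V V' : C} (g : V' ⟶ V) (s : TwSec γ V) {W : C} (f : W ⟶ V') (i : I) (a : W ⟶ U i) :
    (s.res g).x f i a = s.x (f ≫ g) i a := rfl

lemma res_id' {V : C} (s : TwSec γ V) : s.res (𝟙 V) = s := ext' fun W f i a => by simp

lemma res_comp' {V V' V'' : C} (g : V' ⟶ V) (g' : V'' ⟶ V') (s : TwSec γ V) :
    s.res (g' ≫ g) = (s.res g).res g' := ext' fun W f i a => by simp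

/-- the action -/
def act {V : C} (g : G.obj.obj (op V)) (s : TwSec γ V) : TwSec γ V where
  x W f i a := G.obj.map f.op g * s.x f i a
  nat W W' g' f i a := by rw [map_mul, s.nat, resG_comp]
  coc W f i j a b := by rw [mul_assoc, s.coc]

@[simp] lemma act_x {V : C} (g : G.obj.obj (op V)) (s : TwSec γ V) {W : C} (f : W ⟶ V) (i : I) (a : W ⟶ U i) :
    (s.act g).x f i a = G.obj.map f.op g * s.x f i a := rfl

lemma one_act {V : C} (s : TwSec γ V) : s.act 1 = s := ext' fun W f i a => by simp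

lemma mul_act {V : C} (g h : G.obj.obj (op V)) (s : TwSec γ V) : s.act (g * h) = (s.act h).act g :=
  ext' fun W f i a => by simp [mul_assoc]

lemma res_act {V V' : C} (f : V' ⟶ V) (g : G.obj.obj (op V)) (s : TwSec γ V) :
    (s.act g).res f = (s.res f).act (G.obj.map f.op g) :=
  ext' fun W k i a => by rw [res_x, act_x, act_x, resG_comp, res_x]

lemma existsUnique_act (hU : J.CoversTop U) {V : C} (s t : TwSec γ V) : ∃! g : G.obj.obj (op V), s.act g = t := by
  obtain ⟨g, hg, hu⟩ := glueObjectsGrp G hU (V := V) (fun W f i a => t.x f i a * (s.x f i a)⁻¹)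
    (fun W f i j a b => by rw [← s.coc f i j a b, ← t.coc f i j a b, mul_inv_rev, ← mul_assoc, mul_inv_cancel_right])
    (fun W W' g f i a => by rw [map_mul, map_inv, t.nat, s.nat])
  refine ⟨g, ext' fun W f i a => ?_, fun g' hg' => hu g' fun W f i a => ?_⟩
  · rw [act_x, hg f i a, inv_mul_cancel_right]
  · rw [← hg', act_x, mul_inv_cancel_right]

variable (γ) in
/-- The tautological section over objects above `U i`. -/
def taut (i : I) : TwSec γ (U i) where
  x _ f j b := γ.ev i j f b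
  nat W W' g f j b := by rw [γ.ev_precomp]
  coc W f j k a b := γ.ev_trans i j k f a b

@[simp] lemma taut_x (i j : I) {W : C} (f : W ⟶ U i) (b : W ⟶ U j) : (taut γ i).x f j b = γ.ev i j f b := rfl

lemma small (hU : J.CoversTop U) (V : C) : Small.{w} (TwSec γ V) := by
  rcases isEmpty_or_nonempty (TwSec γ V) with h | ⟨⟨s⟩⟩
  · infer_instance
  · exact small_of_surjective (f := fun g : G.obj.obj (op V) => s.act g)
      fun t => (existsUnique_act hU s t).exists

end TwSec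

end K552.Cech
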