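import Groth.Agent.NonAbH1.K552.Cech3

/-!
The torsor attached to a Cech cocycle, continued.
-/

set_option autoImplicit false
universe w' w v u
open CategoryTheory Opposite

namespace K552.Cech

open NonAbH1

variable {C : Type u} [Category.{v} C] {J : GrothendieckTopology C}
variable {G : Sheaf J GrpCat.{w}} {I : Type w'} {U : I → C} (γ : PresheafOfGroups.OneCocycle G.obj U)

/-- the twisted presheaf -/
noncomputable def twPsh (hU : J.CoversTop U) : Cᵒᵖ ⥤ Type w where
  obj V := haveI := TwSec.small (γ := γ) hU V.unop; Shrink.{w} (TwSec γ V.unop)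
  map {V V'} f := TypeCat.ofHom fun s =>
    haveI := TwSec.small (γ := γ) hU V.unop
    haveI := TwSec.small (γ := γ) hU V'.unop
    equivShrink _ (((equivShrink _).symm s).res f.unop)
  map_id V := by
    apply ConcreteCategory.hom_ext
    intro s
    haveI := TwSec.small (γ := γ) hU V.unop
    change equivShrink _ (((equivShrink _).symm s).res (𝟙 V.unop)) = s
    rw [TwSec.res_id', Equiv.apply_symm_apply]
  map_comp {V V' V''} f g := by
    apply ConcreteCategory.hom_ext
    intro s
    haveI := TwSec.small (γ := γ) hU V.unop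
    haveI := TwSec.small (γ := γ) hU V'.unop
    haveI := TwSec.small (γ := γ) hU V''.unop
    change equivShrink _ (((equivShrink _).symm s).res (g.unop ≫ f.unop)) =
      equivShrink _ (((equivShrink _).symm (equivShrink _ (((equivShrink _).symm s).res f.unop))).res g.unop)
    rw [TwSec.res_comp', Equiv.symm_apply_apply]

/-- sections of the twisted presheaf -/
noncomputable def twEquiv (hU : J.CoversTop U) (V : C) : TwSec γ V ≃ (twPsh γ hU).obj (op V) :=
  haveI := TwSec.small (γ := γ) hU V; equivShrink _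

lemma twPsh_map_twEquiv (hU : J.CoversTop U) {V V' : C} (f : V' ⟶ V) (s : TwSec γ V) :
    (twPsh γ hU).map f.op (twEquiv γ hU V s) = twEquiv γ hU V' (s.res f) := by
  haveI := TwSec.small (γ := γ) hU V
  haveI := TwSec.small (γ := γ) hU V'
  change equivShrink _ (((equivShrink _).symm (equivShrink _ s)).res f) = equivShrink _ (s.res f)
  rw [Equiv.symm_apply_apply]

lemma twEquiv_symm_map (hU : J.CoversTop U) {V V' : C} (f : V' ⟶ V) (s : (twPsh γ hU).obj (op V)) :
    (twEquiv γ hU V').symm ((twPsh γ hU).map f.op s) = ((twEquiv γ hU V).symm s).res f := by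
  obtain ⟨s, rfl⟩ := (twEquiv γ hU V).surjective s
  rw [twPsh_map_twEquiv, Equiv.symm_apply_apply, Equiv.symm_apply_apply]

/-- gluing sections of the twisted presheaf -/
lemma twGlue {V : C} {S : Sieve V} (hS : S ∈ J V)
    (y : ∀ ⦃W : C⦄ (f : W ⟶ V), S f → TwSec γ W)
    (hnat : ∀ ⦃W W' : C⦄ (g : W' ⟶ W) (f : W ⟶ V) (hf : S f),
      (y f hf).res g = y (g ≫ f) (S.downward_closed hf g)) :
    ∃! t : TwSec γ V, ∀ ⦃W : C⦄ (f : W ⟶ V) (hf : S f), t.res f = y f hf := by
  have hcongr : ∀ ⦃W : C⦄ (f f' : W ⟶ V) (hf : S f) (hf' : S f') (_ : f = f'), y f hf = y f' hf' := by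
    rintro W f f' hf hf' rfl; rfl
  have hnat' : ∀ ⦃W W' : C⦄ (g : W' ⟶ W) (f : W ⟶ V) (hf : S f) ⦃T : C⦄ (k : T ⟶ W') (i : I) (a : T ⟶ U i),
      (y (g ≫ f) (S.downward_closed hf g)).x k i a = (y f hf).x (k ≫ g) i a := by
    intro W W' g f hf T k i a
    rw [← hnat g f hf]; rfl
  -- the local gluing
  have key : ∀ ⦃W : C⦄ (f : W ⟶ V) (i : I) (a : W ⟶ U i), ∃! z : G.obj.obj (op W),
      ∀ ⦃T : C⦄ (g : T ⟶ W) (hg : (S.pullback f) g), G.obj.map g.op z = (y (g ≫ f) hg).x (𝟙 T) i (g ≫ a) := by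
    intro W f i a
    refine glueSieveGrp G (J.pullback_stable f hS) (fun T g hg => (y (g ≫ f) hg).x (𝟙 T) i (g ≫ a)) ?_
    intro T T' k g hg
    rw [(y (g ≫ f) hg).nat]
    have e := hcongr ((k ≫ g) ≫ f) (k ≫ (g ≫ f)) ((S.pullback f).downward_closed hg k)
      (S.downward_closed hg k) (by simp)
    rw [e, hnat' k (g ≫ f) hg, Category.comp_id, Category.id_comp, Category.assoc]
  choose z hz hzu using key
  simp only at hz hzu
  let t : TwSec γ V :=
    { x := fun W f i a => z f i a
      nat := by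
        intro W W' g f i a
        refine hzu (g ≫ f) i (g ≫ a) _ ?_
        intro T k hk
        rw [← resG_comp, hz f i a (k ≫ g) (by simpa using hk)]
        rw [hcongr ((k ≫ g) ≫ f) (k ≫ (g ≫ f)) _ hk (by simp), Category.assoc]
      coc := by
        intro W f i j a b
        refine hzu f j b _ ?_
        intro T k hk
        rw [map_mul, hz f i a k hk, γ.ev_precomp]
        exact (y (k ≫ f) hk).coc _ _ _ _ _ }
  refine ⟨t, ?_, ?_⟩
  · intro W f hf
    refine TwSec.ext' fun T k i a => ?_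
    change z (k ≫ f) i a = (y f hf).x k i a
    symm
    refine hzu (k ≫ f) i a _ ?_
    intro T' g hg
    rw [(y f hf).nat]
    rw [hcongr (g ≫ k ≫ f) ((g ≫ k) ≫ f) hg (by simpa using hg) (by simp), hnat' (g ≫ k) f hf, Category.id_comp]
  · intro t' ht'
    refine TwSec.ext' fun T k i a => ?_
    change t'.x k i a = z k i a
    refine hzu k i a _ ?_
    intro T' g hg
    rw [t'.nat, ← ht' _ hg, TwSec.res_x, Category.id_comp]

/-- the twisted sheaf -/
noncomputable def twSheaf (hU : J.CoversTop U) : Sheaf J (Type w) :=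
  ⟨twPsh γ hU, by
    rw [isSheaf_iff_isSheaf_of_type]
    intro V S hS y hy
    obtain ⟨t, ht, htu⟩ := twGlue γ hS (fun W f hf => (twEquiv γ hU W).symm (y f hf)) (by
      intro W W' g f hf
      rw [← twEquiv_symm_map]
      congr 1
      have := hy g (𝟙 _) hf (S.downward_closed hf g) (by simp)
      rw [this]
      change (twPsh γ hU).map (𝟙 _) _ = _
      rw [CategoryTheory.Functor.map_id]
      rfl)
    refine ⟨twEquiv γ hU V t, ?_, ?_⟩
    · intro W f hf
      rw [twPsh_map_twEquiv, ht f hf, Equiv.apply_symm_apply]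
    · intro t' ht'
      rw [← htu ((twEquiv γ hU V).symm t'), Equiv.apply_symm_apply]
      intro W f hf
      rw [← twEquiv_symm_map, ht' f hf]⟩

/-- the twisted G-sheaf -/
noncomputable def twGSheaf (hU : J.CoversTop U) : GSheaf G where
  P := twSheaf γ hU
  smul {V} g s := twEquiv γ hU V.unop (((twEquiv γ hU V.unop).symm s).act g)
  one_smul s := by rw [TwSec.one_act, Equiv.apply_symm_apply]
  mul_smul g h s := by rw [TwSec.mul_act, Equiv.symm_apply_apply]
  map_smul {V V'} f g s := by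
    change (twPsh γ hU).map f.unop.op _ = twEquiv γ hU V'.unop (((twEquiv γ hU V'.unop).symm ((twPsh γ hU).map f.unop.op s)).act _)
    rw [twPsh_map_twEquiv, TwSec.res_act, twEquiv_symm_map]
    rfl

lemma twGSheaf_smul (hU : J.CoversTop U) {V : C} (g : G.obj.obj (op V)) (s : TwSec γ V) :
    (twGSheaf γ hU).smul (U := op V) g (twEquiv γ hU V s) = twEquiv γ hU V (s.act g) := by
  change twEquiv γ hU V (((twEquiv γ hU V).symm (twEquiv γ hU V s)).act g) = _
  rw [Equiv.symm_apply_apply]

lemma isPseudoTorsor_twGSheaf (hU : J.CoversTop U) : (twGSheaf γ hU).IsPseudoTorsor := by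
  rintro ⟨V⟩ p q
  obtain ⟨p, rfl⟩ := (twEquiv γ hU V).surjective p
  obtain ⟨q, rfl⟩ := (twEquiv γ hU V).surjective q
  obtain ⟨g, hg, hu⟩ := TwSec.existsUnique_act hU p q
  refine ⟨g, ?_, ?_⟩
  · change (twGSheaf γ hU).smul (U := op V) g (twEquiv γ hU V p) = _
    rw [twGSheaf_smul, hg]
  · intro g' hg'
    change (twGSheaf γ hU).smul (U := op V) g' (twEquiv γ hU V p) = _ at hg'
    rw [twGSheaf_smul] at hg'
    exact hu g' ((twEquiv γ hU V).injective hg')

lemma isTorsor_twGSheaf (hU : J.CoversTop U) : (twGSheaf γ hU).IsTorsor := by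
  refine ⟨isPseudoTorsor_twGSheaf γ hU, fun V => ⟨Sieve.ofObjects U V, hU V, ?_⟩⟩
  rintro W f ⟨i, ⟨a⟩⟩
  exact ⟨twEquiv γ hU W ((TwSec.taut γ i).res a)⟩

/-- the twisted torsor -/
noncomputable def twTorsor (hU : J.CoversTop U) : Torsor G := ⟨twGSheaf γ hU, isTorsor_twGSheaf γ hU⟩

lemma isCocycleOf_taut (hU : J.CoversTop U) :
    (twGSheaf γ hU).IsCocycleOf U (fun i => twEquiv γ hU (U i) (TwSec.taut γ i)) γ := by
  intro i j T a b
  change (twGSheaf γ hU).smul (U := op T) (γ.ev i j a b) ((twPsh γ hU).map b.op (twEquiv γ hU (U j) (TwSec.taut γ j))) =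
    (twPsh γ hU).map a.op (twEquiv γ hU (U i) (TwSec.taut γ i))
  rw [twPsh_map_twEquiv, twPsh_map_twEquiv, twGSheaf_smul]
  congr 1
  refine TwSec.ext' fun W f k c => ?_
  rw [TwSec.act_x, TwSec.res_x, TwSec.res_x, TwSec.taut_x, TwSec.taut_x, γ.ev_precomp, γ.ev_trans]

end K552.Cech
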