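import Groth.Agent.NonAbH1.K552.Push
import Groth.Agent.FlatA.GlueTwo

/-!
# Zariski gluing of schemes with action along two opens
-/

set_option autoImplicit false
universe u

open CategoryTheory CategoryTheory.Limits MonoidalCategory CartesianMonoidalCategory MonObj GrpObj AlgebraicGeometry
open Groth.Agent.Books.BorelOrb

namespace K552.Glue

section Sch

/-- the open cover given by two open immersions -/
noncomputable def cov {X X₁ X₂ : Scheme.{u}} (o₁ : X₁ ⟶ X) (o₂ : X₂ ⟶ X)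
    [IsOpenImmersion o₁] [IsOpenImmersion o₂]
    (hcov : ∀ x : X, x ∈ Set.range o₁ ∨ x ∈ Set.range o₂) : X.OpenCover :=
  Scheme.Cover.mkOfCovers (J := WalkingPair) (fun b => b.rec X₁ X₂)
    (fun b => WalkingPair.rec (motive := fun b => (WalkingPair.rec X₁ X₂ b : Scheme.{u}) ⟶ X) o₁ o₂ b)
    (fun x => (hcov x).elim (fun ⟨y, hy⟩ => ⟨.left, y, hy⟩) (fun ⟨y, hy⟩ => ⟨.right, y, hy⟩))
    (fun b => by cases b <;> infer_instance)

variable {X X₁ X₂ Y : Scheme.{u}} (o₁ : X₁ ⟶ X) (o₂ : X₂ ⟶ X) [IsOpenImmersion o₁] [IsOpenImmersion o₂]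
    (hcov : ∀ x : X, x ∈ Set.range o₁ ∨ x ∈ Set.range o₂)

include hcov

theorem hom_ext_two {f g : X ⟶ Y} (h₁ : o₁ ≫ f = o₁ ≫ g) (h₂ : o₂ ≫ f = o₂ ≫ g) : f = g := by
  apply Scheme.Cover.hom_ext (cov o₁ o₂ hcov)
  rintro (_ | _)
  · exact h₁
  · exact h₂

theorem exists_glue_two (f₁ : X₁ ⟶ Y) (f₂ : X₂ ⟶ Y)
    (h : ∀ {Z : Scheme.{u}} (a : Z ⟶ X₁) (b : Z ⟶ X₂), a ≫ o₁ = b ≫ o₂ → a ≫ f₁ = b ≫ f₂) :
    ∃ f : X ⟶ Y, o₁ ≫ f = f₁ ∧ o₂ ≫ f = f₂ := by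
  let 𝒰 := cov o₁ o₂ hcov
  let F : ∀ i, 𝒰.X i ⟶ Y := fun i => by
    cases i
    · exact f₁
    · exact f₂
  have hF : ∀ i j, pullback.fst (𝒰.f i) (𝒰.f j) ≫ F i = pullback.snd _ _ ≫ F j := by
    rintro (_ | _) (_ | _)
    · have : pullback.fst o₁ o₁ = pullback.snd _ _ := by
        rw [← cancel_mono o₁, pullback.condition]
      exact congr($this ≫ f₁)
    · exact h _ _ pullback.condition
    · exact (h _ _ pullback.condition.symm).symm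
    · have : pullback.fst o₂ o₂ = pullback.snd _ _ := by
        rw [← cancel_mono o₂, pullback.condition]
      exact congr($this ≫ f₂)
  exact ⟨𝒰.glueMorphisms F hF, 𝒰.ι_glueMorphisms F hF .left, 𝒰.ι_glueMorphisms F hF .right⟩

end Sch

section Over

variable {B U₁ U₂ : Scheme.{u}} (i₁ : U₁ ⟶ B) (i₂ : U₂ ⟶ B) [IsOpenImmersion i₁] [IsOpenImmersion i₂]
  (hcov : ∀ x : B, x ∈ Set.range i₁ ∨ x ∈ Set.range i₂)

instance isOpenImmersion_fst {U : Scheme.{u}} (i : U ⟶ B) [IsOpenImmersion i] (T : Over B) :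
    IsOpenImmersion (fst T (Over.mk i)).left := by
  change IsOpenImmersion (pullback.fst T.hom i)
  infer_instance

lemma mono_over {U : Scheme.{u}} (i : U ⟶ B) [IsOpenImmersion i] {T : Over B} (a b : T ⟶ Over.mk i) : a = b := by
  ext
  rw [← cancel_mono i]
  exact (Over.w a).trans (Over.w b).symm

lemma mem_range_fst {U : Scheme.{u}} (i : U ⟶ B) [IsOpenImmersion i] (T : Over B) (x : T.left)
    (hx : T.hom x ∈ Set.range i) : x ∈ Set.range (fst T (Over.mk i)).left := by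
  change x ∈ Set.range (pullback.fst T.hom i)
  obtain ⟨u, hu⟩ := hx
  obtain ⟨z, hz, -⟩ := Scheme.Pullback.exists_preimage_pullback x u hu.symm
  exact ⟨z, hz⟩

include hcov in
lemma cov_fst (T : Over B) (x : T.left) :
    x ∈ Set.range (fst T (Over.mk i₁)).left ∨ x ∈ Set.range (fst T (Over.mk i₂)).left := by
  rcases hcov (T.hom x) with h | h
  · exact Or.inl (mem_range_fst i₁ T x h)
  · exact Or.inr (mem_range_fst i₂ T x h)

include hcov in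
/-- morphisms out of `T` are determined on the two opens. -/
theorem over_hom_ext {T X : Over B} {x y : T ⟶ X} (h₁ : fst T (Over.mk i₁) ≫ x = fst T (Over.mk i₁) ≫ y)
    (h₂ : fst T (Over.mk i₂) ≫ x = fst T (Over.mk i₂) ≫ y) : x = y := by
  ext
  refine hom_ext_two (fst T (Over.mk i₁)).left (fst T (Over.mk i₂)).left (cov_fst i₁ i₂ hcov T) ?_ ?_
  · simpa using congrArg (fun f => f.left) h₁
  · simpa using congrArg (fun f => f.left) h₂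

include hcov in
/-- morphisms can be glued along the two opens -/
theorem over_exists_glue {T X : Over B} (x₁ : T ⊗ Over.mk i₁ ⟶ X) (x₂ : T ⊗ Over.mk i₂ ⟶ X)
    (h : ∀ {Z : Over B} (a : Z ⟶ T ⊗ Over.mk i₁) (b : Z ⟶ T ⊗ Over.mk i₂), a ≫ fst _ _ = b ≫ fst _ _ →
      a ≫ x₁ = b ≫ x₂) :
    ∃ x : T ⟶ X, fst T (Over.mk i₁) ≫ x = x₁ ∧ fst T (Over.mk i₂) ≫ x = x₂ := by
  obtain ⟨f, hf₁, hf₂⟩ := exists_glue_two (fst T (Over.mk i₁)).left (fst T (Over.mk i₂)).left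
    (cov_fst i₁ i₂ hcov T) x₁.left x₂.left (by
      intro Z a b e
      let a' : Over.mk (a ≫ (T ⊗ Over.mk i₁).hom) ⟶ T ⊗ Over.mk i₁ := Over.homMk a rfl
      let b' : Over.mk (a ≫ (T ⊗ Over.mk i₁).hom) ⟶ T ⊗ Over.mk i₂ := Over.homMk b (by
        have e1 := Over.w (fst T (Over.mk i₁))
        have e2 := Over.w (fst T (Over.mk i₂))
        rw [← e1, ← e2, ← Category.assoc, ← Category.assoc, e]
        rfl)
      have := h a' b' (by ext; simpa [a', b'] using e)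
      simpa [a', b'] using congrArg (fun f => f.left) this)
  have hw : f ≫ X.hom = T.hom := by
    refine hom_ext_two (fst T (Over.mk i₁)).left (fst T (Over.mk i₂)).left (cov_fst i₁ i₂ hcov T) ?_ ?_
    · rw [← Category.assoc, hf₁, Over.w, Over.w]
    · rw [← Category.assoc, hf₂, Over.w, Over.w]
  exact ⟨Over.homMk f hw, by ext; simpa using hf₁, by ext; simpa using hf₂⟩

end Over

section Act

variable {B U₁ U₂ : Scheme.{u}} (i₁ : U₁ ⟶ B) (i₂ : U₂ ⟶ B) [IsOpenImmersion i₁] [IsOpenImmersion i₂]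
  (hcov : ∀ x : B, x ∈ Set.range i₁ ∨ x ∈ Set.range i₂)
  {G P Q₁ Q₂ : Over B} [GrpObj G] (j₁ : Q₁ ⟶ P) (j₂ : Q₂ ⟶ P)
  (p₁ : Q₁ ⟶ Over.mk i₁) (p₂ : Q₂ ⟶ Over.mk i₂)
  [Mono j₁] [Mono j₂]
  (hl₁ : ∀ {T : Over B} (x : T ⟶ P) (_ : T ⟶ Over.mk i₁), ∃ q : T ⟶ Q₁, q ≫ j₁ = x)
  (hl₂ : ∀ {T : Over B} (x : T ⟶ P) (_ : T ⟶ Over.mk i₂), ∃ q : T ⟶ Q₂, q ≫ j₂ = x)
  (a₁ : AlgGrp.Action G Q₁) (a₂ : AlgGrp.Action G Q₂)
  (hc : ∀ {T : Over B} (g : T ⟶ G) (q₁ : T ⟶ Q₁) (q₂ : T ⟶ Q₂), q₁ ≫ j₁ = q₂ ≫ j₂ →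
    sm a₁ g q₁ ≫ j₁ = sm a₂ g q₂ ≫ j₂)

include hcov p₁ p₂ hl₁ hl₂ hc in
/-- The glued action on points. -/
theorem exists_point {T : Over B} (g : T ⟶ G) (x : T ⟶ P) :
    ∃ y : T ⟶ P, (∀ {T' : Over B} (t : T' ⟶ T) (q : T' ⟶ Q₁), t ≫ x = q ≫ j₁ → t ≫ y = sm a₁ (t ≫ g) q ≫ j₁) ∧
      (∀ {T' : Over B} (t : T' ⟶ T) (q : T' ⟶ Q₂), t ≫ x = q ≫ j₂ → t ≫ y = sm a₂ (t ≫ g) q ≫ j₂) := by
  obtain ⟨q₁, hq₁⟩ := hl₁ (fst T (Over.mk i₁) ≫ x) (snd _ _)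
  obtain ⟨q₂, hq₂⟩ := hl₂ (fst T (Over.mk i₂) ≫ x) (snd _ _)
  obtain ⟨y, hy₁, hy₂⟩ := over_exists_glue i₁ i₂ hcov (T := T) (sm a₁ (fst T (Over.mk i₁) ≫ g) q₁ ≫ j₁)
    (sm a₂ (fst T (Over.mk i₂) ≫ g) q₂ ≫ j₂) (by
      intro Z a b e
      rw [← Category.assoc, ← Category.assoc, comp_sm, comp_sm, ← Category.assoc, ← Category.assoc, e]
      refine hc _ _ _ ?_
      rw [Category.assoc, Category.assoc, hq₁, hq₂, ← Category.assoc, ← Category.assoc, e])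
  refine ⟨y, ?_, ?_⟩
  · intro T' t q hq
    -- compare on the two opens; `T'` maps to `U₁`
    have hT : t = lift t (q ≫ p₁) ≫ fst T (Over.mk i₁) := (lift_fst _ _).symm
    have h1 : lift t (q ≫ p₁) ≫ q₁ = q := by
      rw [← cancel_mono j₁, Category.assoc, hq₁, ← Category.assoc, lift_fst, hq]
    conv_lhs => rw [hT]
    rw [Category.assoc, hy₁, ← Category.assoc, comp_sm, h1, ← Category.assoc, lift_fst]
  · intro T' t q hq
    have hT : t = lift t (q ≫ p₂) ≫ fst T (Over.mk i₂) := (lift_fst _ _).symm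
    have h1 : lift t (q ≫ p₂) ≫ q₂ = q := by
      rw [← cancel_mono j₂, Category.assoc, hq₂, ← Category.assoc, lift_fst, hq]
    conv_lhs => rw [hT]
    rw [Category.assoc, hy₂, ← Category.assoc, comp_sm, h1, ← Category.assoc, lift_fst]

include hcov p₁ p₂ hl₁ hl₂ hc in
/-- **Gluing of actions**: `P` is covered by the two opens `Q₁`, `Q₂` (the parts over `U₁`, `U₂`) which carry
compatible actions of `G`; then so does `P`. -/
theorem exists_action : ∃ a : AlgGrp.Action G P,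
    (∀ {T : Over B} (g : T ⟶ G) (q : T ⟶ Q₁), sm a g (q ≫ j₁) = sm a₁ g q ≫ j₁) ∧
    (∀ {T : Over B} (g : T ⟶ G) (q : T ⟶ Q₂), sm a g (q ≫ j₂) = sm a₂ g q ≫ j₂) := by
  choose s hs₁ hs₂ using fun (T : Over B) (g : T ⟶ G) (x : T ⟶ P) =>
    exists_point i₁ i₂ hcov j₁ j₂ p₁ p₂ hl₁ hl₂ a₁ a₂ hc g x
  -- uniqueness
  have hu : ∀ {T : Over B} (g : T ⟶ G) (x y : T ⟶ P),
      (∀ {T' : Over B} (t : T' ⟶ T) (q : T' ⟶ Q₁), t ≫ x = q ≫ j₁ → t ≫ y = sm a₁ (t ≫ g) q ≫ j₁) →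
      (∀ {T' : Over B} (t : T' ⟶ T) (q : T' ⟶ Q₂), t ≫ x = q ≫ j₂ → t ≫ y = sm a₂ (t ≫ g) q ≫ j₂) →
      y = s T g x := by
    intro T g x y h₁ h₂
    refine over_hom_ext i₁ i₂ hcov ?_ ?_
    · obtain ⟨q, hq⟩ := hl₁ (fst T (Over.mk i₁) ≫ x) (snd _ _)
      rw [h₁ _ q hq.symm, hs₁ _ _ _ _ q hq.symm]
    · obtain ⟨q, hq⟩ := hl₂ (fst T (Over.mk i₂) ≫ x) (snd _ _)
      rw [h₂ _ q hq.symm, hs₂ _ _ _ _ q hq.symm]
  let a : AlgGrp.Action G P := K552.Push.ofPoints (fun {T} g x => s T g x)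
    (by
      intro T T' t g x
      refine hu _ _ _ ?_ ?_
      · intro T'' t' q hq
        rw [← Category.assoc, ← Category.assoc]
        refine hs₁ _ _ _ _ _ ?_
        rw [Category.assoc, hq]
      · intro T'' t' q hq
        rw [← Category.assoc, ← Category.assoc]
        refine hs₂ _ _ _ _ _ ?_
        rw [Category.assoc, hq])
    (by
      intro T x
      refine (hu _ _ _ ?_ ?_).symm
      · intro T' t q hq
        rw [comp_one, one_sm, hq]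
      · intro T' t q hq
        rw [comp_one, one_sm, hq])
    (by
      intro T g h x
      refine (hu _ _ _ ?_ ?_).symm
      · intro T' t q hq
        have h1 := hs₁ _ h x t q hq
        rw [hs₁ _ _ _ _ _ h1, comp_mul, mul_sm]
      · intro T' t q hq
        have h1 := hs₂ _ h x t q hq
        rw [hs₂ _ _ _ _ _ h1, comp_mul, mul_sm])
  have ha : ∀ {T : Over B} (g : T ⟶ G) (x : T ⟶ P), sm a g x = s T g x := fun g x =>
    K552.Push.sm_ofPoints _ _ _ _ _ _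
  refine ⟨a, ?_, ?_⟩
  · intro T g q
    rw [ha]
    have := hs₁ _ g (q ≫ j₁) (𝟙 _) q (Category.id_comp _)
    simpa using this
  · intro T g q
    rw [ha]
    have := hs₂ _ g (q ≫ j₂) (𝟙 _) q (Category.id_comp _)
    simpa using this

include hcov hl₁ hl₂ in
/-- being a pseudo-torsor can be checked on the two opens -/
theorem isPseudoTorsorSch_of_two (a : AlgGrp.Action G P)
    (ha₁ : ∀ {T : Over B} (g : T ⟶ G) (q : T ⟶ Q₁), sm a g (q ≫ j₁) = sm a₁ g q ≫ j₁)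
    (ha₂ : ∀ {T : Over B} (g : T ⟶ G) (q : T ⟶ Q₂), sm a g (q ≫ j₂) = sm a₂ g q ≫ j₂)
    (h₁ : ∀ {T : Over B} (q q' : T ⟶ Q₁), ∃! g : T ⟶ G, sm a₁ g q' = q)
    (h₂ : ∀ {T : Over B} (q q' : T ⟶ Q₂), ∃! g : T ⟶ G, sm a₂ g q' = q) :
    NonAbH1.IsPseudoTorsorSch a := by
  rw [K554.Fpqc.isPseudoTorsorSch_iff]
  intro T x x'
  obtain ⟨q₁, hq₁⟩ := hl₁ (fst T (Over.mk i₁) ≫ x) (snd _ _)
  obtain ⟨q₂, hq₂⟩ := hl₂ (fst T (Over.mk i₂) ≫ x) (snd _ _)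
  obtain ⟨q₁', hq₁'⟩ := hl₁ (fst T (Over.mk i₁) ≫ x') (snd _ _)
  obtain ⟨q₂', hq₂'⟩ := hl₂ (fst T (Over.mk i₂) ≫ x') (snd _ _)
  obtain ⟨g₁, hg₁, hu₁⟩ := h₁ q₁ q₁'
  obtain ⟨g₂, hg₂, hu₂⟩ := h₂ q₂ q₂'
  simp only at hg₁ hg₂ hu₁ hu₂
  have e₁ : sm a g₁ (fst T (Over.mk i₁) ≫ x') = fst T (Over.mk i₁) ≫ x := by rw [← hq₁', ha₁, hg₁, hq₁]
  have e₂ : sm a g₂ (fst T (Over.mk i₂) ≫ x') = fst T (Over.mk i₂) ≫ x := by rw [← hq₂', ha₂, hg₂, hq₂]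
  obtain ⟨g, hg, hg'⟩ := over_exists_glue i₁ i₂ hcov (T := T) g₁ g₂ (by
    intro Z c b e
    -- both carry the same point of `Q₁` to the same point
    have h3 := h₁ (c ≫ q₁) (c ≫ q₁')
    refine h3.unique ?_ ?_
    · rw [← comp_sm, hg₁]
    · rw [← cancel_mono j₁, ← ha₁, Category.assoc, Category.assoc, hq₁, hq₁', ← Category.assoc,
        ← Category.assoc, e, Category.assoc, Category.assoc, ← comp_sm, e₂])
  refine ⟨g, ?_, ?_⟩
  · refine over_hom_ext i₁ i₂ hcov ?_ ?_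
    · rw [comp_sm, hg, e₁]
    · rw [comp_sm, hg', e₂]
  · intro g' hg''
    refine over_hom_ext i₁ i₂ hcov ?_ ?_
    · rw [hg]
      refine hu₁ _ ?_
      rw [← cancel_mono j₁, ← ha₁, hq₁', hq₁, ← comp_sm, hg'']
    · rw [hg']
      refine hu₂ _ ?_
      rw [← cancel_mono j₂, ← ha₂, hq₂', hq₂, ← comp_sm, hg'']

end Act

end K552.Glue
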