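import Groth.Agent.NonAbH1.K552.Glue
import Groth.Agent.NonAbH1.K551.Tors

/-!
# Zariski gluing of torsors along two opens
-/

set_option autoImplicit false
universe u

open CategoryTheory CategoryTheory.Limits MonoidalCategory CartesianMonoidalCategory MonObj GrpObj AlgebraicGeometry
open Groth.Agent.Books.BorelOrb

namespace K552.Glue

/-- Local triviality for the fppf topology can be checked point by point. -/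
lemma isLocallyTrivialFor_fppf_of_points {B : Scheme.{u}} {X : Over B}
    (h : ∀ b : B, ∃ (U : Scheme.{u}) (f : U ⟶ B), Flat f ∧ LocallyOfFinitePresentation f ∧ b ∈ Set.range f ∧
      NonAbH1.HasSectionOver X f) : NonAbH1.IsLocallyTrivialFor Scheme.fppfPrecoverage X := by
  choose U f h1 h2 h3 h4 using h
  refine ⟨Presieve.ofArrows U f, ?_, ?_⟩
  · rw [Scheme.fppfPrecoverage, Scheme.ofArrows_mem_precoverage_iff]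
    exact ⟨fun x => ⟨x, h3 x⟩, fun i => ⟨h1 i, h2 i⟩⟩
  · rintro S' _ ⟨i⟩
    exact h4 i

/-- conversely -/
lemma exists_of_isLocallyTrivialFor_fppf {B : Scheme.{u}} {X : Over B}
    (h : NonAbH1.IsLocallyTrivialFor Scheme.fppfPrecoverage X) (b : B) :
    ∃ (U : Scheme.{u}) (f : U ⟶ B), Flat f ∧ LocallyOfFinitePresentation f ∧ b ∈ Set.range f ∧
      NonAbH1.HasSectionOver X f := by
  obtain ⟨R, hR, h⟩ := h
  obtain ⟨ι', Y, f, rfl⟩ := R.exists_eq_ofArrows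
  rw [Scheme.fppfPrecoverage, Scheme.ofArrows_mem_precoverage_iff] at hR
  obtain ⟨i, hi⟩ := hR.1 b
  exact ⟨Y i, f i, (hR.2 i).1, (hR.2 i).2, hi, h _ (Presieve.ofArrows.mk i)⟩

variable {B U₁ U₂ W : Scheme.{u}} (i₁ : U₁ ⟶ B) (i₂ : U₂ ⟶ B) [IsOpenImmersion i₁] [IsOpenImmersion i₂]
  (hcov : ∀ x : B, x ∈ Set.range i₁ ∨ x ∈ Set.range i₂) {p₁ : W ⟶ U₁} {p₂ : W ⟶ U₂} (hW : IsPullback p₁ p₂ i₁ i₂)
  {G Q₁ Q₂ Z : Over B} [GrpObj G] {π₁ : Q₁ ⟶ Over.mk i₁} {π₂ : Q₂ ⟶ Over.mk i₂} {ζ : Z.left ⟶ W}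
  {f₁ : Z ⟶ Q₁} {f₂ : Z ⟶ Q₂} (h₁ : IsPullback f₁.left ζ π₁.left p₁) (h₂ : IsPullback f₂.left ζ π₂.left p₂)
  (a₁ : AlgGrp.Action G Q₁) (a₂ : AlgGrp.Action G Q₂)
  (hf : ∀ {T : Over B} (g : T ⟶ G) (z : T ⟶ Z), ∃ z' : T ⟶ Z, z' ≫ f₁ = sm a₁ g (z ≫ f₁) ∧
    z' ≫ f₂ = sm a₂ g (z ≫ f₂))

/-- a point of `P` lying over `U` lifts to the preimage `Q` of `U` -/
lemma lift_of_isPullback {U : Scheme.{u}} {i : U ⟶ B} {P Q : Over B} {π : Q ⟶ Over.mk i} {j : Q ⟶ P}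
    (h : IsPullback j.left π.left P.hom i) {T : Over B} (x : T ⟶ P) (u : T ⟶ Over.mk i) :
    ∃ q : T ⟶ Q, q ≫ j = x := by
  have hw : x.left ≫ P.hom = u.left ≫ i := (Over.w x).trans (Over.w u).symm
  refine ⟨Over.homMk (h.lift x.left u.left hw) ?_, ?_⟩
  · rw [← Over.w j, ← Category.assoc, h.lift_fst, Over.w]
  · ext
    exact h.lift_fst _ _ _

include hcov hW h₁ h₂ hf in
/-- **Gluing of two schemes with action along opens.** -/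
theorem exists_glued_action : ∃ (P : Over B) (a : AlgGrp.Action G P) (j₁ : Q₁ ⟶ P) (j₂ : Q₂ ⟶ P),
    IsPullback j₁.left π₁.left P.hom i₁ ∧ IsPullback j₂.left π₂.left P.hom i₂ ∧ f₁ ≫ j₁ = f₂ ≫ j₂ ∧
    Mono j₁ ∧ Mono j₂ ∧
    (∀ {T : Over B} (g : T ⟶ G) (q : T ⟶ Q₁), sm a g (q ≫ j₁) = sm a₁ g q ≫ j₁) ∧
    (∀ {T : Over B} (g : T ⟶ G) (q : T ⟶ Q₂), sm a g (q ≫ j₂) = sm a₂ g q ≫ j₂) ∧
    (∀ {T : Over B} (q₁ : T ⟶ Q₁) (q₂ : T ⟶ Q₂), q₁ ≫ j₁ = q₂ ≫ j₂ →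
      ∃ z : T ⟶ Z, z ≫ f₁ = q₁ ∧ z ≫ f₂ = q₂) := by
  obtain ⟨Y, π, k₁, k₂, hk₁, hk₂, hp₁, hp₂, hc, -⟩ := Groth.Agent.FlatA.GlueTwo.exists_glued hW h₁ h₂
  let P : Over B := Over.mk π
  let j₁ : Q₁ ⟶ P := Over.homMk k₁ (by change k₁ ≫ π = _; rw [hp₁.w]; exact Over.w π₁)
  let j₂ : Q₂ ⟶ P := Over.homMk k₂ (by change k₂ ≫ π = _; rw [hp₂.w]; exact Over.w π₂)
  have hj₁ : Mono j₁ := by
    have : Mono j₁.left := inferInstanceAs (Mono k₁)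
    exact Over.mono_of_mono_left j₁
  have hj₂ : Mono j₂ := by
    have : Mono j₂.left := inferInstanceAs (Mono k₂)
    exact Over.mono_of_mono_left j₂
  have hcond : f₁ ≫ j₁ = f₂ ≫ j₂ := by ext; exact hc
  have hz : ∀ {T : Over B} (q₁ : T ⟶ Q₁) (q₂ : T ⟶ Q₂), q₁ ≫ j₁ = q₂ ≫ j₂ →
      ∃ z : T ⟶ Z, z ≫ f₁ = q₁ ∧ z ≫ f₂ = q₂ := by
    intro T q₁ q₂ e
    have hw : (q₁ ≫ π₁).left ≫ i₁ = (q₂ ≫ π₂).left ≫ i₂ :=
      (Over.w (q₁ ≫ π₁)).trans (Over.w (q₂ ≫ π₂)).symm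
    let w : T.left ⟶ W := hW.lift _ _ hw
    have hw1 : w ≫ p₁ = (q₁ ≫ π₁).left := hW.lift_fst _ _ _
    let z : T ⟶ Z := Over.homMk (h₁.lift q₁.left w (by rw [hw1, Over.comp_left])) (by
      rw [← Over.w f₁, ← Category.assoc, h₁.lift_fst, Over.w])
    have hz1 : z ≫ f₁ = q₁ := by ext; exact h₁.lift_fst _ _ _
    refine ⟨z, hz1, ?_⟩
    rw [← cancel_mono j₂, Category.assoc, ← hcond, ← Category.assoc, hz1, e]
  have hl₁ : ∀ {T : Over B} (x : T ⟶ P) (_ : T ⟶ Over.mk i₁), ∃ q : T ⟶ Q₁, q ≫ j₁ = x :=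
    fun x u => lift_of_isPullback hp₁ x u
  have hl₂ : ∀ {T : Over B} (x : T ⟶ P) (_ : T ⟶ Over.mk i₂), ∃ q : T ⟶ Q₂, q ≫ j₂ = x :=
    fun x u => lift_of_isPullback hp₂ x u
  obtain ⟨a, ha₁, ha₂⟩ := exists_action i₁ i₂ hcov j₁ j₂ π₁ π₂ hl₁ hl₂ a₁ a₂ (by
    intro T g q₁ q₂ e
    obtain ⟨z, rfl, rfl⟩ := hz q₁ q₂ e
    obtain ⟨z', h1, h2⟩ := hf g z
    rw [← h1, ← h2, Category.assoc, Category.assoc, hcond])
  exact ⟨P, a, j₁, j₂, hp₁, hp₂, hcond, hj₁, hj₂, ha₁, ha₂, hz⟩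

end K552.Glue
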