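import Groth.Agent.NonAbH1.K552.NonTrivAlg
import Groth.Agent.NonAbH1.K552.Double
import Mathlib.AlgebraicGeometry.Morphisms.FiniteType

/-!
# Non-trivial torsors under a non-trivial affine group over an algebraically closed field
-/

set_option autoImplicit false
universe u

open CategoryTheory CategoryTheory.Limits MonoidalCategory CartesianMonoidalCategory MonObj GrpObj AlgebraicGeometry
open Groth.Agent.Books.BorelOrb

namespace K552.NonTriv

/-- the torsor over the doubled scheme -/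
theorem exists_torsor_double {S₀ U : Scheme.{u}} (G : Over S₀) [GrpObj G] (X : Over S₀) [LocallyOfFiniteType X.hom]
    [CompactSpace X.left] [IsAffine S₀] (j : U ⟶ X.left) [IsOpenImmersion j] (g : Over.mk (j ≫ X.hom) ⟶ G)
    (hg : ¬ ∃ g' : X ⟶ G, (Over.homMk j rfl : Over.mk (j ≫ X.hom) ⟶ X) ≫ g' = g) :
    ∃ (T : Scheme.{u}) (f : T ⟶ S₀), LocallyOfFiniteType f ∧ QuasiCompact f ∧
      ∃ P : NonAbH1.TorsorSch (Red.bc f G) Scheme.fppfPrecoverage, ¬ NonAbH1.HasSectionOver P.X (𝟙 T) := by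
  obtain ⟨B, i₁, i₂, hi₁, hi₂, hpo, hpb, hcov⟩ := K552.Double.exists_pushout j j
  let f : B ⟶ S₀ := hpo.desc X.hom X.hom rfl
  have hf₁ : i₁ ≫ f = X.hom := hpo.inl_desc _ _ _
  have hf₂ : i₂ ≫ f = X.hom := hpo.inr_desc _ _ _
  have hloc : IsZariskiLocalAtSource @LocallyOfFiniteType.{u} :=
    HasRingHomProperty.instIsZariskiLocalAtSource (Q := RingHom.FiniteType)
  have h1 : LocallyOfFiniteType f := by
    rw [IsZariskiLocalAtSource.iff_of_openCover (P := @LocallyOfFiniteType) (K552.Glue.cov i₁ i₂ hcov)]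
    rintro (_ | _)
    · change LocallyOfFiniteType (i₁ ≫ f); rw [hf₁]; infer_instance
    · change LocallyOfFiniteType (i₂ ≫ f); rw [hf₂]; infer_instance
  have h2 : CompactSpace B := by
    refine ⟨?_⟩
    have : (Set.univ : Set B) = Set.range i₁ ∪ Set.range i₂ := by
      ext x; simpa using hcov x
    rw [this]
    exact (isCompact_range i₁.continuous).union (isCompact_range i₂.continuous)
  have h3 : QuasiCompact f := by
    rw [quasiCompact_iff_compactSpace]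
    exact h2
  refine ⟨B, f, h1, h3, ?_⟩
  -- the point over the overlap
  let e₀ : (Over.map f).obj (Over.mk (j ≫ i₁)) ⟶ Over.mk (j ≫ X.hom) := Over.homMk (𝟙 _) (by
    change 𝟙 _ ≫ j ≫ X.hom = (j ≫ i₁) ≫ f
    rw [Category.id_comp, Category.assoc, hf₁])
  obtain ⟨P, hP⟩ := K552.Double.exists_torsor_of_overlap i₁ i₂ hcov hpb (G := Red.bc f G)
    (K552.Push.up (e₀ ≫ g))
  refine ⟨P, fun hs => hg ?_⟩
  obtain ⟨a₁, a₂, h⟩ := hP hs
  let e₁ : X ⟶ (Over.map f).obj (Over.mk i₁) := Over.homMk (𝟙 _) (by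
    change 𝟙 _ ≫ i₁ ≫ f = X.hom
    rw [Category.id_comp, hf₁])
  let e₂ : X ⟶ (Over.map f).obj (Over.mk i₂) := Over.homMk (𝟙 _) (by
    change 𝟙 _ ≫ i₂ ≫ f = X.hom
    rw [Category.id_comp, hf₂])
  let e₀' : Over.mk (j ≫ X.hom) ⟶ (Over.map f).obj (Over.mk (j ≫ i₁)) := Over.homMk (𝟙 _) (by
    change 𝟙 _ ≫ (j ≫ i₁) ≫ f = j ≫ X.hom
    rw [Category.id_comp, Category.assoc, hf₁])
  have hdn : ∀ {T : Over B} (x y : T ⟶ Red.bc f G), K552.Push.dn (x * y) = K552.Push.dn x * K552.Push.dn y := by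
    intro T x y
    have := K552.Push.up_mul (K552.Push.dn x) (K552.Push.dn y)
    rw [K552.Push.up_dn, K552.Push.up_dn] at this
    rw [← this, K552.Push.dn_up]
  have h4 := congrArg (fun z => e₀' ≫ K552.Push.dn z) h
  simp only [hdn, K552.Push.comp_dn, K552.Push.dn_up, comp_mul] at h4
  have k1 : e₀' ≫ e₀ ≫ g = g := by
    ext
    simp [e₀, e₀']
  have k2 : e₀' ≫ (Over.map f).map (Over.homMk j rfl : Over.mk (j ≫ i₁) ⟶ Over.mk i₁) ≫ K552.Push.dn a₁ =
      (Over.homMk j rfl : Over.mk (j ≫ X.hom) ⟶ X) ≫ e₁ ≫ K552.Push.dn a₁ := by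
    ext
    simp [e₀', e₁]
  have k3 : e₀' ≫ (Over.map f).map (Over.homMk j hpb.w.symm : Over.mk (j ≫ i₁) ⟶ Over.mk i₂) ≫ K552.Push.dn a₂ =
      (Over.homMk j rfl : Over.mk (j ≫ X.hom) ⟶ X) ≫ e₂ ≫ K552.Push.dn a₂ := by
    ext
    simp [e₀', e₂]
  rw [k1, k2, k3] at h4
  refine ⟨(e₁ ≫ K552.Push.dn a₁)⁻¹ * (e₂ ≫ K552.Push.dn a₂), ?_⟩
  rw [comp_mul, comp_inv, ← h4, inv_mul_cancel_left]

end K552.NonTriv
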