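import Mathlib.RingTheory.AdjoinRoot
import Mathlib.RingTheory.FiniteType
import Mathlib.RingTheory.Localization.Away.Basic
import Mathlib.Algebra.DualNumber
import Mathlib.FieldTheory.IsAlgClosed.Basic
import Mathlib.RingTheory.Jacobson.Ring
import Mathlib.LinearAlgebra.Dual.Lemmas
import Mathlib.RingTheory.Nakayama

/-!
# A homomorphism from a non-trivial augmented algebra to a localisation which does not extend
-/

set_option autoImplicit false
universe u v

open Polynomial

namespace K552.NonTriv

section A

variable (k : Type u) [Field k] (c : k)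

/-- the polynomial `T² - c s T` over `k[s]`. -/
noncomputable def pol : (k[X])[X] := X ^ 2 - C (C c * X) * X

lemma monic_pol : (pol k c).Monic := by
  unfold pol
  monicity!

/-- `k[s, t]/(t² - c s t)` -/
abbrev Alg := AdjoinRoot (pol k c)

noncomputable def s : Alg k c := algebraMap k[X] (Alg k c) X
noncomputable def t : Alg k c := AdjoinRoot.root (pol k c)

lemma t_sq : t k c * t k c = algebraMap k (Alg k c) c * s k c * t k c := by
  have h : AdjoinRoot.mk (pol k c) (X ^ 2 - C (C c * X) * X) = 0 := AdjoinRoot.mk_self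
  rw [map_sub, map_pow, map_mul, AdjoinRoot.mk_X, AdjoinRoot.mk_C, sub_eq_zero, pow_two, map_mul] at h
  exact h

instance : Algebra.FiniteType k (Alg k c) := by
  have h1 : Module.Finite k[X] (Alg k c) := (AdjoinRoot.powerBasis' (monic_pol k c)).finite
  exact Algebra.FiniteType.trans (S := k[X]) inferInstance inferInstance

noncomputable def psi : Alg k c →+* DualNumber k :=
  AdjoinRoot.lift (Polynomial.eval₂RingHom (algebraMap k (DualNumber k)) 0) DualNumber.eps (by
    simp [pol, pow_two])

lemma psi_s : psi k c (s k c) = 0 := by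
  simp [psi, s, AdjoinRoot.algebraMap_eq]

lemma psi_t : psi k c (t k c) = DualNumber.eps := by
  simp [psi, t]

lemma t_ne (a : Alg k c) (N : ℕ) : s k c ^ N * t k c ≠ s k c ^ N * (s k c * a) := by
  intro h
  have h1 : Module.Free k[X] (Alg k c) := Module.Free.of_basis (AdjoinRoot.powerBasis' (monic_pol k c)).basis
  have h2 : Module.IsTorsionFree k[X] (Alg k c) := inferInstance
  have h3 : (X ^ N : k[X]) • t k c = (X ^ N : k[X]) • (s k c * a) := by
    rw [Algebra.smul_def, Algebra.smul_def, map_pow]
    exact h
  have h4 : t k c = s k c * a := by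
    refine smul_right_injective (Alg k c) (pow_ne_zero N (X_ne_zero (R := k))) ?_
    exact h3
  have h5 := congrArg (psi k c) h4
  rw [map_mul, psi_s, psi_t, zero_mul] at h5
  have h6 := congrArg TrivSqZeroExt.snd h5
  simp at h6

/-- the element `t/s`. -/
noncomputable def e : Localization.Away (s k c) :=
  IsLocalization.mk' (Localization.Away (s k c)) (t k c) (⟨s k c, Submonoid.mem_powers _⟩ : Submonoid.powers (s k c))

lemma e_sq : e k c * e k c = algebraMap k _ c * e k c := by
  rw [IsScalarTower.algebraMap_apply k (Alg k c) (Localization.Away (s k c))]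
  rw [e, ← IsLocalization.mk'_mul, IsLocalization.mul_mk'_eq_mk'_of_mul, IsLocalization.mk'_eq_iff_eq]
  congr 1
  rw [t_sq]
  simp only [Submonoid.coe_mul]
  ring

lemma e_notMem : e k c ∉ Set.range (algebraMap (Alg k c) (Localization.Away (s k c))) := by
  rintro ⟨a, ha⟩
  rw [e, eq_comm, IsLocalization.mk'_eq_iff_eq_mul, ← map_mul] at ha
  obtain ⟨⟨_, N, rfl⟩, hN⟩ := (IsLocalization.eq_iff_exists (Submonoid.powers (s k c)) _).1 ha
  refine t_ne k c a N ?_
  simp only at hN
  rw [hN]
  ring

end A

section D

variable (k : Type u) [Field k] [IsAlgClosed k] (H : Type v) [CommRing H] [Algebra k H] [Algebra.FiniteType k H]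

/-- a maximal ideal of a finitely generated algebra over an algebraically closed field is the kernel of a point. -/
lemma exists_algHom_of_isMaximal (M : Ideal H) [M.IsMaximal] : ∃ φ : H →ₐ[k] k, RingHom.ker φ = M := by
  let _ := Ideal.Quotient.field M
  have h1 : Module.Finite k (H ⧸ M) := finite_of_finite_type_of_isJacobsonRing k (H ⧸ M)
  have h2 : Function.Bijective (algebraMap k (H ⧸ M)) := IsAlgClosed.algebraMap_bijective_of_isIntegral
  let e : k ≃ₐ[k] (H ⧸ M) := AlgEquiv.ofBijective (Algebra.ofId k (H ⧸ M)) h2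
  refine ⟨e.symm.toAlgHom.comp (Ideal.Quotient.mkₐ k M), ?_⟩
  ext x
  rw [RingHom.mem_ker]
  change e.symm (Ideal.Quotient.mk M x) = 0 ↔ _
  rw [EmbeddingLike.map_eq_zero_iff, Ideal.Quotient.eq_zero_iff_mem]

theorem exists_D (ε : H →ₐ[k] k) (h : ¬ Function.Surjective (algebraMap k H)) :
    ∃ (c : k) (D : H →ₗ[k] k), D 1 = 0 ∧ D ≠ 0 ∧
      ∀ x y, D (x * y) = ε x * D y + ε y * D x + c * (D x * D y) := by
  by_cases hγ : ∃ γ : H →ₐ[k] k, γ ≠ ε
  · obtain ⟨γ, hγ⟩ := hγ
    refine ⟨1, γ.toLinearMap - ε.toLinearMap, by simp, ?_, ?_⟩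
    · intro h0
      apply hγ
      ext x
      have := congrArg (fun f => f x) h0
      simpa [sub_eq_zero] using this
    · intro x y
      simp only [LinearMap.sub_apply, AlgHom.toLinearMap_apply, map_mul]
      ring
  · push Not at hγ
    let m : Ideal H := RingHom.ker ε
    have hm : ∀ M : Ideal H, M.IsMaximal → M = m := by
      intro M hM
      obtain ⟨φ, hφ⟩ := exists_algHom_of_isMaximal k H M
      rw [← hφ, hγ φ]
    have hN : IsNoetherianRing H := Algebra.FiniteType.isNoetherianRing k H
    have hne : ∃ x ∈ m, x ∉ m * m := by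
      by_contra hcon
      push Not at hcon
      have h1 : m ≤ m • m := fun x hx => by simpa using hcon x hx
      have h2 : m ≤ Ideal.jacobson ⊥ := by
        rw [Ideal.jacobson]
        refine le_sInf ?_
        rintro M ⟨-, hM⟩
        rw [hm M hM]
      have h3 : m = ⊥ := Submodule.eq_bot_of_le_smul_of_le_jacobson_bot m m (IsNoetherian.noetherian m) h1 h2
      apply h
      intro x
      refine ⟨ε x, ?_⟩
      have h4 : algebraMap k H (ε x) - x ∈ m := by
        rw [RingHom.mem_ker, map_sub]
        simp
      rw [h3, Ideal.mem_bot, sub_eq_zero] at h4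
      exact h4
    obtain ⟨x, hx, hx'⟩ := hne
    let W : Submodule k H := Submodule.span k {1} ⊔ (m * m).restrictScalars k
    have hxW : x ∉ W := by
      intro hxW
      obtain ⟨a, ha, b, hb, hab⟩ := Submodule.mem_sup.1 hxW
      obtain ⟨r, rfl⟩ := Submodule.mem_span_singleton.1 ha
      have hb' : b ∈ m := Ideal.mul_le_left hb
      have h5 : ε (r • 1 + b) = 0 := by rw [hab]; exact hx
      rw [map_add, map_smul, map_one, (hb' : ε b = 0), add_zero, smul_eq_mul, mul_one] at h5
      apply hx'
      rw [← hab, h5, zero_smul, zero_add]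
      exact hb
    obtain ⟨D, hD, hDW⟩ := Submodule.exists_le_ker_of_notMem hxW
    have hD1 : D 1 = 0 := hDW (Submodule.mem_sup_left (Submodule.mem_span_singleton_self 1))
    refine ⟨0, D, hD1, ?_, ?_⟩
    · rintro rfl
      exact hD rfl
    · intro y z
      have h6 : (y - algebraMap k H (ε y)) * (z - algebraMap k H (ε z)) ∈ m * m := by
        refine Ideal.mul_mem_mul ?_ ?_
        · rw [RingHom.mem_ker, map_sub]; simp
        · rw [RingHom.mem_ker, map_sub]; simp
      have h7 : D ((y - algebraMap k H (ε y)) * (z - algebraMap k H (ε z))) = 0 :=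
        hDW (Submodule.mem_sup_right h6)
      have h8 : (y - algebraMap k H (ε y)) * (z - algebraMap k H (ε z)) =
          y * z - ε z • y - ε y • z + (ε y * ε z) • 1 := by
        simp only [Algebra.smul_def, map_mul, mul_one]
        ring
      rw [h8, map_add, map_sub, map_sub, map_smul, map_smul, map_smul, hD1] at h7
      simp only [smul_eq_mul, mul_zero, add_zero] at h7
      linear_combination h7

end D

/-- **A point of a non-trivial augmented algebra over the overlap which does not extend.** -/
theorem exists_hom (k : Type u) [Field k] [IsAlgClosed k] (H : Type v) [CommRing H] [Algebra k H]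
    [Algebra.FiniteType k H] (ε : H →ₐ[k] k) (h : ¬ Function.Surjective (algebraMap k H)) :
    ∃ (A : Type u) (_ : CommRing A) (_ : Algebra k A) (s : A) (φ : H →ₐ[k] Localization.Away s),
      Algebra.FiniteType k A ∧ ∃ x, φ x ∉ Set.range (algebraMap A (Localization.Away s)) := by
  obtain ⟨c, D, hD1, hD0, hD⟩ := exists_D k H ε h
  let L := Localization.Away (s k c)
  let F : H →ₗ[k] L := (Algebra.linearMap k L).comp ε.toLinearMap + (LinearMap.toSpanSingleton k L (e k c)).comp D
  have hF : ∀ x, F x = algebraMap k L (ε x) + D x • e k c := fun x => rfl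
  let φ : H →ₐ[k] L := AlgHom.ofLinearMap F (by rw [hF, hD1, map_one, map_one, zero_smul, add_zero]) (by
    intro x y
    rw [hF, hF, hF, hD, map_mul]
    have he := e_sq k c
    simp only [Algebra.smul_def, map_add, map_mul]
    linear_combination (- algebraMap k L (D x) * algebraMap k L (D y)) * he)
  refine ⟨Alg k c, inferInstance, inferInstance, s k c, φ, inferInstance, ?_⟩
  obtain ⟨x, hx⟩ : ∃ x, D x ≠ 0 := by
    by_contra hcon
    push Not at hcon
    exact hD0 (LinearMap.ext hcon)
  refine ⟨x, ?_⟩
  rintro ⟨a, ha⟩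
  apply e_notMem k c
  refine ⟨algebraMap k _ (D x)⁻¹ * (a - algebraMap k _ (ε x)), ?_⟩
  have h1 : φ x = algebraMap k L (ε x) + D x • e k c := hF x
  rw [map_mul, map_sub, ha, h1, ← IsScalarTower.algebraMap_apply, ← IsScalarTower.algebraMap_apply,
    add_sub_cancel_left, Algebra.smul_def, ← mul_assoc, ← map_mul, inv_mul_cancel₀ hx, map_one, one_mul]

end K552.NonTriv
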