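import Groth.Agent.FlatB.PushSpec
import Mathlib.AlgebraicGeometry.AffineTransitionLimit
import Mathlib.RingTheory.Localization.Away.Basic
import Mathlib.RingTheory.Localization.Algebra
import Mathlib.Algebra.Polynomial.Inductions
import Mathlib.Algebra.Category.Ring.FilteredColimits

/-!
# The Milnor square and the colimit behind Quillen patching

`C` a ring, `s ∈ C`, `Cs = C[1/s]`.  The ring of pairs `(p, c) ∈ Cs[X] × C` with `p(0) = c` in `Cs` is the colimit of
`C[X] → C[X] → ...` (transition maps `X ↦ s X`).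
-/

set_option autoImplicit false
universe u

open CategoryTheory CategoryTheory.Limits AlgebraicGeometry Polynomial
open Groth.Agent.FlatB.PushRing

namespace K552.QuAlg

section Poly

variable {C : Type u} [CommRing C]

/-- `X ↦ c X` -/
noncomputable def sc (c : C) : C[X] →+* C[X] := compRingHom (Polynomial.C c * X)

@[simp] lemma sc_C (c a : C) : sc c (Polynomial.C a) = Polynomial.C a := by simp [sc]

@[simp] lemma sc_X (c : C) : sc c X = Polynomial.C c * X := by simp [sc]

lemma sc_one : sc (1 : C) = RingHom.id _ := by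
  ext <;> simp

lemma sc_mul (a b : C) : sc (a * b) = (sc a).comp (sc b) := by
  ext
  · simp
  · simp [mul_left_comm, mul_assoc]

lemma sc_comp_C (c : C) : (sc c).comp Polynomial.C = Polynomial.C := by ext; simp

lemma eval_zero_sc (c : C) : (evalRingHom 0).comp (sc c) = evalRingHom (0 : C) := by
  ext <;> simp

lemma sc_map {D : Type u} [CommRing D] (f : C →+* D) (c : C) :
    (sc (f c)).comp (mapRingHom f) = (mapRingHom f).comp (sc c) := by
  ext <;> simp

end Poly

variable {C Cs : Type u} [CommRing C] [CommRing Cs] [Algebra C Cs] (s : C) [IsLocalization.Away s Cs]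

variable (C Cs) in
/-- the ring of the Milnor square -/
noncomputable abbrev Bo : Subring (Cs[X] × C) := eqL (evalRingHom (0 : Cs)) (algebraMap C Cs)

/-- `p ↦ (p (X / s^n), p(0))` -/
noncomputable def toBo (n : ℕ) : C[X] →+* Bo C Cs :=
  ((((sc ((IsLocalization.Away.invSelf s : Cs) ^ n)).comp (mapRingHom (algebraMap C Cs))).prod
    (evalRingHom 0))).codRestrict _ (fun p => by
      rw [mem_eqL]
      have h : (evalRingHom (0 : Cs)).comp
          ((sc ((IsLocalization.Away.invSelf s : Cs) ^ n)).comp (mapRingHom (algebraMap C Cs))) =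
          (algebraMap C Cs).comp (evalRingHom 0) := by
        ext <;> simp
      exact RingHom.congr_fun h p)

lemma fst_toBo (n : ℕ) : (eqL.fst (evalRingHom (0 : Cs)) (algebraMap C Cs)).comp (toBo s n) =
    (sc ((IsLocalization.Away.invSelf s : Cs) ^ n)).comp (mapRingHom (algebraMap C Cs)) := by
  ext <;> rfl

lemma snd_toBo (n : ℕ) : (eqL.snd (evalRingHom (0 : Cs)) (algebraMap C Cs)).comp (toBo s n) =
    evalRingHom 0 := by
  ext <;> rfl

lemma bo_hom_ext {A : Type*} [CommRing A] {f g : A →+* Bo C Cs}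
    (h1 : (eqL.fst (evalRingHom (0 : Cs)) (algebraMap C Cs)).comp f = (eqL.fst _ _).comp g)
    (h2 : (eqL.snd (evalRingHom (0 : Cs)) (algebraMap C Cs)).comp f = (eqL.snd _ _).comp g) : f = g := by
  ext1 a
  exact eqL.ext (RingHom.congr_fun h1 a) (RingHom.congr_fun h2 a)

lemma toBo_comp (m k : ℕ) : (toBo s (m + k)).comp (sc (s ^ k)) = (toBo s m : C[X] →+* Bo C Cs) := by
  apply bo_hom_ext
  · rw [← RingHom.comp_assoc, fst_toBo, fst_toBo, RingHom.comp_assoc, ← sc_map, ← RingHom.comp_assoc, ← sc_mul]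
    congr 2
    rw [pow_add, mul_assoc, map_pow, ← mul_pow, mul_comm (IsLocalization.Away.invSelf s : Cs),
      IsLocalization.Away.mul_invSelf, one_pow, mul_one]
  · rw [← RingHom.comp_assoc, snd_toBo, snd_toBo, eval_zero_sc]

omit [IsLocalization.Away s Cs] in
/-- clearing denominators of a polynomial -/
lemma exists_clear [IsLocalization.Away s Cs] (q : Cs[X]) :
    ∃ (n : ℕ) (p : C[X]), p.map (algebraMap C Cs) = Polynomial.C (algebraMap C Cs s ^ n) * q := by
  let _ : Algebra C[X] Cs[X] := (mapRingHom (algebraMap C Cs)).toAlgebra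
  have := Polynomial.isLocalization (Submonoid.powers s) Cs
  obtain ⟨⟨p, ⟨t, ht⟩⟩, h⟩ := IsLocalization.surj ((Submonoid.powers s).map Polynomial.C) q
  obtain ⟨t', ⟨n, rfl⟩, rfl⟩ := ht
  refine ⟨n, p, ?_⟩
  have h' : q * (mapRingHom (algebraMap C Cs)) (Polynomial.C (s ^ n)) = p.map (algebraMap C Cs) := h
  rw [← h']
  simp [mul_comm]

omit [IsLocalization.Away s Cs] in
/-- a polynomial which dies in the localization -/
lemma exists_kill [IsLocalization.Away s Cs] (p : C[X]) (h : p.map (algebraMap C Cs) = 0) :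
    ∃ n : ℕ, Polynomial.C (s ^ n) * p = 0 := by
  let _ : Algebra C[X] Cs[X] := (mapRingHom (algebraMap C Cs)).toAlgebra
  have := Polynomial.isLocalization (Submonoid.powers s) Cs
  have h' : algebraMap C[X] Cs[X] p = algebraMap C[X] Cs[X] 0 := by
    rw [map_zero]
    exact h
  obtain ⟨⟨t, ht⟩, h2⟩ := (IsLocalization.eq_iff_exists ((Submonoid.powers s).map Polynomial.C) Cs[X]).mp h'
  obtain ⟨t', ⟨n, rfl⟩, rfl⟩ := ht
  exact ⟨n, by simpa using h2⟩

lemma toBo_surjective (x : Bo C Cs) : ∃ (n : ℕ) (p : C[X]), toBo s n p = x := by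
  obtain ⟨⟨q, c⟩, hx⟩ := x
  have hx' : q.eval 0 = algebraMap C Cs c := hx
  obtain ⟨n, p, hp⟩ := exists_clear s q.divX
  refine ⟨n, sc (s ^ n) p * X + Polynomial.C c, ?_⟩
  have hu : (IsLocalization.Away.invSelf s : Cs) ^ n * (algebraMap C Cs (s ^ n)) = 1 := by
    rw [map_pow, ← mul_pow, mul_comm, IsLocalization.Away.mul_invSelf, one_pow]
  refine eqL.ext ?_ ?_
  · change sc ((IsLocalization.Away.invSelf s : Cs) ^ n) ((sc (s ^ n) p * X + Polynomial.C c).map (algebraMap C Cs)) = q
    have h1 := RingHom.congr_fun (sc_map (algebraMap C Cs) (s ^ n)) p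
    simp only [RingHom.comp_apply, coe_mapRingHom] at h1
    have h2 := RingHom.congr_fun (sc_mul ((IsLocalization.Away.invSelf s : Cs) ^ n) (algebraMap C Cs (s ^ n)))
      (Polynomial.map (algebraMap C Cs) p)
    rw [hu, sc_one] at h2
    simp only [RingHom.comp_apply, RingHom.id_apply] at h2
    rw [Polynomial.map_add, Polynomial.map_mul, map_X, map_C, ← h1, map_add, map_mul, ← h2, sc_X, sc_C, hp, ← hx']
    conv_rhs => rw [← divX_mul_X_add q]
    rw [coeff_zero_eq_eval_zero]
    congr 1
    rw [← mul_assoc, mul_comm (Polynomial.C _ * q.divX), ← mul_assoc, ← Polynomial.C_mul, ← map_pow, hu,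
      Polynomial.C_1, one_mul]
  · change (sc (s ^ n) p * X + Polynomial.C c).eval 0 = c
    simp

lemma sc_eq_zero (p : C[X]) (h0 : p.eval 0 = 0) (n : ℕ) (h : Polynomial.C (s ^ n) * p = 0) :
    sc (s ^ n) p = 0 := by
  have h1 : p = p.divX * X := by
    conv_lhs => rw [← divX_mul_X_add p, coeff_zero_eq_eval_zero, h0]
    simp
  have h2 : Polynomial.C (s ^ n) * p.divX = 0 := by
    rw [h1] at h
    ext i
    have := congrArg (fun f => f.coeff (i + 1)) h
    simpa [← mul_assoc, coeff_mul_X] using this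
  rw [h1, map_mul, sc_X]
  have h3 : sc (s ^ n) (Polynomial.C (s ^ n) * p.divX) = 0 := by rw [h2, map_zero]
  rw [map_mul, sc_C] at h3
  rw [← mul_assoc, mul_comm (sc (s ^ n) p.divX), h3, zero_mul]

lemma toBo_injective (m : ℕ) (x y : C[X]) (h : (toBo s m x : Bo C Cs) = toBo s m y) :
    ∃ n : ℕ, sc (s ^ n) x = sc (s ^ n) y := by
  have h1 : (toBo s m (x - y) : Bo C Cs) = 0 := by rw [map_sub, h, sub_self]
  have h2 : sc ((IsLocalization.Away.invSelf s : Cs) ^ m) ((x - y).map (algebraMap C Cs)) = 0 :=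
    congrArg (fun z => z.1.1) h1
  have h3 : (x - y).eval 0 = 0 := congrArg (fun z => z.1.2) h1
  have hu : (algebraMap C Cs (s ^ m)) * (IsLocalization.Away.invSelf s : Cs) ^ m = 1 := by
    rw [map_pow, ← mul_pow, IsLocalization.Away.mul_invSelf, one_pow]
  have h4 : (x - y).map (algebraMap C Cs) = 0 := by
    have h5 := RingHom.congr_fun (sc_mul (algebraMap C Cs (s ^ m)) ((IsLocalization.Away.invSelf s : Cs) ^ m))
      ((x - y).map (algebraMap C Cs))
    rw [hu, sc_one] at h5
    simp only [RingHom.comp_apply, RingHom.id_apply] at h5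
    rw [h5, h2, map_zero]
  obtain ⟨n, hn⟩ := exists_kill s _ h4
  refine ⟨n, ?_⟩
  have := sc_eq_zero s _ h3 n hn
  rwa [map_sub, sub_eq_zero] at this

/-! ### The colimit -/

/-- the sequence `C[X] → C[X] → ...`, `X ↦ s X` -/
noncomputable def seq : ULift.{u} ℕ ⥤ CommRingCat.{u} where
  obj _ := CommRingCat.of C[X]
  map {m n} _ := CommRingCat.ofHom (sc (s ^ (n.down - m.down)))
  map_id m := by
    rw [Nat.sub_self, pow_zero, sc_one]
    rfl
  map_comp {m n k} f g := by
    have h1 : m ≤ n := leOfHom f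
    have h1 : m.down ≤ n.down := h1
    have h2 : n ≤ k := leOfHom g
    have h2 : n.down ≤ k.down := h2
    rw [← CommRingCat.ofHom_comp, ← sc_mul, ← pow_add]
    congr 3
    omega

variable (Cs) in
/-- the cocone -/
noncomputable def cocone : Cocone (seq s) where
  pt := CommRingCat.of (Bo C Cs)
  ι :=
    { app := fun n => CommRingCat.ofHom (toBo s n.down)
      naturality := fun m n f => by
        have h1 : m ≤ n := leOfHom f
        have h1 : m.down ≤ n.down := h1
        change CommRingCat.ofHom _ ≫ CommRingCat.ofHom _ = _ ≫ 𝟙 _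
        rw [Category.comp_id, ← CommRingCat.ofHom_comp]
        congr 1
        have h2 := toBo_comp (Cs := Cs) s m.down (n.down - m.down)
        rw [Nat.add_sub_cancel' h1] at h2
        exact h2 }

variable (Cs) in
/-- it is a colimit -/
noncomputable def isColimit : IsColimit (cocone Cs s) := by
  have : ReflectsColimitsOfShape (ULift.{u} ℕ) (forget CommRingCat.{u}) :=
    reflectsColimitsOfShape_of_reflectsIsomorphisms
  refine isColimitOfReflects (forget CommRingCat.{u}) ?_
  refine Types.FilteredColimit.isColimitOf' _ _ ?_ ?_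
  · intro x
    obtain ⟨n, p, hp⟩ := toBo_surjective s x
    exact ⟨⟨n⟩, p, hp.symm⟩
  · intro i x y h
    obtain ⟨n, hn⟩ := toBo_injective (Cs := Cs) s i.down x y h
    refine ⟨⟨i.down + n⟩, homOfLE (by change i.down ≤ i.down + n; omega), ?_⟩
    change sc (s ^ (i.down + n - i.down)) x = sc (s ^ (i.down + n - i.down)) y
    rw [Nat.add_sub_cancel_left]
    exact hn

end K552.QuAlg
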