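import Groth.Agent.NonAbH1.K552.QuEqv
import Groth.Agent.S0441

/-!
# Extension after rescaling for automorphisms of a torsor
-/

set_option autoImplicit false
universe u

open CategoryTheory CategoryTheory.Limits MonoidalCategory CartesianMonoidalCategory MonObj GrpObj AlgebraicGeometry
open Groth.Agent.Books.BorelOrb K554.Fpqc

namespace K552.QuAut

open K552.QuOver K552.QuEqv

variable {S : Scheme.{u}} {G Y : Over S} [GrpObj G] {a : AlgGrp.Action G Y} (ha : NonAbH1.IsPseudoTorsorSch a)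
  {V V' : Over S}

/-- the value of an automorphism on a section, as a point of `G` -/
noncomputable def toG (h : Eqv a a V) (v : V ⟶ Y) : V ⟶ G := dif ha (ev h v (𝟙 V)) v

/-- the automorphism with given value on the section -/
noncomputable def ofG (γ : V ⟶ G) (v : V ⟶ Y) : Eqv a a V :=
  mk' (fun y t => sm a (dif ha y (t ≫ v) * (t ≫ γ)) (t ≫ v))
    (fun r y t => by rw [comp_sm, comp_mul, comp_dif, Category.assoc, Category.assoc])
    (fun g y t => by rw [dif_sm_left, _root_.mul_assoc, mul_sm])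

lemma ev_ofG (γ : V ⟶ G) (v : V ⟶ Y) {T : Over S} (y : T ⟶ Y) (t : T ⟶ V) :
    ev (ofG ha γ v) y t = sm a (dif ha y (t ≫ v) * (t ≫ γ)) (t ≫ v) :=
  ev_mk' _ (fun r y t => by rw [comp_sm, comp_mul, comp_dif, Category.assoc, Category.assoc])
    (fun g y t => by rw [dif_sm_left, _root_.mul_assoc, mul_sm]) _ _

lemma toG_rs (f : V' ⟶ V) (h : Eqv a a V) (v : V ⟶ Y) : toG ha (rs f h) (f ≫ v) = f ≫ toG ha h v := by
  rw [toG, toG, comp_dif, ev_rs, comp_ev, Category.id_comp, Category.comp_id]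

lemma rs_ofG (f : V' ⟶ V) (γ : V ⟶ G) (v : V ⟶ Y) : rs f (ofG ha γ v) = ofG ha (f ≫ γ) (f ≫ v) :=
  Eqv.ext' fun y t => by rw [ev_rs, ev_ofG, ev_ofG, Category.assoc, Category.assoc]

lemma ofG_toG (h : Eqv a a V) (v : V ⟶ Y) : ofG ha (toG ha h v) v = h := by
  apply Eqv.ext'
  intro T y t
  rw [ev_ofG, toG, comp_dif, comp_ev, Category.comp_id, mul_sm, sm_dif, ← ev_sm, sm_dif]

lemma toG_ofG (γ : V ⟶ G) (v : V ⟶ Y) : toG ha (ofG ha γ v) v = γ := by
  rw [toG, ev_ofG, Category.id_comp, Category.id_comp, dif_self, _root_.one_mul]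
  exact dif_eq ha rfl

variable {Z Zs P Ps : Over S} {s : Γ(S, ⊤)} {j : Zs ⟶ Z} {p : P ⟶ Z} {x : Fn P} {ps : Ps ⟶ Zs} {xs : Fn Ps}

include ha

/-- extension when there is a section over `Z` -/
theorem exists_ext_loc [IsAffine Z.left] [LocallyOfFinitePresentation G.hom] (v : Z ⟶ Y)
    (hj : IsLocz s Z Zs j) (hps : IsLine Zs Ps ps xs) (φ : Eqv a a Ps) (g : Eqv a a Z)
    (h0 : ∀ {T : Over S} (f : T ⟶ Ps), res f xs = 0 → rs f φ = rs (f ≫ ps ≫ j) g) :
    ∃ (N : ℕ) (ψ : Eqv a a P), (∀ {T : Over S} (f : T ⟶ P), res f x = 0 → rs f ψ = rs (f ≫ p) g) ∧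
      ∀ {T : Over S} (e : T ⟶ P) (b : T ⟶ Ps), e ≫ p = b ≫ ps ≫ j → res b xs = cst s T ^ N * res e x →
        rs e ψ = rs b φ := by
  obtain ⟨N, ψ, h1, h2⟩ := QuLfp.exists_ext (x := x) (p := p) hj hps (toG ha φ (ps ≫ j ≫ v)) (toG ha g v)
    (fun f hf => by
      rw [← toG_rs, h0 f hf]
      have := toG_rs ha (f ≫ ps ≫ j) g v
      simpa only [Category.assoc] using this)
  refine ⟨N, ofG ha ψ (p ≫ v), ?_, ?_⟩
  · intro T f hf
    rw [rs_ofG, h1 f hf, ← Category.assoc, ← toG_rs, ← Category.assoc, ofG_toG]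
  · intro T e b heb hx
    rw [rs_ofG, h2 e b heb hx, ← toG_rs]
    have : e ≫ p ≫ v = b ≫ ps ≫ j ≫ v := by
      rw [← Category.assoc, heb]
      simp only [Category.assoc]
    rw [this, ofG_toG]

/-- uniqueness when there is a section over `Z` -/
theorem exists_eq_loc [IsAffine Z.left] [LocallyOfFiniteType G.hom] (v : Z ⟶ Y) (s : Γ(S, ⊤)) (hp : IsLine Z P p x)
    (ψ ψ' : Eqv a a P) (h0 : ∀ {T : Over S} (f : T ⟶ P), res f x = 0 → rs f ψ = rs f ψ')
    (hs : ∀ {T : Over S} (f : T ⟶ P), IsUnit (cst s T) → rs f ψ = rs f ψ') :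
    ∃ N : ℕ, ∀ {T : Over S} (f f' : T ⟶ P), f ≫ p = f' ≫ p → res f x = cst s T ^ N * res f' x →
      rs f ψ = rs f ψ' := by
  obtain ⟨N, hN⟩ := QuLfp.exists_eq s hp (toG ha ψ (p ≫ v)) (toG ha ψ' (p ≫ v))
    (fun f hf => by rw [← toG_rs, ← toG_rs, h0 f hf]) (fun f hf => by rw [← toG_rs, ← toG_rs, hs f hf])
  refine ⟨N, fun {T} f f' hff hx => ?_⟩
  have h1 := hN f f' hff hx
  rw [← toG_rs, ← toG_rs] at h1
  rw [← ofG_toG ha (rs f ψ) (f ≫ p ≫ v), h1, ofG_toG]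

omit ha [GrpObj G] in
lemma isLine_tensor (hp : IsLine Z P p x) (T₁ : Over S) : IsLine (Z ⊗ T₁) (P ⊗ T₁) (p ▷ T₁) (res (fst P T₁) x) where
  ex z c := by
    obtain ⟨f, hf1, hf2⟩ := hp.ex (z ≫ fst _ _) c
    refine ⟨lift f (z ≫ snd _ _), ?_, ?_⟩
    · rw [lift_whiskerRight, hf1, ← comp_lift, lift_fst_snd, Category.comp_id]
    · rw [← res_comp, lift_fst, hf2]
  uniq f g h1 h2 := by
    apply CartesianMonoidalCategory.hom_ext
    · refine hp.uniq _ _ ?_ ?_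
      · have := congrArg (fun f => f ≫ fst _ _) h1
        simpa using this
      · rw [res_comp, res_comp, h2]
    · have := congrArg (fun f => f ≫ snd _ _) h1
      simpa using this

omit ha [GrpObj G] in
lemma isLocz_tensor (hj : IsLocz s Z Zs j) (T₁ : Over S) : IsLocz s (Z ⊗ T₁) (Zs ⊗ T₁) (j ▷ T₁) where
  unit := isUnit_cst hj.unit (fst Zs T₁)
  ex z h := by
    obtain ⟨f, hf⟩ := hj.ex (z ≫ fst _ _) h
    refine ⟨lift f (z ≫ snd _ _), ?_⟩
    rw [lift_whiskerRight, hf, ← comp_lift, lift_fst_snd, Category.comp_id]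
  uniq f g h := by
    apply CartesianMonoidalCategory.hom_ext
    · refine hj.uniq _ _ ?_
      have := congrArg (fun f => f ≫ fst _ _) h
      simpa using this
    · have := congrArg (fun f => f ≫ snd _ _) h
      simpa using this

omit ha [GrpObj G] in
lemma isAffine_tensor [IsAffine S] (Z T₁ : Over S) [IsAffine Z.left] [IsAffine T₁.left] : IsAffine (Z ⊗ T₁).left :=
  inferInstanceAs (IsAffine (pullback Z.hom T₁.hom))

/-- uniqueness -/
theorem exists_eq_of_cov [IsAffine S] [IsAffine Z.left] [LocallyOfFiniteType G.hom] {T₁ : Over S} [IsAffine T₁.left]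
    (hc : IsCov T₁) (v : T₁ ⟶ Y) (s : Γ(S, ⊤)) (hp : IsLine Z P p x)
    (ψ ψ' : Eqv a a P) (h0 : ∀ {T : Over S} (f : T ⟶ P), res f x = 0 → rs f ψ = rs f ψ')
    (hs : ∀ {T : Over S} (f : T ⟶ P), IsUnit (cst s T) → rs f ψ = rs f ψ') :
    ∃ N : ℕ, ∀ {T : Over S} (f f' : T ⟶ P), f ≫ p = f' ≫ p → res f x = cst s T ^ N * res f' x →
      rs f ψ = rs f ψ' := by
  have := isAffine_tensor Z T₁
  obtain ⟨N, hN⟩ := exists_eq_loc ha (snd Z T₁ ≫ v) s (isLine_tensor hp T₁) (rs (fst _ _) ψ) (rs (fst _ _) ψ')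
    (fun f hf => by rw [rs_rs, rs_rs]; exact h0 _ (by rw [res_comp]; exact hf))
    (fun f hf => by rw [rs_rs, rs_rs]; exact hs _ hf)
  refine ⟨N, fun {T} f f' hff hx => ?_⟩
  apply hc.ext_eqv
  have h1 := hN (T := T ⊗ T₁) (f ▷ T₁) (f' ▷ T₁) (by rw [← comp_whiskerRight, ← comp_whiskerRight, hff]) (by
    rw [← res_comp, ← res_comp, whiskerRight_fst, whiskerRight_fst, res_comp, res_comp, hx, map_mul, map_pow, res_cst])
  rw [rs_rs, rs_rs, whiskerRight_fst] at h1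
  rw [rs_rs, rs_rs, h1]

/-- extension -/
theorem exists_ext_of_cov [IsAffine S] [IsAffine Z.left] [LocallyOfFinitePresentation G.hom] {T₁ : Over S}
    [IsAffine T₁.left] (hc : IsCov T₁) (v : T₁ ⟶ Y) (hj : IsLocz s Z Zs j) (hp : IsLine Z P p x)
    (hps : IsLine Zs Ps ps xs) (φ : Eqv a a Ps) (g : Eqv a a Z)
    (h0 : ∀ {T : Over S} (f : T ⟶ Ps), res f xs = 0 → rs f φ = rs (f ≫ ps ≫ j) g) :
    ∃ (N : ℕ) (ψ : Eqv a a P), (∀ {T : Over S} (f : T ⟶ P), res f x = 0 → rs f ψ = rs (f ≫ p) g) ∧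
      ∀ {T : Over S} (e : T ⟶ P) (b : T ⟶ Ps), e ≫ p = b ≫ ps ≫ j → res b xs = cst s T ^ N * res e x →
        rs e ψ = rs b φ := by
  have := isAffine_tensor Z T₁
  have := isAffine_tensor T₁ T₁
  have := isAffine_tensor Z (T₁ ⊗ T₁)
  obtain ⟨N, ψ₁, h1, h2⟩ := exists_ext_loc ha (P := P ⊗ T₁) (p := p ▷ T₁) (x := res (fst P T₁) x) (snd Z T₁ ≫ v)
    (isLocz_tensor hj T₁) (isLine_tensor hps T₁) (rs (fst _ _) φ) (rs (fst _ _) g)
    (fun f hf => by
      rw [rs_rs, rs_rs, h0 _ (by rw [res_comp]; exact hf)]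
      simp only [Category.assoc, whiskerRight_fst, whiskerRight_fst_assoc])
  -- the two restrictions to `P × T₁ × T₁`
  obtain ⟨M, hM⟩ := exists_eq_loc ha (Z := Z ⊗ (T₁ ⊗ T₁)) (P := P ⊗ (T₁ ⊗ T₁)) (p := p ▷ (T₁ ⊗ T₁))
    (snd _ _ ≫ fst _ _ ≫ v) s (isLine_tensor hp (T₁ ⊗ T₁)) (rs (P ◁ fst T₁ T₁) ψ₁) (rs (P ◁ snd T₁ T₁) ψ₁)
    (fun f hf => by
      have hf' : ∀ q : T₁ ⊗ T₁ ⟶ T₁, res (f ≫ P ◁ q) (res (fst P T₁) x) = 0 := fun q => by
        rw [res_comp, ← res_comp (P ◁ q), whiskerLeft_fst, hf]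
      rw [rs_rs, rs_rs, h1 _ (hf' _), h1 _ (hf' _), rs_rs, rs_rs]
      simp)
    (fun {T} f hf => by
      rw [rs_rs, rs_rs]
      obtain ⟨w, hw⟩ := hj.ex (f ≫ fst _ _ ≫ p) hf
      obtain ⟨b, hb1, hb2⟩ := hps.ex w (cst s T ^ N * res (f ≫ fst _ _) x)
      have e1 : ∀ q : T₁ ⊗ T₁ ⟶ T₁, rs (f ≫ P ◁ q) ψ₁ = rs b φ := fun q => by
        rw [h2 (f ≫ P ◁ q) (lift b (f ≫ snd _ _ ≫ q)) ?_ ?_, rs_rs, lift_fst]
        · apply CartesianMonoidalCategory.hom_ext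
          · simp only [Category.assoc, whiskerRight_fst, whiskerRight_fst_assoc, whiskerLeft_fst_assoc, lift_fst_assoc]
            rw [← Category.assoc b, hb1, hw]
          · simp
        · rw [← res_comp, lift_fst, hb2, res_comp f (P ◁ q), ← res_comp (P ◁ q), whiskerLeft_fst, ← res_comp]
      rw [e1, e1])
  obtain ⟨σ, hσ1, hσ2⟩ := hp.ex p (cst s P ^ M * x)
  have hψ : ∀ {W : Over S} (v : W ⟶ P) (t t' : W ⟶ T₁), rs (lift v t) (rs (σ ▷ T₁) ψ₁) =
      rs (lift v t') (rs (σ ▷ T₁) ψ₁) := by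
    intro W v t t'
    have h3 := hM (lift (v ≫ σ) (lift t t')) (lift v (lift t t'))
      (by rw [lift_whiskerRight, lift_whiskerRight, Category.assoc, hσ1])
      (by
        rw [← res_comp, ← res_comp, lift_fst, lift_fst, res_comp, hσ2, map_mul, map_pow, res_cst])
    rw [rs_rs, rs_rs, lift_whiskerLeft, lift_whiskerLeft, lift_fst, lift_snd] at h3
    rw [rs_rs, rs_rs, lift_whiskerRight, lift_whiskerRight, h3]
  obtain ⟨ψ, hψ'⟩ := hc.glue_eqv _ hψ
  refine ⟨M + N, ψ, ?_, ?_⟩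
  · intro T f hf
    apply hc.ext_eqv
    have h4 : rs (f ▷ T₁) (rs (fst P T₁) ψ) = rs (fst T T₁ ≫ f ≫ p) g := by
      rw [hψ', rs_rs, h1 _ ?_, rs_rs]
      · simp only [Category.assoc, whiskerRight_fst, whiskerRight_fst_assoc]
        rw [hσ1]
      · rw [← res_comp, Category.assoc, whiskerRight_fst, whiskerRight_fst_assoc, res_comp, res_comp, hσ2, map_mul,
          hf, mul_zero, map_zero]
    rw [rs_rs, whiskerRight_fst] at h4
    rw [rs_rs, rs_rs, h4]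
  · intro T e b heb hx
    apply hc.ext_eqv
    have h4 : rs (e ▷ T₁) (rs (fst P T₁) ψ) = rs (fst T T₁ ≫ b) φ := by
      rw [hψ', rs_rs, h2 _ (b ▷ T₁) ?_ ?_, rs_rs, whiskerRight_fst]
      · rw [← comp_whiskerRight, ← comp_whiskerRight, ← comp_whiskerRight, ← comp_whiskerRight, Category.assoc, hσ1,
          heb]
      · rw [← res_comp, ← res_comp, Category.assoc, whiskerRight_fst, whiskerRight_fst, whiskerRight_fst_assoc, res_comp,
          res_comp (fst T T₁), res_comp e, hσ2, hx]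
        simp only [map_mul, map_pow, res_cst]
        ring
    rw [rs_rs, whiskerRight_fst] at h4
    rw [rs_rs, rs_rs, h4]

omit ha in
/-- an affine cover over which a torsor has a section -/
theorem exists_cov [IsAffine S] (ha : NonAbH1.IsTorsorFor Scheme.fppfPrecoverage a) :
    ∃ (T₁ : Over S) (_ : IsAffine T₁.left) (_ : T₁ ⟶ Y), IsCov T₁ := by
  obtain ⟨S', c, hc1, hc2, hc3, σ, hσ⟩ := K551.Tors.exists_cover_of_isLocallyTrivial ha.2
  obtain ⟨U', q, h1, h2, h3, h4⟩ := Groth.Agent.S0441.exists_affine_cover c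
  refine ⟨Over.mk (q ≫ c), h1, Over.homMk (q ≫ σ) (by simp [hσ]), ?_⟩
  have h2' : Flat (Over.mk (q ≫ c)).hom := h2
  have h3' : LocallyOfFinitePresentation (Over.mk (q ≫ c)).hom := h3
  have h4' : Surjective (Over.mk (q ≫ c)).hom := h4
  exact isCov_of_fppf _

end K552.QuAut
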