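import Groth.Agent.NonAbH1.K552.QuAut

/-!
# Quillen's factorization
-/

set_option autoImplicit false
universe u

open CategoryTheory CategoryTheory.Limits MonoidalCategory CartesianMonoidalCategory MonObj GrpObj AlgebraicGeometry
open Groth.Agent.Books.BorelOrb K554.Fpqc

namespace K552.QuDec

open K552.QuOver K552.QuEqv K552.QuAut

variable {S : Scheme.{u}}

/-- `E` with a multiplication by functions, and an origin. -/
structure Scal (E : Over S) where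
  /-- multiplication -/
  mul : ∀ {T : Over S}, Fn T → (T ⟶ E) → (T ⟶ E)
  /-- the origin -/
  o : 𝟙_ (Over S) ⟶ E
  nat : ∀ {T T' : Over S} (f : T' ⟶ T) (c : Fn T) (e : T ⟶ E), f ≫ mul c e = mul (res f c) (f ≫ e)
  one : ∀ {T : Over S} (e : T ⟶ E), mul 1 e = e
  zero : ∀ {T : Over S} (e : T ⟶ E), mul 0 e = toUnit T ≫ o

section Dec

variable {G Y : Over S} [GrpObj G] {a : AlgGrp.Action G Y}
  {E : Over S} (σ : Scal E) {r r' : Γ(S, ⊤)} {D D' B : Over S}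

/-- `(e, b, d, d')` -/
noncomputable abbrev pt4 {T : Over S} (e : T ⟶ E) (β : T ⟶ B) (d : T ⟶ D) (d' : T ⟶ D') : T ⟶ ((E ⊗ B) ⊗ D) ⊗ D' :=
  lift (lift (lift e β) d) d'

lemma comp_pt4 {T T' : Over S} (f : T' ⟶ T) (e : T ⟶ E) (β : T ⟶ B) (d : T ⟶ D) (d' : T ⟶ D') :
    f ≫ pt4 e β d d' = pt4 (f ≫ e) (f ≫ β) (f ≫ d) (f ≫ d') := by
  rw [pt4, comp_lift, comp_lift, comp_lift]

lemma pt4_eq {T : Over S} (q : T ⟶ E ⊗ B) (d : T ⟶ D) (d' : T ⟶ D') :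
    lift (lift q d) d' = pt4 (q ≫ fst _ _) (q ≫ snd _ _) d d' := by
  rw [pt4, ← comp_lift, lift_fst_snd, Category.comp_id]

/-- **Quillen's factorization** over `B` on which `r`, `r'` generate the unit ideal. -/
theorem exists_dec [IsAffine S] [LocallyOfFinitePresentation G.hom]
    (ha : NonAbH1.IsTorsorFor Scheme.fppfPrecoverage a) (hD : IsD r D) (hD' : IsD r' D')
    [IsAffine E.left] [IsAffine B.left] [IsAffine D.left] [IsAffine D'.left]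
    (hB : IsCoprime (cst r B) (cst r' B))
    (f : Eqv a a (((E ⊗ B) ⊗ D) ⊗ D'))
    (hf : ∀ {T : Over S} (β : T ⟶ B) (d : T ⟶ D) (d' : T ⟶ D'), rs (pt4 (toUnit T ≫ σ.o) β d d') f = one a T) :
    ∃ (f₁ : Eqv a a ((E ⊗ B) ⊗ D)) (f₂ : Eqv a a ((E ⊗ B) ⊗ D')), ∀ {T : Over S} (q : T ⟶ E ⊗ B) (d : T ⟶ D)
      (d' : T ⟶ D'), rs (lift (lift q d) d') f = cmp (rs (lift q d) f₁) (rs (lift q d') f₂) := by
  obtain ⟨T₁, hT₁, v, hc⟩ := exists_cov ha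
  have := isAffine_tensor E B
  have := isAffine_tensor (E ⊗ B) D
  have := isAffine_tensor (E ⊗ B) D'
  -- the two families
  let Ps₁ : Over S := (((E ⊗ B) ⊗ D) ⊗ D') ⊗ A1 S
  let e₁ : Ps₁ ⟶ E := fst _ _ ≫ fst _ _ ≫ fst _ _ ≫ fst _ _
  let b₁ : Ps₁ ⟶ B := fst _ _ ≫ fst _ _ ≫ fst _ _ ≫ snd _ _
  let d₁ : Ps₁ ⟶ D := fst _ _ ≫ fst _ _ ≫ snd _ _
  let d₁' : Ps₁ ⟶ D' := fst _ _ ≫ snd _ _
  let x₁ : Fn Ps₁ := co (snd _ _)
  let φ₁ : Eqv a a Ps₁ := cmp (rs (pt4 e₁ b₁ d₁ d₁') f) (inv ha.1 (rs (pt4 (σ.mul (1 + x₁) e₁) b₁ d₁ d₁') f))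
  have hφ₁ : ∀ {T : Over S} (t : T ⟶ Ps₁), rs t φ₁ = cmp (rs (pt4 (t ≫ e₁) (t ≫ b₁) (t ≫ d₁) (t ≫ d₁')) f)
      (inv ha.1 (rs (pt4 (σ.mul (1 + res t x₁) (t ≫ e₁)) (t ≫ b₁) (t ≫ d₁) (t ≫ d₁')) f)) := by
    intro T t
    rw [rs_cmp, rs_inv, rs_rs, rs_rs, comp_pt4, comp_pt4, σ.nat, map_add, map_one]
  obtain ⟨N₁, ψ₁, h1, h1'⟩ := exists_ext_of_cov ha.1 (Z := (E ⊗ B) ⊗ D) hc v (isLocz_prod hD' _) (isLine_prod _)
    (isLine_prod _) φ₁ (one a _) (fun {T} t ht => by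
      rw [hφ₁, rs_one]
      have : res t x₁ = 0 := ht
      rw [this, add_zero, σ.one, cmp_inv])
  let Ps₂ : Over S := (((E ⊗ B) ⊗ D') ⊗ D) ⊗ A1 S
  let e₂ : Ps₂ ⟶ E := fst _ _ ≫ fst _ _ ≫ fst _ _ ≫ fst _ _
  let b₂ : Ps₂ ⟶ B := fst _ _ ≫ fst _ _ ≫ fst _ _ ≫ snd _ _
  let d₂' : Ps₂ ⟶ D' := fst _ _ ≫ fst _ _ ≫ snd _ _
  let d₂ : Ps₂ ⟶ D := fst _ _ ≫ snd _ _
  let x₂ : Fn Ps₂ := co (snd _ _)
  let φ₂ : Eqv a a Ps₂ := rs (pt4 (σ.mul x₂ e₂) b₂ d₂ d₂') f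
  have hφ₂ : ∀ {T : Over S} (t : T ⟶ Ps₂), rs t φ₂ =
      rs (pt4 (σ.mul (res t x₂) (t ≫ e₂)) (t ≫ b₂) (t ≫ d₂) (t ≫ d₂')) f := by
    intro T t
    rw [rs_rs, comp_pt4, σ.nat]
  obtain ⟨N₂, ψ₂, h2, h2'⟩ := exists_ext_of_cov ha.1 (Z := (E ⊗ B) ⊗ D') hc v (isLocz_prod hD _) (isLine_prod _)
    (isLine_prod _) φ₂ (one a _) (fun {T} t ht => by
      rw [hφ₂, rs_one]
      have : res t x₂ = 0 := ht
      rw [this, σ.zero, hf])
  -- the partition of unity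
  obtain ⟨c', c, hcc⟩ := (hB.pow (m := N₂) (n := N₁))
  have hcc' : 1 + cst r' B ^ N₁ * (-c) = cst r B ^ N₂ * c' := by linear_combination hcc.symm
  refine ⟨rs (lift (𝟙 _) (pt (res (fst _ _ ≫ snd _ _) (-c)))) ψ₁,
    rs (lift (𝟙 _) (pt (res (fst _ _ ≫ snd _ _) c'))) ψ₂, ?_⟩
  intro T q d d'
  have hc1 : cst r' T ^ N₁ * res (q ≫ snd _ _) (-c) + 1 = cst r T ^ N₂ * res (q ≫ snd _ _) c' := by
    have := congrArg (res (q ≫ snd E B)) hcc'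
    rw [map_add, map_mul, map_mul, map_pow, map_pow, map_one, res_cst, res_cst] at this
    rw [← this]
    ring
  have e1 : rs (lift q d) (rs (lift (𝟙 _) (pt (res (fst _ _ ≫ snd _ _) (-c)))) ψ₁) =
      rs (lift (lift (lift q d) d') (pt (cst r' T ^ N₁ * res (q ≫ snd _ _) (-c)))) φ₁ := by
    rw [rs_rs]
    refine h1' _ _ ?_ ?_
    · rw [comp_lift, Category.comp_id, lift_fst, lift_fst_assoc, lift_fst]
    · rw [← co_comp, lift_snd, co_pt, comp_lift, ← co_comp, lift_snd, comp_pt, co_pt, ← res_comp]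
      congr 2
      simp
  have e2 : rs (lift q d') (rs (lift (𝟙 _) (pt (res (fst _ _ ≫ snd _ _) c'))) ψ₂) =
      rs (lift (lift (lift q d') d) (pt (cst r T ^ N₂ * res (q ≫ snd _ _) c'))) φ₂ := by
    rw [rs_rs]
    refine h2' _ _ ?_ ?_
    · rw [comp_lift, Category.comp_id, lift_fst, lift_fst_assoc, lift_fst]
    · rw [← co_comp, lift_snd, co_pt, comp_lift, ← co_comp, lift_snd, comp_pt, co_pt, ← res_comp]
      congr 2
      simp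
  rw [e1, e2, hφ₁, hφ₂]
  have a1 : ∀ z : Fn T, lift (lift (lift q d) d') (pt z) ≫ e₁ = q ≫ fst _ _ := fun z => by simp [e₁]
  have a2 : ∀ z : Fn T, lift (lift (lift q d) d') (pt z) ≫ b₁ = q ≫ snd _ _ := fun z => by simp [b₁]
  have a3 : ∀ z : Fn T, lift (lift (lift q d) d') (pt z) ≫ d₁ = d := fun z => by simp [d₁]
  have a4 : ∀ z : Fn T, lift (lift (lift q d) d') (pt z) ≫ d₁' = d' := fun z => by simp [d₁']
  have a5 : ∀ z : Fn T, res (lift (lift (lift q d) d') (pt z)) x₁ = z := fun z => by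
    rw [← co_comp, lift_snd, co_pt]
  have a6 : ∀ z : Fn T, lift (lift (lift q d') d) (pt z) ≫ e₂ = q ≫ fst _ _ := fun z => by simp [e₂]
  have a7 : ∀ z : Fn T, lift (lift (lift q d') d) (pt z) ≫ b₂ = q ≫ snd _ _ := fun z => by simp [b₂]
  have a8 : ∀ z : Fn T, lift (lift (lift q d') d) (pt z) ≫ d₂ = d := fun z => by simp [d₂]
  have a9 : ∀ z : Fn T, lift (lift (lift q d') d) (pt z) ≫ d₂' = d' := fun z => by simp [d₂']
  have a10 : ∀ z : Fn T, res (lift (lift (lift q d') d) (pt z)) x₂ = z := fun z => by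
    rw [← co_comp, lift_snd, co_pt]
  rw [a1, a2, a3, a4, a5, a6, a7, a8, a9, a10, ← hc1, add_comm (1 : Fn T), cmp_assoc, inv_cmp, cmp_one, pt4_eq]

end Dec

end K552.QuDec
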