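import Groth.Agent.NonAbH1.K552.QuLfp
import Groth.Agent.NonAbH1.K551.Tors

/-!
# Equivariant morphisms `Y × T ⟶ X`
-/

set_option autoImplicit false
universe u

open CategoryTheory CategoryTheory.Limits MonoidalCategory CartesianMonoidalCategory MonObj GrpObj AlgebraicGeometry
open Groth.Agent.Books.BorelOrb

namespace K552.QuEqv

open K552.QuOver

variable {S : Scheme.{u}} {G X Y Z : Over S} [GrpObj G]

/-- equivariant morphisms `Y × T ⟶ X` -/
@[ext]
structure Eqv (a : AlgGrp.Action G Y) (b : AlgGrp.Action G X) (T : Over S) where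
  /-- the underlying morphism -/
  hom : Y ⊗ T ⟶ X
  eqv : ∀ {T' : Over S} (g : T' ⟶ G) (y : T' ⟶ Y) (t : T' ⟶ T),
    lift (sm a g y) t ≫ hom = sm b g (lift y t ≫ hom)

variable {a : AlgGrp.Action G Y} {b : AlgGrp.Action G X} {c : AlgGrp.Action G Z} {T : Over S}

/-- the value at points -/
noncomputable def ev (h : Eqv a b T) {T' : Over S} (y : T' ⟶ Y) (t : T' ⟶ T) : T' ⟶ X := lift y t ≫ h.hom

lemma comp_ev (h : Eqv a b T) {T' T'' : Over S} (f : T'' ⟶ T') (y : T' ⟶ Y) (t : T' ⟶ T) :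
    f ≫ ev h y t = ev h (f ≫ y) (f ≫ t) := by
  rw [ev, ← Category.assoc, comp_lift, ev]

lemma ev_sm (h : Eqv a b T) {T' : Over S} (g : T' ⟶ G) (y : T' ⟶ Y) (t : T' ⟶ T) :
    ev h (sm a g y) t = sm b g (ev h y t) := h.eqv g y t

lemma hom_eq (h : Eqv a b T) : h.hom = ev h (fst Y T) (snd Y T) := by
  rw [ev, lift_fst_snd, Category.id_comp]

lemma Eqv.ext' {h k : Eqv a b T} (H : ∀ {T' : Over S} (y : T' ⟶ Y) (t : T' ⟶ T), ev h y t = ev k y t) : h = k := by
  apply Eqv.ext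
  rw [hom_eq, hom_eq, H]

/-- construction from points -/
noncomputable def mk' (f : ∀ {T' : Over S}, (T' ⟶ Y) → (T' ⟶ T) → (T' ⟶ X))
    (hf : ∀ {T' T'' : Over S} (r : T'' ⟶ T') (y : T' ⟶ Y) (t : T' ⟶ T), r ≫ f y t = f (r ≫ y) (r ≫ t))
    (hs : ∀ {T' : Over S} (g : T' ⟶ G) (y : T' ⟶ Y) (t : T' ⟶ T), f (sm a g y) t = sm b g (f y t)) :
    Eqv a b T where
  hom := f (fst Y T) (snd Y T)
  eqv g y t := by
    rw [hf, hf, lift_fst, lift_snd, lift_fst, lift_snd, hs]

lemma ev_mk' (f : ∀ {T' : Over S}, (T' ⟶ Y) → (T' ⟶ T) → (T' ⟶ X))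
    (hf : ∀ {T' T'' : Over S} (r : T'' ⟶ T') (y : T' ⟶ Y) (t : T' ⟶ T), r ≫ f y t = f (r ≫ y) (r ≫ t))
    (hs : ∀ {T' : Over S} (g : T' ⟶ G) (y : T' ⟶ Y) (t : T' ⟶ T), f (sm a g y) t = sm b g (f y t))
    {T' : Over S} (y : T' ⟶ Y) (t : T' ⟶ T) : ev (mk' (a := a) (b := b) f hf hs) y t = f y t := by
  change lift y t ≫ f (fst Y T) (snd Y T) = _
  rw [hf, lift_fst, lift_snd]

/-- restriction along `f : T' ⟶ T` -/
noncomputable def rs {T' : Over S} (f : T' ⟶ T) (h : Eqv a b T) : Eqv a b T' :=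
  mk' (fun y t => ev h y (t ≫ f)) (fun r y t => by rw [comp_ev, Category.assoc]) (fun g y t => by rw [ev_sm])

@[simp] lemma ev_rs {T' : Over S} (f : T' ⟶ T) (h : Eqv a b T) {T'' : Over S} (y : T'' ⟶ Y) (t : T'' ⟶ T') :
    ev (rs f h) y t = ev h y (t ≫ f) := by
  change lift y t ≫ ev h (fst _ _) (snd _ _ ≫ f) = _
  rw [comp_ev, lift_fst, ← Category.assoc, lift_snd]

lemma rs_rs {T' T'' : Over S} (g : T'' ⟶ T') (f : T' ⟶ T) (h : Eqv a b T) : rs g (rs f h) = rs (g ≫ f) h :=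
  Eqv.ext' fun y t => by simp

@[simp] lemma rs_id (h : Eqv a b T) : rs (𝟙 T) h = h := Eqv.ext' fun y t => by simp

/-- composition -/
noncomputable def cmp (h : Eqv b c T) (k : Eqv a b T) : Eqv a c T :=
  mk' (fun y t => ev h (ev k y t) t) (fun r y t => by rw [comp_ev, comp_ev])
    (fun g y t => by rw [ev_sm, ev_sm])

@[simp] lemma ev_cmp (h : Eqv b c T) (k : Eqv a b T) {T' : Over S} (y : T' ⟶ Y) (t : T' ⟶ T) :
    ev (cmp h k) y t = ev h (ev k y t) t := by
  change lift y t ≫ ev h (ev k (fst _ _) (snd _ _)) (snd _ _) = _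
  rw [comp_ev, comp_ev, lift_fst, lift_snd]

lemma rs_cmp {T' : Over S} (f : T' ⟶ T) (h : Eqv b c T) (k : Eqv a b T) :
    rs f (cmp h k) = cmp (rs f h) (rs f k) := Eqv.ext' fun y t => by simp

variable (a T) in
/-- the identity -/
noncomputable def one : Eqv a a T := mk' (fun y _ => y) (fun _ _ _ => rfl) (fun _ _ _ => rfl)

@[simp] lemma ev_one {T' : Over S} (y : T' ⟶ Y) (t : T' ⟶ T) : ev (one a T) y t = y := lift_fst y t

@[simp] lemma rs_one {T' : Over S} (f : T' ⟶ T) : rs f (one a T) = one a T' := Eqv.ext' fun y t => by simp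

@[simp] lemma one_cmp (h : Eqv a b T) : cmp (one b T) h = h := Eqv.ext' fun y t => by simp

@[simp] lemma cmp_one (h : Eqv a b T) : cmp h (one a T) = h := Eqv.ext' fun y t => by simp

lemma cmp_assoc {W : Over S} {d : AlgGrp.Action G W} (h : Eqv c d T) (k : Eqv b c T) (l : Eqv a b T) :
    cmp (cmp h k) l = cmp h (cmp k l) := Eqv.ext' fun y t => by simp

section Pseudo

open K554.Fpqc

variable (ha : NonAbH1.IsPseudoTorsorSch a)

/-- the inverse -/
noncomputable def inv (h : Eqv a a T) : Eqv a a T :=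
  mk' (fun y t => sm a (dif ha (ev h y t) y)⁻¹ y)
    (fun r y t => by rw [comp_sm, comp_inv, comp_dif, comp_ev])
    (fun g y t => by
      rw [ev_sm, dif_sm_left, dif_sm_right, ← mul_sm, ← mul_sm]
      congr 1
      simp [_root_.mul_assoc])

@[simp] lemma ev_inv (h : Eqv a a T) {T' : Over S} (y : T' ⟶ Y) (t : T' ⟶ T) :
    ev (inv ha h) y t = sm a (dif ha (ev h y t) y)⁻¹ y := by
  change lift y t ≫ sm a (dif ha (ev h (fst _ _) (snd _ _)) (fst _ _))⁻¹ (fst _ _) = _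
  rw [comp_sm, comp_inv, comp_dif, comp_ev, lift_fst, lift_snd]

@[simp] lemma cmp_inv (h : Eqv a a T) : cmp h (inv ha h) = one a T := by
  apply Eqv.ext'
  intro T' y t
  rw [ev_cmp, ev_inv, ev_sm, ev_one]
  calc sm a (dif ha (ev h y t) y)⁻¹ (ev h y t)
      = sm a (dif ha (ev h y t) y)⁻¹ (sm a (dif ha (ev h y t) y) y) := by rw [sm_dif]
    _ = y := by rw [← mul_sm, inv_mul_cancel, one_sm]

@[simp] lemma inv_cmp (h : Eqv a a T) : cmp (inv ha h) h = one a T := by
  apply Eqv.ext'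
  intro T' y t
  rw [ev_cmp, ev_inv, ev_one]
  have h1 : ev h (ev h y t) t = sm a (dif ha (ev h y t) y) (ev h y t) := by
    rw [← ev_sm, sm_dif]
  rw [h1, dif_sm_left, dif_self, _root_.mul_one]
  calc sm a (dif ha (ev h y t) y)⁻¹ (ev h y t)
      = sm a (dif ha (ev h y t) y)⁻¹ (sm a (dif ha (ev h y t) y) y) := by rw [sm_dif]
    _ = y := by rw [← mul_sm, inv_mul_cancel, one_sm]

lemma rs_inv {T' : Over S} (f : T' ⟶ T) (h : Eqv a a T) : rs f (inv ha h) = inv ha (rs f h) :=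
  Eqv.ext' fun y t => by simp

end Pseudo

/-! ### Covers -/

/-- morphisms glue along the projections `V × T₁ ⟶ V` -/
structure IsCov (T₁ : Over S) : Prop where
  sep : ∀ {V X : Over S} (f g : V ⟶ X), fst V T₁ ≫ f = fst V T₁ ≫ g → f = g
  glue : ∀ {V X : Over S} (f : V ⊗ T₁ ⟶ X),
    (∀ {W : Over S} (v : W ⟶ V) (t t' : W ⟶ T₁), lift v t ≫ f = lift v t' ≫ f) → ∃ f' : V ⟶ X, fst V T₁ ≫ f' = f

theorem isCov_of_fppf (T₁ : Over S) [Surjective T₁.hom] [Flat T₁.hom] [LocallyOfFinitePresentation T₁.hom] :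
    IsCov T₁ := by
  have key : ∀ V : Over S, Presieve.singleton (fst V T₁).left ∈ Scheme.fppfPrecoverage V.left := by
    intro V
    have h1 : Surjective (fst V T₁).left := by
      change Surjective (pullback.fst V.hom T₁.hom)
      infer_instance
    have h2 : Flat (fst V T₁).left := by
      change Flat (pullback.fst V.hom T₁.hom)
      infer_instance
    have h3 : LocallyOfFinitePresentation (fst V T₁).left := by
      change LocallyOfFinitePresentation (pullback.fst V.hom T₁.hom)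
      infer_instance
    exact Scheme.Hom.singleton_mem_fppfPrecoverage _
  constructor
  · intro V X f g h
    ext1
    refine K554.Fpqc.eq_of_cover Scheme.fppfPrecoverage (key V) ?_
    rintro T' _ ⟨⟩
    simpa using congrArg (fun f => f.left) h
  · intro V X f hf
    obtain ⟨t, ht⟩ := K554.Fpqc.exists_glue Scheme.fppfPrecoverage (key V) (Y := X.left)
      (fun T' g hg => by
        have e : T' = (V ⊗ T₁).left := by cases hg; rfl
        exact eqToHom e ≫ f.left) (by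
      rintro _ _ W g₁ g₂ _ _ ⟨⟩ ⟨⟩ e
      simp only [eqToHom_refl, Category.id_comp]
      let g₁' : Over.mk (g₁ ≫ (V ⊗ T₁).hom) ⟶ V ⊗ T₁ := Over.homMk g₁ rfl
      let g₂' : Over.mk (g₁ ≫ (V ⊗ T₁).hom) ⟶ V ⊗ T₁ := Over.homMk g₂ (by
        have e1 : (fst V T₁).left ≫ V.hom = (V ⊗ T₁).hom := Over.w (fst V T₁)
        change g₂ ≫ (V ⊗ T₁).hom = g₁ ≫ (V ⊗ T₁).hom
        rw [← e1, ← Category.assoc, ← Category.assoc, e])
      have e2 : g₁' ≫ fst V T₁ = g₂' ≫ fst V T₁ := by ext1; exact e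
      have h1 := hf (g₁' ≫ fst V T₁) (g₁' ≫ snd V T₁) (g₂' ≫ snd V T₁)
      have h2 : lift (g₁' ≫ fst V T₁) (g₁' ≫ snd V T₁) = g₁' := by
        rw [← comp_lift, lift_fst_snd, Category.comp_id]
      have h3 : lift (g₁' ≫ fst V T₁) (g₂' ≫ snd V T₁) = g₂' := by
        rw [e2, ← comp_lift, lift_fst_snd, Category.comp_id]
      rw [h2, h3] at h1
      exact congrArg (fun f => f.left) h1)
    have ht' : (fst V T₁).left ≫ t = f.left := by
      have := ht (fst V T₁).left (Presieve.singleton.mk)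
      simpa using this
    refine ⟨Over.homMk t ?_, by ext1; exact ht'⟩
    refine K554.Fpqc.eq_of_cover Scheme.fppfPrecoverage (key V) ?_
    rintro T' _ ⟨⟩
    rw [← Category.assoc, ht', Over.w f, Over.w (fst V T₁)]

namespace IsCov

variable {T₁ : Over S} (hc : IsCov T₁)
include hc

lemma ext_eqv {h k : Eqv a b T} (e : rs (fst T T₁) h = rs (fst T T₁) k) : h = k := by
  apply Eqv.ext'
  intro T' y t
  refine hc.sep _ _ ?_
  have h1 := congrArg (fun z => ev z (fst T' T₁ ≫ y) (lift (fst T' T₁ ≫ t) (snd T' T₁))) e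
  simp only [ev_rs, lift_fst] at h1
  rw [comp_ev, comp_ev, h1]

/-- descent of equivariant morphisms -/
lemma glue_eqv (h : Eqv a b (T ⊗ T₁))
    (H : ∀ {W : Over S} (v : W ⟶ T) (t t' : W ⟶ T₁), rs (lift v t) h = rs (lift v t') h) :
    ∃ h' : Eqv a b T, rs (fst T T₁) h' = h := by
  obtain ⟨f, hf⟩ := hc.glue (V := Y ⊗ T) (X := X) (lift (fst _ _ ≫ fst _ _) (lift (fst _ _ ≫ snd _ _) (snd _ _)) ≫ h.hom)
    (by
      intro W v t t'
      have h1 := H (v ≫ snd _ _) t t'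
      have h2 := congrArg (fun z => ev z (v ≫ fst _ _) (𝟙 W)) h1
      simp only [ev_rs, Category.id_comp] at h2
      simp only [ev] at h2
      rw [← Category.assoc, ← Category.assoc, comp_lift, comp_lift, comp_lift, comp_lift]
      simp only [lift_fst_assoc, lift_snd]
      exact h2)
  have hf' : ∀ {T' : Over S} (y : T' ⟶ Y) (t : T' ⟶ T) (t₁ : T' ⟶ T₁), lift y t ≫ f = ev h y (lift t t₁) := by
    intro T' y t t₁
    have h1 := congrArg (fun z => lift (lift y t) t₁ ≫ z) hf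
    simp only [lift_fst_assoc] at h1
    rw [h1, ← Category.assoc, comp_lift, comp_lift]
    simp only [lift_fst_assoc, lift_fst, lift_snd, ev]
  refine ⟨⟨f, ?_⟩, ?_⟩
  · intro T' g y t
    refine hc.sep _ _ ?_
    rw [← Category.assoc, comp_lift, comp_sm, hf' _ _ (snd _ _), ev_sm, comp_sm, ← Category.assoc, comp_lift,
      hf' _ _ (snd _ _)]
  · apply Eqv.ext'
    intro T' y t
    rw [ev_rs]
    change lift y (t ≫ fst _ _) ≫ f = _
    rw [hf' _ _ (t ≫ snd _ _), ← comp_lift, lift_fst_snd, Category.comp_id]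

end IsCov

end K552.QuEqv
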