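import Groth.Agent.NonAbH1.K552.QuIdeal2
import Groth.Agent.NonAbH1.K552.Push
import Groth.Agent.NonAbH1.K553.Bc

/-!
# The fibre of a torsor along a section, and affine spaces
-/

set_option autoImplicit false
universe u

open CategoryTheory CategoryTheory.Limits MonoidalCategory CartesianMonoidalCategory MonObj GrpObj AlgebraicGeometry
open Groth.Agent.Books.BorelOrb K554.Fpqc

namespace K552.QuFib

open K552.QuOver K552.QuEqv K552.QuAut K552.QuDec K552.QuPatch K552.QuIdeal K552.Push

section Fib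

variable {S D : Scheme.{u}} {d : D ⟶ S} {G : Over S} [GrpObj G] {Z : Over D} (z : S ⟶ D) (hz : z ≫ d = 𝟙 S)

/-- the section as a point -/
noncomputable def oz : 𝟙_ (Over S) ⟶ Over.mk d := Over.homMk z hz

/-- the fibre along the section -/
noncomputable def iz : Red.bc z Z ⟶ (Over.map d).obj Z := Over.homMk (pullback.fst Z.hom z) (by
  change pullback.fst Z.hom z ≫ Z.hom ≫ d = pullback.snd Z.hom z
  rw [pullback.condition_assoc, hz, Category.comp_id])

lemma lift_z {T : Over S} (w : T ⟶ (Over.map d).obj Z) (h : w ≫ proj d Z = toUnit T ≫ oz z hz) :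
    ∃ y : T ⟶ Red.bc z Z, y ≫ iz z hz = w := by
  have h1 := congrArg (fun f => f.left) h
  have h2 : w.left ≫ Z.hom = T.hom ≫ z := by
    refine h1.trans ?_
    change (toUnit T).left ≫ z = T.hom ≫ z
    congr 1
  refine ⟨Over.homMk (pullback.lift w.left T.hom h2) (pullback.lift_snd _ _ _), ?_⟩
  ext1
  exact pullback.lift_fst _ _ _

lemma mono_z {T : Over S} (y y' : T ⟶ Red.bc z Z) (h : y ≫ iz z hz = y' ≫ iz z hz) : y = y' := by
  ext1
  apply pullback.hom_ext
  · exact congrArg (fun f => f.left) h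
  · exact (Over.w y).trans (Over.w y').symm

lemma zero_z {T : Over S} (y : T ⟶ Red.bc z Z) : y ≫ iz z hz ≫ proj d Z = toUnit T ≫ oz z hz := by
  ext1
  change y.left ≫ pullback.fst Z.hom z ≫ Z.hom = (toUnit T).left ≫ z
  have h1 : (toUnit T).left = T.hom := by
    have := Over.w (toUnit T)
    exact (Category.comp_id _).symm.trans this
  rw [pullback.condition, h1, ← Over.w y]
  simp

variable (b : AlgGrp.Action (Red.bc d G) Z)

lemma exists_act {T : Over S} (g : T ⟶ G) (y : T ⟶ Red.bc z Z) :
    ∃ y' : T ⟶ Red.bc z Z, y' ≫ iz z hz = sm (push b) g (y ≫ iz z hz) :=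
  lift_z z hz _ (by rw [sm_push_proj, Category.assoc, zero_z])

/-- the action on points -/
noncomputable def psz {T : Over S} (g : T ⟶ G) (y : T ⟶ Red.bc z Z) : T ⟶ Red.bc z Z :=
  (exists_act z hz b g y).choose

lemma psz_spec {T : Over S} (g : T ⟶ G) (y : T ⟶ Red.bc z Z) :
    psz z hz b g y ≫ iz z hz = sm (push b) g (y ≫ iz z hz) := (exists_act z hz b g y).choose_spec

lemma comp_psz {T T' : Over S} (t : T' ⟶ T) (g : T ⟶ G) (y : T ⟶ Red.bc z Z) :
    t ≫ psz z hz b g y = psz z hz b (t ≫ g) (t ≫ y) :=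
  mono_z z hz _ _ (by rw [Category.assoc, psz_spec, psz_spec, comp_sm, Category.assoc])

lemma psz_one {T : Over S} (y : T ⟶ Red.bc z Z) : psz z hz b (1 : T ⟶ G) y = y :=
  mono_z z hz _ _ (by rw [psz_spec, one_sm])

lemma psz_mul {T : Over S} (g h : T ⟶ G) (y : T ⟶ Red.bc z Z) : psz z hz b (g * h) y = psz z hz b g (psz z hz b h y) :=
  mono_z z hz _ _ (by rw [psz_spec, psz_spec, psz_spec, mul_sm])

/-- the action on the fibre -/
noncomputable def actz : AlgGrp.Action G (Red.bc z Z) :=
  ofPoints (psz z hz b) (comp_psz z hz b) (psz_one z hz b) (psz_mul z hz b)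

lemma sm_actz {T : Over S} (g : T ⟶ G) (y : T ⟶ Red.bc z Z) :
    sm (actz z hz b) g y ≫ iz z hz = sm (push b) g (y ≫ iz z hz) := by
  have : sm (actz z hz b) g y = psz z hz b g y :=
    sm_ofPoints (psz z hz b) (comp_psz z hz b) (psz_one z hz b) (psz_mul z hz b) g y
  rw [this, psz_spec]

theorem dat {b : AlgGrp.Action (Red.bc d G) Z} (hb : NonAbH1.IsPseudoTorsorSch b) :
    Dat (actz z hz b) (push b) (proj d Z) (iz z hz) (oz z hz) where
  inv g w := sm_push_proj b g w
  tr w w' h := existsUnique_push hb w w' h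
  eqv g y := sm_actz z hz b g y
  zero y := zero_z z hz y
  lift w h := lift_z z hz w h
  mono y y' h := mono_z z hz y y' h

theorem isTorsor_actz {K : Precoverage Scheme.{u}} [K.IsStableUnderBaseChange] {b : AlgGrp.Action (Red.bc d G) Z}
    (hb : NonAbH1.IsTorsorFor K b) : NonAbH1.IsTorsorFor K (actz z hz b) := by
  refine ⟨?_, NonAbH1.isLocallyTrivialFor_bc z K hb.2⟩
  rw [isPseudoTorsorSch_iff]
  intro T y y'
  obtain ⟨g, hg, hu⟩ := existsUnique_push hb.1 (y ≫ iz z hz) (y' ≫ iz z hz) (by
    rw [Category.assoc, zero_z, Category.assoc, zero_z])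
  refine ⟨g, ?_, ?_⟩
  · apply mono_z z hz
    rw [sm_actz, hg]
  · intro g' hg'
    apply hu
    rw [← sm_actz, hg']

end Fib

section Aff

variable {S : Scheme.{u}} (n : Type u)

variable (S) in
/-- affine space -/
noncomputable abbrev En : Over S := Over.mk (𝔸(n; S) ↘ S)

/-- the coordinates of a point -/
noncomputable def coo {T : Over S} (e : T ⟶ En S n) (j : n) : Fn T := res e (AffineSpace.coord S j)

variable {n} in
/-- the point with given coordinates -/
noncomputable def vec {T : Over S} (v : n → Fn T) : T ⟶ En S n :=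
  Over.homMk (AffineSpace.homOfVector T.hom v) (AffineSpace.homOfVector_over _ _)

lemma coo_vec {T : Over S} (v : n → Fn T) (j : n) : coo n (vec v) j = v j :=
  AffineSpace.homOfVector_appTop_coord T.hom v j

lemma coo_comp {T T' : Over S} (f : T' ⟶ T) (e : T ⟶ En S n) (j : n) : coo n (f ≫ e) j = res f (coo n e j) :=
  res_comp _ _ _

lemma coo_injective {T : Over S} {e e' : T ⟶ En S n} (h : ∀ j, coo n e j = coo n e' j) : e = e' := by
  ext1
  exact AffineSpace.hom_ext ((Over.w e).trans (Over.w e').symm) h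

/-- the zero section -/
noncomputable def zn (S : Scheme.{u}) : S ⟶ 𝔸(n; S) := AffineSpace.homOfVector (𝟙 S) (fun _ => 0)

lemma zn_comp : zn n S ≫ (𝔸(n; S) ↘ S) = 𝟙 S := AffineSpace.homOfVector_over _ _

/-- the scaling of affine space -/
noncomputable def scal : Scal (En S n) where
  mul c e := vec fun j => c * coo n e j
  o := oz (zn n S) (zn_comp n)
  nat f c e := coo_injective n fun j => by
    rw [coo_comp, coo_vec, coo_vec, map_mul, coo_comp]
  one e := coo_injective n fun j => by rw [coo_vec, _root_.one_mul]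
  zero {T} e := coo_injective n fun j => by
    rw [coo_vec, zero_mul, coo_comp]
    have : coo n (oz (zn n S) (zn_comp n)) j = 0 := AffineSpace.homOfVector_appTop_coord (𝟙 S) _ j
    rw [this, map_zero]

instance [IsAffine S] : IsAffine (En S n).left := inferInstanceAs (IsAffine 𝔸(n; S))

end Aff

end K552.QuFib
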