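import Groth.Agent.NonAbH1.K552.QuFlip
import Mathlib.RingTheory.AdjoinRoot

/-!
# Torsors over the affine line trivial away from a finite closed subscheme
-/

set_option autoImplicit false
universe u

open CategoryTheory CategoryTheory.Limits MonoidalCategory CartesianMonoidalCategory MonObj GrpObj AlgebraicGeometry
open Groth.Agent.Books.BorelOrb K554.Fpqc Polynomial

namespace K552.QuFin

open K552.QuOver K552.Push K552.QuLine K552.QuFlip

/-- the open complement of `V(I)` -/
abbrev co' {A : Type u} [CommRing A] (I : Ideal A[X]) : (Spec (CommRingCat.of A[X])).Opens :=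
  ⟨(PrimeSpectrum.zeroLocus (I : Set A[X]))ᶜ, (PrimeSpectrum.isClosed_zeroLocus _).isOpen_compl⟩

/-- an element of the ideal is invertible only outside the closed subset -/
lemma fac_co' {A : Type u} [CommRing A] (I : Ideal A[X]) {h : A[X]} (hh : h ∈ I) {V : Scheme.{u}}
    (u : V ⟶ Spec (CommRingCat.of A[X])) (hu : IsUnit (u.appTop.hom (fn A[X] h))) :
    ∃ v : V ⟶ (co' I : Scheme.{u}), v ≫ (co' I).ι = u := by
  have h1 : Set.range u ⊆ Set.range (co' I).ι := by
    rintro _ ⟨t, rfl⟩
    rw [Scheme.Opens.range_ι]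
    intro hz
    have hz' : h ∈ (u t).asIdeal := hz hh
    have h2 : V.basicOpen (u.appTop (fn A[X] h)) = ⊤ := Scheme.basicOpen_of_isUnit _ hu
    have h3 : t ∈ u ⁻¹ᵁ (Spec (CommRingCat.of A[X])).basicOpen (fn A[X] h) := by
      rw [Scheme.preimage_basicOpen_top, h2]
      trivial
    have h4 : u t ∈ (Spec (CommRingCat.of A[X])).basicOpen (fn A[X] h) := h3
    have h5 : (Spec (CommRingCat.of A[X])).basicOpen (fn A[X] h) = PrimeSpectrum.basicOpen h :=
      basicOpen_eq_of_affine (R := CommRingCat.of A[X]) h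
    rw [h5] at h4
    exact h4 hz'
  exact ⟨IsOpenImmersion.lift (co' I).ι u h1, IsOpenImmersion.lift_fac _ _ _⟩

/-- on the complement of `V(h)` the function `h` is invertible -/
lemma isUnit_co' {A : Type u} [CommRing A] (h : A[X]) :
    IsUnit ((co' (Ideal.span {h})).ι.appTop.hom (fn A[X] h)) := by
  apply QuIdeal.isUnit_of_basicOpen_eq_top
  rw [eq_top_iff]
  intro t _
  change t ∈ (co' (Ideal.span {h}) : Scheme.{u}).basicOpen ((co' (Ideal.span {h})).ι.appTop (fn A[X] h))
  rw [← Scheme.preimage_basicOpen_top]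
  change (co' (Ideal.span {h})).ι t ∈ (Spec (CommRingCat.of A[X])).basicOpen (fn A[X] h)
  have h5 : (Spec (CommRingCat.of A[X])).basicOpen (fn A[X] h) = PrimeSpectrum.basicOpen h :=
    basicOpen_eq_of_affine (R := CommRingCat.of A[X]) h
  rw [h5]
  intro hz
  have ht : (co' (Ideal.span {h})).ι t ∈ co' (Ideal.span {h}) := t.2
  apply ht
  have hz' : h ∈ ((co' (Ideal.span {h})).ι t).asIdeal := hz
  refine (PrimeSpectrum.mem_zeroLocus ((co' (Ideal.span {h})).ι t) _).mpr ?_
  intro y hy
  obtain ⟨c, rfl⟩ := Ideal.mem_span_singleton'.mp hy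
  exact Ideal.mul_mem_left _ _ hz'

variable {R : Type u} [CommRing R] {G : Over (SR R)} [GrpObj G]

/-- the local ring at `m` -/
noncomputable abbrev rhoR (R : Type u) [CommRing R] (m : Ideal R) [m.IsMaximal] :
    Spec (CommRingCat.of (Localization.AtPrime m)) ⟶ SR R :=
  Spec.map (CommRingCat.ofHom (algebraMap R (Localization.AtPrime m)))

lemma muR_dR (m : Ideal R) [m.IsMaximal] : muR R m ≫ dR R = dR (Localization.AtPrime m) ≫ rhoR R m := by
  rw [← Spec.map_comp, ← Spec.map_comp, ← CommRingCat.ofHom_comp, ← CommRingCat.ofHom_comp]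
  congr 2
  ext
  simp

/-- the base change to the line over the local ring -/
noncomputable def restr (X : NonAbH1.TorsorSch (Red.bc (dR R) G) Scheme.fppfPrecoverage) (m : Ideal R) [m.IsMaximal] :
    NonAbH1.TorsorSch (Red.bc (dR (Localization.AtPrime m)) (Red.bc (rhoR R m) G)) Scheme.fppfPrecoverage :=
  ⟨Red.bc (muR R m) X.X,
    ((X.act.bc (muR R m)).restrict (ActBC.bcCompIso (muR R m) (dR R) G (muR_dR m)).inv).restrict
      (ActBC.bcCompIso (dR (Localization.AtPrime m)) (rhoR R m) G rfl).hom,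
    K553.Bc.isTorsorFor_restrict (K553.Bc.isTorsorFor_restrict
      (NonAbH1.isTorsorFor_bc (muR R m) Scheme.fppfPrecoverage X.isTorsor) _) _⟩

lemma sec_restr {X : NonAbH1.TorsorSch (Red.bc (dR R) G) Scheme.fppfPrecoverage} {m : Ideal R} [m.IsMaximal]
    {V : Scheme.{u}} (v : V ⟶ Spec (CommRingCat.of (Localization.AtPrime m)[X])) :
    NonAbH1.HasSectionOver (restr X m).X v ↔ NonAbH1.HasSectionOver X.X (v ≫ muR R m) := by
  constructor
  · rintro ⟨s, hs⟩
    let s' : V ⟶ pullback X.X.hom (muR R m) := s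
    have hs' : s' ≫ pullback.snd X.X.hom (muR R m) = v := hs
    exact ⟨s' ≫ pullback.fst X.X.hom (muR R m), by rw [Category.assoc, pullback.condition, ← Category.assoc, hs']⟩
  · rintro ⟨s, hs⟩
    exact ⟨pullback.lift s v hs, pullback.lift_snd _ _ _⟩

theorem main [LocallyOfFinitePresentation G.hom]
    (hloc : ∀ (m : Ideal R) [m.IsMaximal]
      (Y : NonAbH1.TorsorSch (Red.bc (dR (Localization.AtPrime m)) (Red.bc (rhoR R m) G)) Scheme.fppfPrecoverage),
      (∃ I : Ideal (Localization.AtPrime m)[X],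
        Module.Finite (Localization.AtPrime m) ((Localization.AtPrime m)[X] ⧸ I) ∧
        NonAbH1.HasSectionOver Y.X (co' I).ι) →
      NonAbH1.HasSectionOver Y.X (𝟙 (Spec (CommRingCat.of (Localization.AtPrime m)[X]))))
    (X : NonAbH1.TorsorSch (Red.bc (dR R) G) Scheme.fppfPrecoverage) (I : Ideal R[X])
    (hI : Module.Finite R (R[X] ⧸ I)) (hX : NonAbH1.HasSectionOver X.X (co' I).ι) :
    NonAbH1.HasSectionOver X.X (𝟙 (Spec (CommRingCat.of R[X]))) := by
  -- a monic polynomial in `I`
  obtain ⟨h, hh, hhI⟩ : ∃ h : R[X], h.Monic ∧ h ∈ I := by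
    have h1 : IsIntegral R (Ideal.Quotient.mk I (Polynomial.X : R[X])) := IsIntegral.of_finite R _
    obtain ⟨h, hh, h2⟩ := h1
    refine ⟨h, hh, ?_⟩
    rw [← Ideal.Quotient.eq_zero_iff_mem]
    have h3 : (Ideal.Quotient.mk I) h = h.eval₂ (algebraMap R (R[X] ⧸ I)) (Ideal.Quotient.mk I Polynomial.X) := by
      have h4 : (Ideal.Quotient.mk I) = eval₂RingHom (algebraMap R (R[X] ⧸ I)) (Ideal.Quotient.mk I Polynomial.X) := by
        apply Polynomial.ringHom_ext
        · intro r
          simp
          rfl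
        · simp
      exact RingHom.congr_fun h4 h
    rw [h3, h2]
  have hX' : ∀ (T : Over (SR R)) (e : T ⟶ ER R), IsUnit (res e (fn R[X] h)) → Sec X e := by
    intro T e he
    obtain ⟨v, hv⟩ := fac_co' I hhI e.left he
    obtain ⟨s, hs⟩ := hX
    exact ⟨v ≫ s, by rw [Category.assoc, hs, hv]⟩
  -- the local triviality criterion
  have key : ∀ (Y : NonAbH1.TorsorSch (Red.bc (dR R) G) Scheme.fppfPrecoverage) (m : Ideal R) [m.IsMaximal]
      (p : (Localization.AtPrime m)[X]) (_ : p.Monic),
      (∀ (V : Scheme.{u}) (v : V ⟶ Spec (CommRingCat.of (Localization.AtPrime m)[X])),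
        IsUnit (v.appTop.hom (fn _ p)) → NonAbH1.HasSectionOver Y.X (v ≫ muR R m)) →
      NonAbH1.HasSectionOver Y.X (muR R m) := by
    intro Y m _ p hp hY
    have h1 := hloc m (restr Y m) ⟨Ideal.span {p}, hp.finite_quotient, by
      rw [sec_restr]
      exact hY _ _ (isUnit_co' p)⟩
    rw [sec_restr] at h1
    exact (Category.id_comp (muR R m)) ▸ h1
  -- local triviality of `X`
  have hXloc : ∀ (m : Ideal R) [m.IsMaximal], NonAbH1.HasSectionOver X.X (muR R m) := by
    intro m _
    refine key X m (h.map (algebraMap R _)) (hh.map _) ?_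
    intro V v hv
    let T : Over (SR R) := Over.mk ((v ≫ muR R m) ≫ dR R)
    let e : T ⟶ ER R := Over.homMk (v ≫ muR R m) rfl
    apply hX' T e
    change IsUnit ((v ≫ muR R m).appTop.hom (fn R[X] h))
    rw [Scheme.Hom.comp_appTop, CommRingCat.hom_comp, RingHom.comp_apply, map_fn]
    exact hv
  -- the torsor around infinity
  obtain ⟨X', h1, h2⟩ := exists_flip X h hh hX'
  have hX'loc : ∀ (m : Ideal R) [m.IsMaximal], NonAbH1.HasSectionOver X'.X (muR R m) := by
    intro m _
    refine key X' m Polynomial.X monic_X ?_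
    intro V v hv
    let T : Over (SR R) := Over.mk ((v ≫ muR R m) ≫ dR R)
    let e : T ⟶ ER R := Over.homMk (v ≫ muR R m) rfl
    have he : IsUnit (xc e) := by
      change IsUnit ((v ≫ muR R m).appTop.hom (fn R[X] Polynomial.X))
      rw [Scheme.Hom.comp_appTop, CommRingCat.hom_comp, RingHom.comp_apply, map_fn]
      simpa using hv
    obtain ⟨y, hy⟩ := he.exists_right_inv
    refine (h1 T e (lp y) (by rw [xc_lp, hy])).mpr ?_
    -- the inverse point factors through the line over the local ring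
    obtain ⟨s, hs⟩ := hXloc m
    let u : V ⟶ Spec (CommRingCat.of (Localization.AtPrime m)) := v ≫ dR (Localization.AtPrime m)
    let T' : Over (SR (Localization.AtPrime m)) := Over.mk u
    let e' : T' ⟶ ER (Localization.AtPrime m) := lp (T := T') y
    have hu : u ≫ rhoR R m = T.hom := by
      change (v ≫ dR (Localization.AtPrime m)) ≫ rhoR R m = (v ≫ muR R m) ≫ dR R
      rw [Category.assoc, Category.assoc, muR_dR]
    let e'' : T ⟶ ER R := Over.homMk (e'.left ≫ muR R m) (by
      change (e'.left ≫ muR R m) ≫ dR R = T.hom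
      rw [Category.assoc, muR_dR, ← Category.assoc]
      have : e'.left ≫ dR (Localization.AtPrime m) = u := Over.w e'
      rw [this, hu])
    have he'' : e'' = lp y := by
      apply xc_injective
      rw [xc_lp]
      change (e'.left ≫ muR R m).appTop.hom (fn R[X] Polynomial.X) = y
      rw [Scheme.Hom.comp_appTop, CommRingCat.hom_comp, RingHom.comp_apply, map_fn]
      have : xc e' = y := xc_lp _
      simpa [xc, res] using this
    rw [← he'']
    exact ⟨e'.left ≫ s, by rw [Category.assoc, hs]; rfl⟩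
  -- triviality of `X'`
  have hone : xc (lp (T := 𝟙_ (Over (SR R))) 1) * xc (lp (T := 𝟙_ (Over (SR R))) 1) = 1 := by
    rw [xc_lp, _root_.mul_one]
  have hT' : NonAbH1.HasSectionOver X'.X (𝟙 _) := by
    refine sec_of_secOn X' (fun m hm => exists_secOn X' m (hX'loc m)) (lp 0) (h2 _ _ ?_)
    rw [res_fn, xc_lp, eval₂_at_zero, coeff_zero_reverse, hh.leadingCoeff, map_one]
    exact isUnit_one
  have h3 : Sec X' (lp (T := 𝟙_ (Over (SR R))) 1) := by
    obtain ⟨s, hs⟩ := hT'
    exact ⟨(lp (T := 𝟙_ (Over (SR R))) 1).left ≫ s, by rw [Category.assoc, hs]; exact Category.comp_id _⟩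
  exact sec_of_secOn X (fun m hm => exists_secOn X m (hXloc m)) _ ((h1 _ _ _ hone).mp h3)

end K552.QuFin
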