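import Groth.Agent.NonAbH1.K552.QuTrans
import Groth.Agent.CurvesC.LocSys

/-!
# Torsors over `Spec R[X]` with sections locally on `Spec R`
-/

set_option autoImplicit false
universe u

open CategoryTheory CategoryTheory.Limits MonoidalCategory CartesianMonoidalCategory MonObj GrpObj AlgebraicGeometry
open Groth.Agent.Books.BorelOrb K554.Fpqc Polynomial

namespace K552.QuLine

open K552.QuOver K552.QuEqv K552.QuIdeal K552.Push K552.QuFib K552.QuTrans K552.QuDec

variable (R : Type u) [CommRing R]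

/-- the base -/
noncomputable abbrev SR : Scheme.{u} := Spec (CommRingCat.of R)

/-- the line over `R` -/
noncomputable abbrev dR : Spec (CommRingCat.of R[X]) ⟶ SR R := Spec.map (CommRingCat.ofHom (algebraMap R R[X]))

/-- the line over `R` -/
noncomputable abbrev ER : Over (SR R) := Over.mk (dR R)

variable {R}

/-- the constants -/
noncomputable def cs (T : Over (SR R)) : R →+* Fn T := T.hom.appTop.hom.comp (fn R)

lemma cs_apply (T : Over (SR R)) (r : R) : cs T r = cst (fn R r) T := rfl

lemma res_cs {T T' : Over (SR R)} (f : T' ⟶ T) (r : R) : res f (cs T r) = cs T' r := res_cst f _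

/-- the coordinate of a point -/
noncomputable def xc {T : Over (SR R)} (e : T ⟶ ER R) : Fn T := res e (fn R[X] X)

lemma xc_comp {T T' : Over (SR R)} (f : T' ⟶ T) (e : T ⟶ ER R) : xc (f ≫ e) = res f (xc e) := res_comp _ _ _

/-- the value of a polynomial at a point -/
lemma res_fn {T : Over (SR R)} (e : T ⟶ ER R) (p : R[X]) : res e (fn R[X] p) = p.eval₂ (cs T) (xc e) := by
  have h1 : (res e).comp (fn R[X]) = eval₂RingHom (cs T) (xc e) := by
    apply Polynomial.ringHom_ext
    · intro r
      simp only [RingHom.comp_apply, coe_eval₂RingHom, eval₂_C]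
      have h2 : fn R[X] (C r) = cs (ER R) r := (map_fn (algebraMap R R[X]) r).symm
      rw [h2, res_cs]
    · simp [xc]
  exact RingHom.congr_fun h1 p

lemma xc_injective {T : Over (SR R)} {e e' : T ⟶ ER R} (h : xc e = xc e') : e = e' := by
  ext1
  apply toSp_ext
  intro a
  have h1 := res_fn e a
  have h2 := res_fn e' a
  rw [h, ← h2] at h1
  exact h1

lemma exists_pt {T : Over (SR R)} (a : Fn T) : ∃ e : T ⟶ ER R, xc e = a := by
  let f : T.left ⟶ Spec (CommRingCat.of R[X]) := toSp (eval₂RingHom (cs T) a)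
  have hf : f ≫ dR R = T.hom := by
    apply toSp_ext
    intro b
    rw [Scheme.Hom.comp_appTop, CommRingCat.hom_comp, RingHom.comp_apply]
    have : (dR R).appTop.hom (fn R b) = fn R[X] (C b) := map_fn _ _
    rw [this, toSp_fn]
    simp [cs]
  refine ⟨Over.homMk f hf, ?_⟩
  change f.appTop.hom (fn R[X] X) = a
  rw [toSp_fn]
  simp

/-- the point with given coordinate -/
noncomputable def lp {T : Over (SR R)} (a : Fn T) : T ⟶ ER R := (exists_pt a).choose

@[simp] lemma xc_lp {T : Over (SR R)} (a : Fn T) : xc (lp a) = a := (exists_pt a).choose_spec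

lemma comp_lp {T T' : Over (SR R)} (f : T' ⟶ T) (a : Fn T) : f ≫ lp a = lp (res f a) :=
  xc_injective (by rw [xc_comp, xc_lp, xc_lp])

variable (R) in
/-- the zero section -/
noncomputable def z0 : SR R ⟶ Spec (CommRingCat.of R[X]) := (lp (T := 𝟙_ (Over (SR R))) 0).left

variable (R) in
lemma z0_d : z0 R ≫ dR R = 𝟙 _ := Over.w (lp (T := 𝟙_ (Over (SR R))) 0)

variable (R) in
/-- scaling of the line -/
noncomputable def scalR : Scal (ER R) where
  mul c e := lp (c * xc e)
  o := oz (z0 R) (z0_d R)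
  nat f c e := by rw [comp_lp, map_mul, xc_comp]
  one e := xc_injective (by rw [xc_lp, _root_.one_mul])
  zero {T} e := by
    apply xc_injective
    have h1 : oz (z0 R) (z0_d R) = lp (T := 𝟙_ (Over (SR R))) 0 := by ext1; rfl
    rw [xc_lp, zero_mul, h1, comp_lp, map_zero, xc_lp]

variable {G : Over (SR R)} [GrpObj G] (X : NonAbH1.TorsorSch (Red.bc (dR R) G) Scheme.fppfPrecoverage)

/-- `X` has a section over the point -/
def Sec {T : Over (SR R)} (e : T ⟶ ER R) : Prop := NonAbH1.HasSectionOver X.X e.left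

lemma Sec.comp {T T' : Over (SR R)} {e : T ⟶ ER R} (h : Sec X e) (f : T' ⟶ T) : Sec X (f ≫ e) := by
  obtain ⟨s, hs⟩ := h
  exact ⟨f.left ≫ s, by rw [Category.assoc, hs, Over.comp_left]⟩

lemma sec_iff {T : Over (SR R)} (e : T ⟶ ER R) :
    Sec X e ↔ ∃ w : T ⟶ (Over.map (dR R)).obj X.X, w ≫ proj (dR R) X.X = e := by
  constructor
  · rintro ⟨s, hs⟩
    refine ⟨Over.homMk s ?_, ?_⟩
    · change s ≫ X.X.hom ≫ dR R = T.hom
      rw [← Category.assoc, hs]
      exact Over.w e
    · ext1
      exact hs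
  · rintro ⟨w, hw⟩
    exact ⟨w.left, congrArg (fun f => f.left) hw⟩

/-- sections over every point on which `r` is invertible -/
def SecOn (r : R) : Prop := ∀ (T : Over (SR R)) (e : T ⟶ ER R), IsUnit (cs T r) → Sec X e

/-- the fibre at the origin -/
noncomputable abbrev fib : NonAbH1.TorsorSch G Scheme.fppfPrecoverage :=
  ⟨Red.bc (z0 R) X.X, actz (z0 R) (z0_d R) X.act, isTorsor_actz (z0 R) (z0_d R) X.isTorsor⟩

lemma desc_of_secOn {r : R} (h : SecOn X r) :
    Desc (fib X).act (push X.act) (proj (dR R) X.X) (fn R r) := by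
  intro T e hT
  obtain ⟨w, hw⟩ := (sec_iff X e).mp (h T e hT)
  obtain ⟨w₀, hw₀⟩ := (sec_iff X _).mp (h T (toUnit T ≫ oz (z0 R) (z0_d R)) hT)
  obtain ⟨y₀, hy₀⟩ := lift_z (z0 R) (z0_d R) w₀ hw₀
  have ha := (fib X).isTorsor.1
  have hn : ∀ {T' T'' : Over (SR R)} (f : T'' ⟶ T') (y : T' ⟶ Red.bc (z0 R) X.X) (t : T' ⟶ T),
      f ≫ sm (push X.act) (dif ha y (t ≫ y₀)) (t ≫ w) =
        sm (push X.act) (dif ha (f ≫ y) ((f ≫ t) ≫ y₀)) ((f ≫ t) ≫ w) := by
    intro T' T'' f y t
    rw [comp_sm, comp_dif, Category.assoc, Category.assoc]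
  have hs : ∀ {T' : Over (SR R)} (g : T' ⟶ G) (y : T' ⟶ Red.bc (z0 R) X.X) (t : T' ⟶ T),
      sm (push X.act) (dif ha (sm (fib X).act g y) (t ≫ y₀)) (t ≫ w) =
        sm (push X.act) g (sm (push X.act) (dif ha y (t ≫ y₀)) (t ≫ w)) := by
    intro T' g y t
    rw [dif_sm_left, mul_sm]
  refine ⟨mk' (fun {T'} y t => sm (push X.act) (dif ha y (t ≫ y₀)) (t ≫ w)) hn hs, ⟨?_⟩⟩
  intro T' y t
  rw [ev_mk' (fun {T'} y t => sm (push X.act) (dif ha y (t ≫ y₀)) (t ≫ w)) hn hs, sm_push_proj, Category.assoc, hw]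

/-- a torsor over the line, trivial locally on the base and over one section of the line, is trivial -/
theorem sec_of_secOn [LocallyOfFinitePresentation G.hom]
    (h : ∀ m : Ideal R, m.IsMaximal → ∃ r : R, r ∉ m ∧ SecOn X r)
    (e₁ : 𝟙_ (Over (SR R)) ⟶ ER R) (h₁ : Sec X e₁) : NonAbH1.HasSectionOver X.X (𝟙 _) := by
  have hE : IsAffine (ER R).left := inferInstanceAs (IsAffine (Spec (CommRingCat.of R[X])))
  obtain ⟨I, hI⟩ := QuIdeal.exists_ideal (E := ER R) (i := iz (z0 R) (z0_d R)) (fib X).isTorsor (scalR R)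
    (dat (z0 R) (z0_d R) X.isTorsor.1)
  have h2 : I.comap (fn R) = ⊤ := by
    by_contra hne
    obtain ⟨m, hm, hle⟩ := Ideal.exists_le_maximal _ hne
    obtain ⟨r, hr, hs⟩ := h m hm
    exact hr (hle (Ideal.mem_comap.mpr ((hI _).mpr (desc_of_secOn X hs))))
  have h3 : fn R 1 ∈ I := by
    have : (1 : R) ∈ I.comap (fn R) := by rw [h2]; trivial
    exact this
  obtain ⟨φ, hφ⟩ := (hI _).mp h3 (ER R) (𝟙 _) (by
    have : cst (fn R 1) (ER R) = 1 := by rw [map_one]; exact map_one _
    rw [this]
    exact isUnit_one)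
  obtain ⟨ε⟩ := nonempty_equivIso (fib X).isTorsor X.isTorsor.1 φ hφ
  obtain ⟨s, hs⟩ := h₁
  let q : SR R ⟶ (fib X).X.left := s ≫ ε.iso.inv.left ≫ pullback.fst (fib X).X.hom (dR R)
  have hq : q ≫ (fib X).X.hom = 𝟙 _ := by
    have e1 : ε.iso.inv.left ≫ pullback.snd (fib X).X.hom (dR R) = X.X.hom := Over.w ε.iso.inv
    have e2 : e₁.left ≫ dR R = 𝟙 _ := Over.w e₁
    calc q ≫ (fib X).X.hom = s ≫ ε.iso.inv.left ≫ pullback.fst (fib X).X.hom (dR R) ≫ (fib X).X.hom := by
          simp only [q, Category.assoc]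
      _ = s ≫ (ε.iso.inv.left ≫ pullback.snd (fib X).X.hom (dR R)) ≫ dR R := by
          rw [pullback.condition, Category.assoc]
      _ = 𝟙 _ := by
          rw [e1, ← Category.assoc]
          rw [hs]
          exact e2
  have hq' : (dR R ≫ q) ≫ (fib X).X.hom = 𝟙 _ ≫ dR R := by
    rw [Category.assoc, hq]
    exact (Category.comp_id _).trans (Category.id_comp _).symm
  refine ⟨pullback.lift (dR R ≫ q) (𝟙 _) hq' ≫ ε.iso.hom.left, ?_⟩
  have e3 : ε.iso.hom.left ≫ X.X.hom = pullback.snd (fib X).X.hom (dR R) := Over.w ε.iso.hom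
  rw [Category.assoc, e3, pullback.lift_snd]

section Spread

open Groth.Agent.CurvesC.LocSys

/-- a section over a localization extends to a principal localization -/
theorem exists_spread {A L : Type u} [CommRing A] [CommRing L] [Algebra A L] (M : Submonoid A) [IsLocalization M L]
    {W : Scheme.{u}} (π : W ⟶ Spec (CommRingCat.of A)) [LocallyOfFinitePresentation π]
    (s : Spec (CommRingCat.of L) ⟶ W) (hs : s ≫ π = Spec.map (CommRingCat.ofHom (algebraMap A L))) :
    ∃ m ∈ M, ∃ t : Spec (CommRingCat.of (Localization.Away m)) ⟶ W,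
      t ≫ π = Spec.map (CommRingCat.ofHom (algebraMap A (Localization.Away m))) := by
  have h1 : ∀ {i j : (Idx M)ᵒᵖ} (t : i ⟶ j), IsAffineHom ((schDiagram M).map t) := by
    intro i j t
    change IsAffineHom (Spec.map _)
    infer_instance
  have h2 : ∀ i, CompactSpace ((schDiagram M).obj i) := by
    intro i
    change CompactSpace (Spec _)
    infer_instance
  have h3 : ∀ i, QuasiSeparatedSpace ((schDiagram M).obj i) := by
    intro i
    change QuasiSeparatedSpace (Spec _)
    infer_instance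
  let t : schDiagram M ⟶ (Functor.const _).obj (Spec (CommRingCat.of A)) :=
    { app := fun j => Spec.map (CommRingCat.ofHom (algebraMap A (Stage j.unop)))
      naturality := fun i j f => by
        refine Eq.trans ?_ (Category.comp_id _).symm
        change Spec.map (CommRingCat.ofHom (trans _)) ≫ Spec.map (CommRingCat.ofHom _) = _
        rw [← Spec.map_comp, ← CommRingCat.ofHom_comp]
        congr 2
        ext r
        simp }
  obtain ⟨i, g, hg1, hg2⟩ := Scheme.exists_π_app_comp_eq_of_locallyOfFinitePresentation (schDiagram M) t π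
    (schCone M L) (isLimit M L) s (by
      ext j : 2
      change Spec.map (CommRingCat.ofHom (toL L j.unop)) ≫ Spec.map (CommRingCat.ofHom _) = s ≫ π
      rw [hs, ← Spec.map_comp, ← CommRingCat.ofHom_comp]
      congr 2
      ext r
      simp)
  exact ⟨i.unop.val, i.unop.mem, g, hg2⟩

end Spread

variable (R) in
/-- the line over the localization at `m`, mapped to the line -/
noncomputable abbrev muR (m : Ideal R) [m.IsMaximal] :
    Spec (CommRingCat.of (Localization.AtPrime m)[X]) ⟶ Spec (CommRingCat.of R[X]) :=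
  Spec.map (CommRingCat.ofHom (mapRingHom (algebraMap R (Localization.AtPrime m))))

/-- spreading out of a section over the line over the local ring at `m` -/
theorem exists_secOn [LocallyOfFinitePresentation G.hom] (m : Ideal R) [m.IsMaximal]
    (h : NonAbH1.HasSectionOver X.X (muR R m)) : ∃ r : R, r ∉ m ∧ SecOn X r := by
  have hX : LocallyOfFinitePresentation X.X.hom := by
    have h1 : LocallyOfFinitePresentation (Red.bc (dR R) G).hom :=
      inferInstanceAs (LocallyOfFinitePresentation (pullback.snd G.hom (dR R)))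
    exact K551.Tors.lfp_of_torsor X.isTorsor
  let _ : Algebra R[X] (Localization.AtPrime m)[X] :=
    (mapRingHom (algebraMap R (Localization.AtPrime m))).toAlgebra
  have := Polynomial.isLocalization m.primeCompl (Localization.AtPrime m)
  obtain ⟨s, hs⟩ := h
  obtain ⟨_, ⟨r, hr, rfl⟩, t, ht⟩ := exists_spread (m.primeCompl.map (C : R →+* R[X]))
    (L := (Localization.AtPrime m)[X]) X.X.hom s hs
  refine ⟨r, hr, fun T e hT => ?_⟩
  have hu : IsUnit ((e.left.appTop.hom.comp (fn R[X])) (C r)) := by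
    rw [RingHom.comp_apply]
    have h4 := res_fn e (C r)
    rw [eval₂_C] at h4
    exact h4 ▸ hT
  let v : T.left ⟶ Spec (CommRingCat.of (Localization.Away (C r))) :=
    toSp (IsLocalization.Away.lift (S := Localization.Away (C r)) (C r) hu)
  have hv : v ≫ Spec.map (CommRingCat.ofHom (algebraMap R[X] (Localization.Away (C r)))) = e.left := by
    apply toSp_ext
    intro b
    rw [Scheme.Hom.comp_appTop, CommRingCat.hom_comp, RingHom.comp_apply, map_fn, toSp_fn, IsLocalization.Away.lift_eq]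
    rfl
  exact ⟨v ≫ t, by rw [Category.assoc, ht, hv]⟩

end K552.QuLine
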