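import Groth.Agent.NonAbH1.K552.QuGlue
import Groth.Agent.NonAbH1.K552.QuLine
import Mathlib.Algebra.Polynomial.Reverse

/-!
# The torsor over the line around infinity
-/

set_option autoImplicit false
universe u

open CategoryTheory CategoryTheory.Limits MonoidalCategory CartesianMonoidalCategory MonObj GrpObj AlgebraicGeometry
open Groth.Agent.Books.BorelOrb K554.Fpqc Polynomial

namespace K552.QuFlip

open K552.QuOver K552.Push K552.QuLine

variable {R : Type u} [CommRing R]

/-- factoring through a principal open -/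
lemma exists_fac {T : Over (SR R)} (e : T ⟶ ER R) (p : R[X]) (h : IsUnit (res e (fn R[X] p))) :
    ∃ v : T.left ⟶ Spec (CommRingCat.of (Localization.Away p)),
      v ≫ Spec.map (CommRingCat.ofHom (algebraMap R[X] (Localization.Away p))) = e.left := by
  have hu : IsUnit ((e.left.appTop.hom.comp (fn R[X])) p) := h
  refine ⟨toSp (IsLocalization.Away.lift (S := Localization.Away p) p hu), ?_⟩
  apply toSp_ext
  intro b
  rw [Scheme.Hom.comp_appTop, CommRingCat.hom_comp, RingHom.comp_apply, map_fn, toSp_fn, IsLocalization.Away.lift_eq]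
  rfl

variable {G : Over (SR R)} [GrpObj G] (X : NonAbH1.TorsorSch (Red.bc (dR R) G) Scheme.fppfPrecoverage)

/-- **The torsor around infinity.** -/
theorem exists_flip (h : R[X]) (hh : h.Monic)
    (hX : ∀ (T : Over (SR R)) (e : T ⟶ ER R), IsUnit (res e (fn R[X] h)) → Sec X e) :
    ∃ X' : NonAbH1.TorsorSch (Red.bc (dR R) G) Scheme.fppfPrecoverage,
      (∀ (T : Over (SR R)) (e e' : T ⟶ ER R), xc e * xc e' = 1 → (Sec X' e ↔ Sec X e')) ∧
      (∀ (T : Over (SR R)) (e : T ⟶ ER R), IsUnit (res e (fn R[X] h.reverse)) → Sec X' e) := by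
  let U₁ : Scheme.{u} := Spec (CommRingCat.of (Localization.Away (Polynomial.X : R[X])))
  let U₂ : Scheme.{u} := Spec (CommRingCat.of (Localization.Away h.reverse))
  let i₁ : U₁ ⟶ Spec (CommRingCat.of R[X]) :=
    Spec.map (CommRingCat.ofHom (algebraMap R[X] (Localization.Away (Polynomial.X : R[X]))))
  let i₂ : U₂ ⟶ Spec (CommRingCat.of R[X]) :=
    Spec.map (CommRingCat.ofHom (algebraMap R[X] (Localization.Away h.reverse)))
  have hi₁ : IsOpenImmersion i₁ := inferInstance
  have hi₂ : IsOpenImmersion i₂ := inferInstance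
  have hcov : ∀ x : Spec (CommRingCat.of R[X]), x ∈ Set.range i₁ ∨ x ∈ Set.range i₂ := by
    intro x
    by_contra hx
    rw [not_or] at hx
    have h1 : (Polynomial.X : R[X]) ∈ x.asIdeal := by
      by_contra h1
      exact hx.1 ((Set.ext_iff.mp (PrimeSpectrum.localization_away_comap_range
        (Localization.Away (Polynomial.X : R[X])) (Polynomial.X : R[X])) x).mpr h1)
    have h2 : h.reverse ∈ x.asIdeal := by
      by_contra h2
      exact hx.2 ((Set.ext_iff.mp (PrimeSpectrum.localization_away_comap_range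
        (Localization.Away h.reverse) h.reverse) x).mpr h2)
    have h3 : (1 : R[X]) = h.reverse - h.reverse.divX * Polynomial.X := by
      have h4 := divX_mul_X_add h.reverse
      rw [coeff_zero_reverse, hh.leadingCoeff, C_1] at h4
      exact eq_sub_of_add_eq' h4
    exact x.2.ne_top ((Ideal.eq_top_iff_one _).mpr (h3 ▸ Ideal.sub_mem _ h2 (Ideal.mul_mem_left _ _ h1)))
  -- the inversion
  let T₁ : Over (SR R) := Over.mk (i₁ ≫ dR R)
  let e₁ : T₁ ⟶ ER R := Over.homMk i₁ rfl
  have hu₁ : IsUnit (xc e₁) := by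
    change IsUnit (i₁.appTop.hom (fn R[X] Polynomial.X))
    rw [map_fn]
    exact (IsLocalization.Away.algebraMap_isUnit _).map _
  obtain ⟨x', hx'⟩ := hu₁.exists_right_inv
  let ν' : T₁ ⟶ ER R := lp x'
  let ν : U₁ ⟶ Spec (CommRingCat.of R[X]) := ν'.left
  have hν : ν ≫ dR R = i₁ ≫ dR R := Over.w ν'
  -- the torsor on the punctured line
  let b₁ : AlgGrp.Action (Red.bc i₁ (Red.bc (dR R) G)) (Red.bc ν X.X) :=
    (((X.act.bc ν).restrict (ActBC.bcCompIso ν (dR R) G hν).inv).restrict (ActBC.bcCompIso i₁ (dR R) G rfl).hom)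
  have hb₁ : NonAbH1.IsTorsorFor Scheme.fppfPrecoverage b₁ :=
    K553.Bc.isTorsorFor_restrict (K553.Bc.isTorsorFor_restrict
      (NonAbH1.isTorsorFor_bc ν Scheme.fppfPrecoverage X.isTorsor) _) _
  let W : Scheme.{u} := pullback i₁ i₂
  let p₁ : W ⟶ U₁ := pullback.fst i₁ i₂
  let p₂ : W ⟶ U₂ := pullback.snd i₁ i₂
  have hsW : NonAbH1.HasSectionOver X.X (p₁ ≫ ν) := by
    let T : Over (SR R) := Over.mk (p₁ ≫ i₁ ≫ dR R)
    let w : T ⟶ T₁ := Over.homMk p₁ rfl
    have h1 : Sec X (w ≫ ν') := by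
      apply hX
      have hx : xc (w ≫ e₁) * xc (w ≫ ν') = 1 := by
        rw [xc_comp, xc_comp, xc_lp, ← map_mul, hx', map_one]
      rw [res_fn]
      let inst : Invertible (xc (w ≫ ν')) := ⟨xc (w ≫ e₁), hx, by rw [mul_comm]; exact hx⟩
      rw [← eval₂_reverse_mul_pow (cs T) (xc (w ≫ ν')) h]
      refine IsUnit.mul ?_ ((isUnit_of_invertible _).pow _)
      change IsUnit (eval₂ (cs T) (xc (w ≫ e₁)) h.reverse)
      rw [← res_fn]
      have e2 : (w ≫ e₁).left = p₂ ≫ i₂ := pullback.condition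
      change IsUnit ((w ≫ e₁).left.appTop.hom (fn R[X] h.reverse))
      rw [e2, Scheme.Hom.comp_appTop, CommRingCat.hom_comp, RingHom.comp_apply, map_fn]
      exact ((IsLocalization.Away.algebraMap_isUnit _).map _).map _
    exact h1
  obtain ⟨s, hs⟩ := hsW
  let σ : Over.mk (p₁ ≫ i₁) ⟶ (Over.map i₁).obj (Red.bc ν X.X) :=
    Over.homMk (pullback.lift s p₁ hs) (by
      change pullback.lift s p₁ hs ≫ pullback.snd X.X.hom ν ≫ i₁ = _
      rw [pullback.lift_snd_assoc]
      rfl)
  obtain ⟨P, j₁, hP₁, hP₂⟩ := QuGlue.exists_torsor_of_section (G := Red.bc (dR R) G) i₁ i₂ hcov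
    (IsPullback.of_hasPullback i₁ i₂) (Q₁ := (Over.map i₁).obj (Red.bc ν X.X)) (proj i₁ _) (push b₁)
    (fun q q' => existsUnique_push hb₁.1 q q' (K552.Glue.mono_over i₁ _ _))
    (fun u => by
      obtain ⟨V, f, hf1, hf2, ⟨v, hv⟩, s, hs⟩ := K552.Glue.exists_of_isLocallyTrivialFor_fppf hb₁.2 u
      refine ⟨V, f ≫ i₁, inferInstance, inferInstance, ⟨v, by rw [Scheme.Hom.comp_apply, hv]⟩, s, ?_⟩
      change s ≫ (Red.bc ν X.X).hom ≫ i₁ = _
      rw [← Category.assoc, hs]) σ
  refine ⟨P, ?_, ?_⟩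
  · intro T e e' hee
    obtain ⟨v, hv⟩ := exists_fac e Polynomial.X (by
      change IsUnit (xc e)
      exact IsUnit.of_mul_eq_one _ hee)
    let v' : T ⟶ T₁ := Over.homMk v (by
      change v ≫ i₁ ≫ dR R = T.hom
      rw [← Category.assoc, hv]
      exact Over.w e)
    have hv1 : v' ≫ e₁ = e := by ext1; exact hv
    have hv2 : v' ≫ ν' = e' := by
      apply xc_injective
      rw [xc_comp, xc_lp]
      have h1 : xc e * res v' x' = 1 := by
        rw [← hv1, xc_comp, ← map_mul, hx', map_one]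
      calc res v' x' = (xc e * xc e') * res v' x' := by rw [hee, _root_.one_mul]
        _ = (xc e * res v' x') * xc e' := by ring
        _ = xc e' := by rw [h1, _root_.one_mul]
    have hv3 : v ≫ ν = e'.left := congrArg (fun f => f.left) hv2
    constructor
    · rintro ⟨t, ht⟩
      have ht' : t ≫ P.X.hom = v ≫ i₁ := ht.trans hv.symm
      refine ⟨hP₁.lift t v ht' ≫ pullback.fst X.X.hom ν, ?_⟩
      have h4 : hP₁.lift t v ht' ≫ pullback.snd X.X.hom ν = v := hP₁.lift_snd _ _ _
      rw [Category.assoc, pullback.condition, ← Category.assoc, h4, hv3]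
    · rintro ⟨t, ht⟩
      refine ⟨pullback.lift t v (ht.trans hv3.symm) ≫ j₁.left, ?_⟩
      have h5 : j₁.left ≫ P.X.hom = pullback.snd X.X.hom ν ≫ i₁ := hP₁.w
      rw [Category.assoc, h5, pullback.lift_snd_assoc, hv]
  · intro T e he
    obtain ⟨v, hv⟩ := exists_fac e h.reverse he
    obtain ⟨t, ht⟩ := hP₂
    exact ⟨v ≫ t, by rw [Category.assoc, ht, hv]⟩

end K552.QuFlip
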