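import Groth.Agent.NonAbH1.K552.Double
import Groth.Agent.NonAbH1.K553.Bc

/-!
# Gluing a torsor on an open with the trivial torsor on another open along a section on the overlap
-/

set_option autoImplicit false
universe u

open CategoryTheory CategoryTheory.Limits MonoidalCategory CartesianMonoidalCategory MonObj GrpObj AlgebraicGeometry
open Groth.Agent.Books.BorelOrb

namespace K552.QuGlue

open K552.Double K552.Push

variable {B U₁ U₂ W : Scheme.{u}} (i₁ : U₁ ⟶ B) (i₂ : U₂ ⟶ B) [IsOpenImmersion i₁] [IsOpenImmersion i₂]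
  (hcov : ∀ x : B, x ∈ Set.range i₁ ∨ x ∈ Set.range i₂) {p₁ : W ⟶ U₁} {p₂ : W ⟶ U₂} (hW : IsPullback p₁ p₂ i₁ i₂)
  {G : Over B} [GrpObj G]

include hcov hW in
/-- gluing with the trivial torsor -/
theorem exists_torsor_of_section {Q₁ : Over B} (π₁ : Q₁ ⟶ Over.mk i₁) (a₁ : AlgGrp.Action G Q₁)
    (htr : ∀ {T : Over B} (q q' : T ⟶ Q₁), ∃! g : T ⟶ G, sm a₁ g q' = q)
    (hlt : ∀ u : U₁, ∃ (V : Scheme.{u}) (f : V ⟶ B), Flat f ∧ LocallyOfFinitePresentation f ∧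
      i₁ u ∈ Set.range f ∧ NonAbH1.HasSectionOver Q₁ f)
    (σ : Over.mk (p₁ ≫ i₁) ⟶ Q₁) :
    ∃ (P : NonAbH1.TorsorSch G Scheme.fppfPrecoverage) (j₁ : Q₁ ⟶ P.X),
      IsPullback j₁.left π₁.left P.X.hom i₁ ∧ NonAbH1.HasSectionOver P.X i₂ := by
  let J₁ : Over.mk (p₁ ≫ i₁) ⟶ Over.mk i₁ := Over.homMk p₁ rfl
  let J₂ : Over.mk (p₁ ≫ i₁) ⟶ Over.mk i₂ := Over.homMk p₂ hW.w.symm
  let Z : Over B := G ⊗ Over.mk (p₁ ≫ i₁)
  let f₁ : Z ⟶ Q₁ := sm a₁ (fst _ _) (snd _ _ ≫ σ)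
  have e₁' : IsPullback f₁ (snd G (Over.mk (p₁ ≫ i₁))) π₁ J₁ := by
    refine ⟨⟨K552.Glue.mono_over i₁ _ _⟩, ⟨PullbackCone.IsLimit.mk _
      (fun s => lift (htr s.fst (s.snd ≫ σ)).choose s.snd) ?_ ?_ ?_⟩⟩
    · intro s
      change _ ≫ sm a₁ _ _ = _
      rw [comp_sm, lift_fst, lift_snd_assoc]
      exact (htr s.fst (s.snd ≫ σ)).choose_spec.1
    · intro s
      rw [lift_snd]
    · intro s m h1 h2
      apply CartesianMonoidalCategory.hom_ext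
      · rw [lift_fst]
        apply (htr s.fst (s.snd ≫ σ)).choose_spec.2
        change sm a₁ (m ≫ fst _ _) (s.snd ≫ σ) = s.fst
        rw [← h1, ← h2]
        change _ = m ≫ sm a₁ _ _
        rw [comp_sm, Category.assoc]
      · rw [lift_snd, h2]
  have e₁ := isPullback_left e₁'
  have e₂ := isPullback_left (isPullback_twist (G := G) J₂ 1)
  obtain ⟨P, a, j₁, j₂, h1, h2, h3, hm₁, hm₂, ha₁, ha₂, hz⟩ :=
    K552.Glue.exists_glued_action i₁ i₂ hcov hW (Z := Z) e₁ e₂ a₁ (prodAct (Over.mk i₂)) (by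
      intro T g z
      refine ⟨lift (g * (z ≫ fst _ _)) (z ≫ snd _ _), ?_, ?_⟩
      · change _ ≫ sm a₁ _ _ = sm a₁ g (z ≫ sm a₁ _ _)
        rw [comp_sm, comp_sm, lift_fst, lift_snd_assoc, mul_sm, Category.assoc]
      · rw [sm_prodAct]
        simp only [comp_lift, Category.assoc, lift_fst, lift_snd, lift_snd_assoc, comp_one, _root_.mul_one])
  have hps : ∀ {T : Over B} (q q' : T ⟶ G ⊗ Over.mk i₂),
      ∃! g : T ⟶ G, sm (prodAct (Over.mk i₂)) g q' = q := by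
    intro T q q'
    refine ⟨(q ≫ fst _ _) * (q' ≫ fst _ _)⁻¹, ?_, ?_⟩
    · change sm _ _ _ = _
      rw [sm_prodAct, inv_mul_cancel_right]
      apply CartesianMonoidalCategory.hom_ext
      · rw [lift_fst]
      · exact K552.Glue.mono_over i₂ _ _
    · rintro g rfl
      rw [sm_prodAct, lift_fst, mul_inv_cancel_right]
  have hpt : NonAbH1.IsPseudoTorsorSch a := K552.Glue.isPseudoTorsorSch_of_two i₁ i₂ hcov j₁ j₂
    (fun x u => K552.Glue.lift_of_isPullback h1 x u) (fun x u => K552.Glue.lift_of_isPullback h2 x u)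
    _ _ a ha₁ ha₂ htr hps
  have hs₂ : NonAbH1.HasSectionOver P i₂ :=
    ⟨(lift (1 : Over.mk i₂ ⟶ G) (𝟙 _) ≫ j₂).left, Over.w (lift (1 : Over.mk i₂ ⟶ G) (𝟙 _) ≫ j₂)⟩
  have hl : NonAbH1.IsLocallyTrivialFor Scheme.fppfPrecoverage P := by
    apply K552.Glue.isLocallyTrivialFor_fppf_of_points
    intro b
    rcases hcov b with ⟨u, rfl⟩ | hb
    · obtain ⟨V, f, hf1, hf2, hf3, s, hs⟩ := hlt u
      refine ⟨V, f, hf1, hf2, hf3, s ≫ j₁.left, ?_⟩
      rw [Category.assoc, Over.w j₁, hs]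
    · exact ⟨_, i₂, inferInstance, inferInstance, hb, hs₂⟩
  exact ⟨⟨P, a, hpt, hl⟩, j₁, h1, hs₂⟩

end K552.QuGlue
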