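import Groth.Agent.NonAbH1.K552.QuAlg

/-!
# Extension of morphisms `Spec Cs[X] ⟶ G` after rescaling `X`

`G ⟶ S` locally of finite presentation, `Spec C ⟶ S`, `s ∈ C`, `Cs = C[1/s]`.  A morphism `Spec Cs[X] ⟶ G` over `S`
which at `X = 0` extends to `Spec C` extends to `Spec C[X]` after `X ↦ s^N X`; uniqueness also after rescaling.
-/

set_option autoImplicit false
universe u

open CategoryTheory CategoryTheory.Limits AlgebraicGeometry Polynomial
open Groth.Agent.FlatB.PushRing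

namespace K552.QuHom

open K552.QuAlg

variable {C Cs : Type u} [CommRing C] [CommRing Cs] [Algebra C Cs] (s : C) [IsLocalization.Away s Cs]

/-- the diagram of schemes -/
noncomputable abbrev diag : (ULift.{u} ℕ)ᵒᵖ ⥤ Scheme.{u} := (seq s).op ⋙ Scheme.Spec

variable (Cs) in
/-- the cone of schemes -/
noncomputable abbrev cone : Cone (diag s) := Scheme.Spec.mapCone (cocone Cs s).op

variable (Cs) in
/-- it is a limit -/
noncomputable def isLimit : IsLimit (cone Cs s) :=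
  isLimitOfPreserves Scheme.Spec (isColimit Cs s).op

lemma cone_app (n : (ULift.{u} ℕ)ᵒᵖ) : (cone Cs s).π.app n = Spec.map (CommRingCat.ofHom (toBo s n.unop.down)) := rfl

instance {m n : (ULift.{u} ℕ)ᵒᵖ} (f : m ⟶ n) : IsAffineHom ((diag s).map f) := by
  change IsAffineHom (Spec.map _)
  infer_instance

instance (n : (ULift.{u} ℕ)ᵒᵖ) : CompactSpace ((diag s).obj n) := by
  change CompactSpace (Spec _)
  infer_instance

instance (n : (ULift.{u} ℕ)ᵒᵖ) : QuasiSeparatedSpace ((diag s).obj n) := by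
  change QuasiSeparatedSpace (Spec _)
  infer_instance

variable {S G : Scheme.{u}}

lemma sc_C_comp (a : C) (c : Spec (CommRingCat.of C) ⟶ S) :
    Spec.map (CommRingCat.ofHom (sc a)) ≫ Spec.map (CommRingCat.ofHom Polynomial.C) ≫ c =
      Spec.map (CommRingCat.ofHom Polynomial.C) ≫ c := by
  rw [← Spec.map_comp_assoc, ← CommRingCat.ofHom_comp, sc_comp_C]

/-- the structure morphisms -/
noncomputable def str (c : Spec (CommRingCat.of C) ⟶ S) : diag s ⟶ (Functor.const _).obj S where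
  app _ := Spec.map (CommRingCat.ofHom Polynomial.C) ≫ c
  naturality m n f := by
    refine Eq.trans ?_ (Category.comp_id (Spec.map (CommRingCat.ofHom Polynomial.C) ≫ c)).symm
    exact sc_C_comp _ _

variable (C Cs) in
lemma isPushout : IsPushout (Spec.map (CommRingCat.ofHom (evalRingHom (0 : Cs))))
    (Spec.map (CommRingCat.ofHom (algebraMap C Cs)))
    (Spec.map (CommRingCat.ofHom (eqL.fst (evalRingHom (0 : Cs)) (algebraMap C Cs))))
    (Spec.map (CommRingCat.ofHom (eqL.snd (evalRingHom (0 : Cs)) (algebraMap C Cs)))) :=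
  Groth.Agent.FlatB.PushSpec.isPushout_Spec _ _ (fun c => ⟨Polynomial.C c, by simp⟩)

lemma inv_sc (n : ℕ) : Spec.map (CommRingCat.ofHom (sc (algebraMap C Cs s ^ n))) ≫
    Spec.map (CommRingCat.ofHom (sc ((IsLocalization.Away.invSelf s : Cs) ^ n))) = 𝟙 _ := by
  rw [← Spec.map_comp, ← CommRingCat.ofHom_comp, ← sc_mul, ← mul_pow, IsLocalization.Away.mul_invSelf, one_pow,
    sc_one]
  exact Spec.map_id _

theorem exists_ext (π : G ⟶ S) [LocallyOfFinitePresentation π] (c : Spec (CommRingCat.of C) ⟶ S)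
    (φ : Spec (CommRingCat.of Cs[X]) ⟶ G) (g : Spec (CommRingCat.of C) ⟶ G) (hg : g ≫ π = c)
    (hφ : φ ≫ π = Spec.map (CommRingCat.ofHom (Polynomial.C.comp (algebraMap C Cs))) ≫ c)
    (h0 : Spec.map (CommRingCat.ofHom (evalRingHom (0 : Cs))) ≫ φ =
      Spec.map (CommRingCat.ofHom (algebraMap C Cs)) ≫ g) :
    ∃ (N : ℕ) (ψ : Spec (CommRingCat.of C[X]) ⟶ G), ψ ≫ π = Spec.map (CommRingCat.ofHom Polynomial.C) ≫ c ∧
      Spec.map (CommRingCat.ofHom (evalRingHom (0 : C))) ≫ ψ = g ∧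
      Spec.map (CommRingCat.ofHom (mapRingHom (algebraMap C Cs))) ≫ ψ =
        Spec.map (CommRingCat.ofHom (sc (algebraMap C Cs s ^ N))) ≫ φ := by
  let a := (isPushout C Cs).desc φ g h0
  have ha1 : _ ≫ a = φ := (isPushout C Cs).inl_desc φ g h0
  have ha2 : _ ≫ a = g := (isPushout C Cs).inr_desc φ g h0
  have hstr (n : ℕ) : Spec.map (CommRingCat.ofHom (toBo s n)) ≫ Spec.map (CommRingCat.ofHom Polynomial.C) ≫ c =
      a ≫ π := by
    refine (isPushout C Cs).hom_ext ?_ ?_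
    · rw [← Category.assoc _ a, ha1, hφ, ← Spec.map_comp_assoc, ← Spec.map_comp_assoc, ← CommRingCat.ofHom_comp,
        ← CommRingCat.ofHom_comp, fst_toBo]
      congr 3
      ext
      simp
    · rw [← Category.assoc _ a, ha2, hg, ← Spec.map_comp_assoc, ← Spec.map_comp_assoc, ← CommRingCat.ofHom_comp,
        ← CommRingCat.ofHom_comp, snd_toBo]
      have : (evalRingHom (0 : C)).comp Polynomial.C = RingHom.id C := by ext; simp
      rw [this]
      exact (congrArg (fun f => f ≫ c) (Spec.map_id _)).trans (Category.id_comp c)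
  have key : ∃ (N : ℕ) (ψ : Spec (CommRingCat.of C[X]) ⟶ G), Spec.map (CommRingCat.ofHom (toBo s N)) ≫ ψ = a ∧
      ψ ≫ π = Spec.map (CommRingCat.ofHom Polynomial.C) ≫ c := by
    obtain ⟨N, ψ, h1, h2⟩ := Scheme.exists_π_app_comp_eq_of_locallyOfFinitePresentation (diag s) (str s c) π
      (cone Cs s) (isLimit Cs s) a (by
        ext n : 2
        exact hstr n.unop.down)
    exact ⟨N.unop.down, ψ, h1, h2⟩
  obtain ⟨N, ψ, h1, h2⟩ := key
  refine ⟨N, ψ, h2, ?_, ?_⟩
  · rw [← ha2, ← h1, ← Spec.map_comp_assoc, ← CommRingCat.ofHom_comp, snd_toBo]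
  · rw [← ha1, ← h1, ← Spec.map_comp_assoc _ _ ψ, ← CommRingCat.ofHom_comp, fst_toBo, CommRingCat.ofHom_comp,
      Spec.map_comp_assoc, ← Category.assoc (Spec.map (CommRingCat.ofHom (sc (algebraMap C Cs s ^ N)))), inv_sc,
      Category.id_comp]

theorem exists_eq (π : G ⟶ S) [LocallyOfFiniteType π] (c : Spec (CommRingCat.of C) ⟶ S)
    (ψ ψ' : Spec (CommRingCat.of C[X]) ⟶ G) (h : ψ ≫ π = Spec.map (CommRingCat.ofHom Polynomial.C) ≫ c)
    (h' : ψ' ≫ π = Spec.map (CommRingCat.ofHom Polynomial.C) ≫ c)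
    (h0 : Spec.map (CommRingCat.ofHom (evalRingHom (0 : C))) ≫ ψ =
      Spec.map (CommRingCat.ofHom (evalRingHom (0 : C))) ≫ ψ')
    (hs : Spec.map (CommRingCat.ofHom (mapRingHom (algebraMap C Cs))) ≫ ψ =
      Spec.map (CommRingCat.ofHom (mapRingHom (algebraMap C Cs))) ≫ ψ') :
    ∃ N : ℕ, Spec.map (CommRingCat.ofHom (sc (s ^ N))) ≫ ψ = Spec.map (CommRingCat.ofHom (sc (s ^ N))) ≫ ψ' := by
  obtain ⟨⟨⟨N⟩⟩, f, hN⟩ := Scheme.exists_hom_comp_eq_comp_of_locallyOfFiniteType (diag s) (str s c) π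
    (cone Cs s) (isLimit Cs s) (i := ⟨⟨0⟩⟩) ψ ψ' h.symm h'.symm (by
      change Spec.map (CommRingCat.ofHom (toBo s 0)) ≫ ψ = Spec.map (CommRingCat.ofHom (toBo s 0)) ≫ ψ'
      refine (isPushout C Cs).hom_ext ?_ ?_
      · rw [← Spec.map_comp_assoc, ← Spec.map_comp_assoc, ← CommRingCat.ofHom_comp, fst_toBo, pow_zero, sc_one]
        exact hs
      · rw [← Spec.map_comp_assoc, ← Spec.map_comp_assoc, ← CommRingCat.ofHom_comp, snd_toBo]
        exact h0)
  exact ⟨N, hN⟩

end K552.QuHom
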