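import Groth.Agent.NonAbH1.K552.QuPatch

/-!
# The ideal of functions over which a torsor over `E` descends
-/

set_option autoImplicit false
universe u

open CategoryTheory CategoryTheory.Limits MonoidalCategory CartesianMonoidalCategory MonObj GrpObj AlgebraicGeometry
open Groth.Agent.Books.BorelOrb K554.Fpqc

namespace K552.QuIdeal

open K552.QuOver K552.QuEqv K552.QuAut K552.QuDec K552.QuPatch

variable {S : Scheme.{u}} {G Y W E : Over S} [GrpObj G]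

/-- a `G`-torsor `W` over `E` and its fibre `Y` at the origin -/
structure Dat (a : AlgGrp.Action G Y) (b : AlgGrp.Action G W) (π : W ⟶ E) (i : Y ⟶ W) (o : 𝟙_ (Over S) ⟶ E) :
    Prop where
  inv : ∀ {T : Over S} (g : T ⟶ G) (w : T ⟶ W), sm b g w ≫ π = w ≫ π
  tr : ∀ {T : Over S} (w w' : T ⟶ W), w ≫ π = w' ≫ π → ∃! g : T ⟶ G, sm b g w' = w
  eqv : ∀ {T : Over S} (g : T ⟶ G) (y : T ⟶ Y), sm a g y ≫ i = sm b g (y ≫ i)
  zero : ∀ {T : Over S} (y : T ⟶ Y), y ≫ i ≫ π = toUnit T ≫ o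
  lift : ∀ {T : Over S} (w : T ⟶ W), w ≫ π = toUnit T ≫ o → ∃ y : T ⟶ Y, y ≫ i = w
  mono : ∀ {T : Over S} (y y' : T ⟶ Y), y ≫ i = y' ≫ i → y = y'

/-- lying over `e` -/
structure Ov {a : AlgGrp.Action G Y} {b : AlgGrp.Action G W} (π : W ⟶ E) {T : Over S} (φ : Eqv a b T) (e : T ⟶ E) :
    Prop where
  eq : ∀ {T' : Over S} (y : T' ⟶ Y) (t : T' ⟶ T), ev φ y t ≫ π = t ≫ e

section

variable {a : AlgGrp.Action G Y} {b : AlgGrp.Action G W} {π : W ⟶ E} {i : Y ⟶ W} {o : 𝟙_ (Over S) ⟶ E} {T : Over S}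

lemma Ov.rs {φ : Eqv a b T} {e : T ⟶ E} (h : Ov π φ e) {T' : Over S} (f : T' ⟶ T) : Ov π (rs f φ) (f ≫ e) := by
  constructor
  intro T'' y t
  rw [ev_rs, h.eq, Category.assoc]

lemma Ov.cmp {φ : Eqv a b T} {e : T ⟶ E} (h : Ov π φ e) (k : Eqv a a T) : Ov π (cmp φ k) e := by
  constructor
  intro T' y t
  rw [ev_cmp, h.eq]

/-- the difference of two equivariant morphisms over `e` -/
lemma exists_dif (H : Dat a b π i o) {φ φ' : Eqv a b T} {e : T ⟶ E} (h : Ov π φ e) (h' : Ov π φ' e) :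
    ∃ k : Eqv a a T, φ' = cmp φ k := by
  choose g hg hu using fun (T' : Over S) (y : T' ⟶ Y) (t : T' ⟶ T) =>
    H.tr (ev φ' y t) (ev φ y t) ((h'.eq y t).trans (h.eq y t).symm)
  simp only at hg hu
  have hn : ∀ {T' T'' : Over S} (v : T'' ⟶ T') (y : T' ⟶ Y) (t : T' ⟶ T), v ≫ g T' y t = g T'' (v ≫ y) (v ≫ t) := by
    intro T' T'' v y t
    apply hu
    rw [← comp_ev, ← comp_ev, ← comp_sm, hg]
  have hs : ∀ {T' : Over S} (c : T' ⟶ G) (y : T' ⟶ Y) (t : T' ⟶ T), g T' (sm a c y) t = c * g T' y t * c⁻¹ := by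
    intro T' c y t
    symm
    apply hu
    rw [ev_sm, ev_sm, ← mul_sm, _root_.mul_assoc, inv_mul_cancel, _root_.mul_one, mul_sm, hg]
  have hn' : ∀ {T' T'' : Over S} (v : T'' ⟶ T') (y : T' ⟶ Y) (t : T' ⟶ T),
      v ≫ sm a (g T' y t) y = sm a (g T'' (v ≫ y) (v ≫ t)) (v ≫ y) := by
    intro T' T'' v y t
    rw [comp_sm, hn]
  have hs' : ∀ {T' : Over S} (c : T' ⟶ G) (y : T' ⟶ Y) (t : T' ⟶ T),
      sm a (g T' (sm a c y) t) (sm a c y) = sm a c (sm a (g T' y t) y) := by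
    intro T' c y t
    rw [hs, ← mul_sm, ← mul_sm, _root_.mul_assoc, inv_mul_cancel, _root_.mul_one]
  refine ⟨mk' (fun {T'} y t => sm a (g T' y t) y) hn' hs', ?_⟩
  apply Eqv.ext'
  intro T' y t
  rw [ev_cmp, ev_mk' (a := a) (b := a) (fun {T'} y t => sm a (g T' y t) y) hn' hs', ev_sm, hg]

end

section Patch

variable [IsAffine S] [LocallyOfFinitePresentation G.hom] {a : AlgGrp.Action G Y}
  (ha : NonAbH1.IsTorsorFor Scheme.fppfPrecoverage a) {b : AlgGrp.Action G W} {π : W ⟶ E} {i : Y ⟶ W}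
  [IsAffine E.left] (σ : Scal E) (H : Dat a b π i σ.o)

include ha H

omit [IsAffine S] [LocallyOfFinitePresentation G.hom] [IsAffine E.left] in
/-- normalization at the origin -/
lemma exists_norm {Q : Over S} (φ : Eqv a b (E ⊗ Q)) (hφ : Ov π φ (fst _ _)) :
    ∃ φ' : Eqv a b (E ⊗ Q), Ov π φ' (fst _ _) ∧ ∀ {T : Over S} (y : T ⟶ Y) (q : T ⟶ Q),
      ev φ' y (lift (toUnit T ≫ σ.o) q) = y ≫ i := by
  choose k hk using fun (T : Over S) (y : T ⟶ Y) (q : T ⟶ Q) =>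
    H.lift (ev φ y (lift (toUnit T ≫ σ.o) q)) (by rw [hφ.eq, lift_fst])
  have hn : ∀ {T' T'' : Over S} (v : T'' ⟶ T') (y : T' ⟶ Y) (t : T' ⟶ Q), v ≫ k T' y t = k T'' (v ≫ y) (v ≫ t) := by
    intro T' T'' v y t
    apply H.mono
    rw [hk, Category.assoc, hk, comp_ev, comp_lift, ← Category.assoc, toUnit_unique (v ≫ toUnit T') (toUnit T'')]
  have hs : ∀ {T' : Over S} (c : T' ⟶ G) (y : T' ⟶ Y) (t : T' ⟶ Q), k T' (sm a c y) t = sm a c (k T' y t) := by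
    intro T' c y t
    apply H.mono
    rw [hk, H.eqv, hk, ev_sm]
  let κ : Eqv a a Q := mk' (fun {T'} y t => k T' y t) hn hs
  have hκ : ∀ {T' : Over S} (y : T' ⟶ Y) (t : T' ⟶ Q), ev κ y t = k T' y t := fun y t => ev_mk' _ hn hs y t
  refine ⟨cmp φ (inv ha.1 (rs (snd _ _) κ)), hφ.cmp _, ?_⟩
  intro T y q
  -- `y = κ y'`
  obtain ⟨y', hy'⟩ : ∃ y' : T ⟶ Y, ev κ y' q = y := by
    refine ⟨ev (inv ha.1 κ) y q, ?_⟩
    rw [← ev_cmp, cmp_inv, ev_one]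
  have h1 : ev (inv ha.1 (rs (snd E Q) κ)) y (lift (toUnit T ≫ σ.o) q) = y' := by
    have h2 : ev (rs (snd E Q) κ) y' (lift (toUnit T ≫ σ.o) q) = y := by rw [ev_rs, lift_snd, hy']
    rw [← h2, ← ev_cmp, inv_cmp, ev_one]
  rw [ev_cmp, h1, ← hy', hκ, hk]

/-- **Patching.** -/
theorem exists_patch {r r' : Γ(S, ⊤)} {D D' B : Over S} (hD : IsD r D) (hD' : IsD r' D') [IsOpenImmersion D.hom]
    [IsOpenImmersion D'.hom] [IsAffine B.left] [IsAffine D.left] [IsAffine D'.left]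
    (hB : IsCoprime (cst r B) (cst r' B))
    (φ₁ : Eqv a b ((E ⊗ B) ⊗ D)) (hφ₁ : Ov π φ₁ (fst _ _ ≫ fst _ _))
    (φ₂ : Eqv a b ((E ⊗ B) ⊗ D')) (hφ₂ : Ov π φ₂ (fst _ _ ≫ fst _ _)) :
    ∃ φ : Eqv a b (E ⊗ B), Ov π φ (fst _ _) := by
  -- normalize
  have norm : ∀ {D : Over S} (φ : Eqv a b ((E ⊗ B) ⊗ D)) (_ : Ov π φ (fst _ _ ≫ fst _ _)),
      ∃ φ' : Eqv a b ((E ⊗ B) ⊗ D), Ov π φ' (fst _ _ ≫ fst _ _) ∧
        ∀ {T : Over S} (y : T ⟶ Y) (β : T ⟶ B) (d : T ⟶ D),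
          ev φ' y (lift (lift (toUnit T ≫ σ.o) β) d) = y ≫ i := by
    intro D φ hφ
    obtain ⟨φ', h1, h2⟩ := exists_norm ha σ H (Q := B ⊗ D)
      (rs (lift (lift (fst _ _) (snd _ _ ≫ fst _ _)) (snd _ _ ≫ snd _ _)) φ) (by
        have := hφ.rs (lift (lift (fst _ _) (snd _ _ ≫ fst _ _)) (snd _ _ ≫ snd _ _) : E ⊗ (B ⊗ D) ⟶ (E ⊗ B) ⊗ D)
        simpa using this)
    refine ⟨rs (lift (fst _ _ ≫ fst _ _) (lift (fst _ _ ≫ snd _ _) (snd _ _))) φ', ?_, ?_⟩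
    · have := h1.rs (lift (fst _ _ ≫ fst _ _) (lift (fst _ _ ≫ snd _ _) (snd _ _)) : (E ⊗ B) ⊗ D ⟶ E ⊗ (B ⊗ D))
      rwa [lift_fst] at this
    · intro T y β d
      have e : lift (lift (toUnit T ≫ σ.o) β) d ≫ (lift (fst _ _ ≫ fst _ _) (lift (fst _ _ ≫ snd _ _) (snd _ _)) :
          (E ⊗ B) ⊗ D ⟶ E ⊗ (B ⊗ D)) = lift (toUnit T ≫ σ.o) (lift β d) := by
        simp [comp_lift]
      rw [ev_rs, e, h2]
  obtain ⟨ψ₁, h1, h1'⟩ := norm φ₁ hφ₁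
  obtain ⟨ψ₂, h2, h2'⟩ := norm φ₂ hφ₂
  -- the difference
  obtain ⟨f, hf⟩ := exists_dif H (T := ((E ⊗ B) ⊗ D') ⊗ D) (φ := rs (fst _ _) ψ₂)
    (φ' := rs (lift (fst _ _ ≫ fst _ _) (snd _ _)) ψ₁) (e := fst _ _ ≫ fst _ _ ≫ fst _ _) (h2.rs _) (by
      have := h1.rs (lift (fst _ _ ≫ fst _ _) (snd _ _) : ((E ⊗ B) ⊗ D') ⊗ D ⟶ (E ⊗ B) ⊗ D)
      rwa [lift_fst_assoc, Category.assoc] at this)
  have hf' : ∀ {T : Over S} (y : T ⟶ Y) (q : T ⟶ E ⊗ B) (d : T ⟶ D) (d' : T ⟶ D'),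
      ev ψ₁ y (lift q d) = ev ψ₂ (ev f y (lift (lift q d') d)) (lift q d') := by
    intro T y q d d'
    have := congrArg (fun z => ev z y (lift (lift q d') d)) hf
    simpa [comp_lift] using this
  obtain ⟨f₂, f₁, h12⟩ := exists_dec σ ha hD' hD (hB.symm) f (by
    intro T β d' d
    apply Eqv.ext'
    intro T' y t
    apply H.mono
    rw [ev_rs, ev_one, comp_pt4]
    have e : t ≫ toUnit T ≫ σ.o = toUnit T' ≫ σ.o := by
      rw [← Category.assoc, toUnit_unique (t ≫ toUnit T) (toUnit T')]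
    rw [e, ← h1' y (t ≫ β) (t ≫ d), hf' _ _ _ (t ≫ d'), h2'])
  obtain ⟨φ, e1, e2⟩ := exists_glue_eqv hD hD' (T := E ⊗ B) (by
      have := hB.map (res (snd E B))
      rwa [res_cst, res_cst] at this)
    (cmp ψ₁ (inv ha.1 f₁)) (cmp ψ₂ f₂) (by
      intro V q d d'
      apply Eqv.ext'
      intro T' y t
      rw [ev_rs, ev_rs, ev_cmp, ev_cmp, comp_lift, comp_lift]
      obtain ⟨y', hy'⟩ : ∃ y' : T' ⟶ Y, ev f₁ y' (lift (t ≫ q) (t ≫ d)) = y := by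
        refine ⟨ev (inv ha.1 f₁) y (lift (t ≫ q) (t ≫ d)), ?_⟩
        rw [← ev_cmp, cmp_inv, ev_one]
      have h3 : ev (inv ha.1 f₁) y (lift (t ≫ q) (t ≫ d)) = y' := by
        rw [← hy', ← ev_cmp, inv_cmp, ev_one]
      rw [h3, hf' _ _ _ (t ≫ d')]
      have h4 := congrArg (fun z => ev z y' (𝟙 _)) (h12 (t ≫ q) (t ≫ d') (t ≫ d))
      simp only [ev_rs, ev_cmp, Category.id_comp] at h4
      rw [h4, hy'])
  refine ⟨φ, ⟨?_⟩⟩
  intro T' y t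
  refine hom_ext_two hD hD' (T := T') (by
      have := hB.map (res (t ≫ snd E B))
      rwa [res_cst, res_cst] at this) ?_ ?_
  · have h5 := (h1.cmp (inv ha.1 f₁)).eq (fst T' D ≫ y) (t ▷ D)
    rw [← e1, ev_rs, whiskerRight_fst] at h5
    rw [← Category.assoc, comp_ev, h5, whiskerRight_fst_assoc]
  · have h5 := (h2.cmp f₂).eq (fst T' D' ≫ y) (t ▷ D')
    rw [← e2, ev_rs, whiskerRight_fst] at h5
    rw [← Category.assoc, comp_ev, h5, whiskerRight_fst_assoc]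

end Patch

end K552.QuIdeal
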