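import Groth.Agent.NonAbH1.K552.QuIdeal

/-!
# The ideal of functions over which a torsor over `E` descends
-/

set_option autoImplicit false
universe u

open CategoryTheory CategoryTheory.Limits MonoidalCategory CartesianMonoidalCategory MonObj GrpObj AlgebraicGeometry
open Groth.Agent.Books.BorelOrb K554.Fpqc

namespace K552.QuIdeal

open K552.QuOver K552.QuEqv K552.QuAut K552.QuDec K552.QuPatch

variable {S : Scheme.{u}}

/-- the part of `S` where `r` is invertible -/
noncomputable def Dr (r : Γ(S, ⊤)) : Over S := Over.mk (S.basicOpen r).ι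

instance (r : Γ(S, ⊤)) : IsOpenImmersion (Dr r).hom := inferInstanceAs (IsOpenImmersion (S.basicOpen r).ι)

instance [IsAffine S] (r : Γ(S, ⊤)) : IsAffine (Dr r).left := (isAffineOpen_top S).basicOpen r

lemma isUnit_of_basicOpen_eq_top {X : Scheme.{u}} (f : Γ(X, ⊤)) (h : X.basicOpen f = ⊤) : IsUnit f :=
  RingedSpace.isUnit_of_isUnit_germ X.toRingedSpace ⊤ f fun x _ => (X.mem_basicOpen_top f x).mp (by
    rw [h]; trivial)

/-- an open immersion onto the basic open -/
lemma isD_of_range {r : Γ(S, ⊤)} {D : Over S} [IsOpenImmersion D.hom] (h : D.hom.opensRange = S.basicOpen r) :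
    IsD r D where
  unit := by
    have h1 : D.left.basicOpen (cst r D) = ⊤ := by
      rw [cst]
      change D.left.basicOpen (D.hom.appTop r) = ⊤
      rw [← Scheme.preimage_basicOpen_top, ← h]
      exact Scheme.Hom.preimage_opensRange D.hom
    exact isUnit_of_basicOpen_eq_top _ h1
  ex {T} hT := by
    have h1 : Set.range T.hom ⊆ Set.range D.hom := by
      rintro _ ⟨t, rfl⟩
      have h2 : T.left.basicOpen (cst r T) = ⊤ := Scheme.basicOpen_of_isUnit _ hT
      have h3 : t ∈ T.hom ⁻¹ᵁ S.basicOpen r := by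
        rw [Scheme.preimage_basicOpen_top]
        change t ∈ T.left.basicOpen (cst r T)
        rw [h2]
        trivial
      have h4 : T.hom t ∈ D.hom.opensRange := by rw [h]; exact h3
      exact h4
    exact ⟨Over.homMk (IsOpenImmersion.lift D.hom T.hom h1) (IsOpenImmersion.lift_fac _ _ _)⟩
  uniq f g := by
    ext1
    rw [← cancel_mono D.hom, Over.w, Over.w]

lemma isD_Dr (r : Γ(S, ⊤)) : IsD r (Dr r) := isD_of_range (by
  change (S.basicOpen r).ι.opensRange = _
  simp)

variable {G Y W E : Over S} [GrpObj G]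

/-- the torsor `W` over `E` comes from its fibre `Y` at the origin, where `r` is invertible. -/
def Desc (a : AlgGrp.Action G Y) (b : AlgGrp.Action G W) (π : W ⟶ E) (r : Γ(S, ⊤)) : Prop :=
  ∀ (T : Over S) (e : T ⟶ E), IsUnit (cst r T) → ∃ φ : Eqv a b T, Ov π φ e

variable {a : AlgGrp.Action G Y} {b : AlgGrp.Action G W} {π : W ⟶ E}

lemma desc_zero : Desc a b π 0 := by
  intro T e hT
  have h0 : (1 : Fn T) = 0 := by
    have : cst 0 T = 0 := map_zero _
    rw [this] at hT
    exact (isUnit_zero_iff.mp hT).symm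
  have hT' : IsEmpty T.left := by
    refine ⟨fun t => ?_⟩
    have h2 : T.left.basicOpen (0 : Fn T) = ⊤ := by
      rw [← h0]
      exact Scheme.basicOpen_of_isUnit _ isUnit_one
    have h3 : t ∈ T.left.basicOpen (0 : Fn T) := by rw [h2]; trivial
    rw [Scheme.basicOpen_zero] at h3
    exact h3
  have hE : ∀ {T' : Over S} (_ : T' ⟶ T), IsEmpty T'.left := fun t => ⟨fun x => hT'.false (t.left x)⟩
  have hu : ∀ {T' X : Over S} (_ : T' ⟶ T) (f g : T' ⟶ X), f = g := by
    intro T' X t f g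
    have := hE t
    ext1
    exact isInitialOfIsEmpty.hom_ext _ _
  have hex : ∀ {T' : Over S} (X : Over S) (_ : T' ⟶ T), Nonempty (T' ⟶ X) := by
    intro T' X t
    have := hE t
    exact ⟨Over.homMk (isInitialOfIsEmpty.to _) (isInitialOfIsEmpty.hom_ext _ _)⟩
  refine ⟨mk' (fun {T'} _ t => (hex W t).some) (fun r y t => hu (r ≫ t) _ _) (fun g y t => hu t _ _), ⟨?_⟩⟩
  intro T' y t
  exact hu t _ _

lemma desc_mul (c : Γ(S, ⊤)) {r : Γ(S, ⊤)} (h : Desc a b π r) : Desc a b π (c * r) := by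
  intro T e hT
  rw [cst_mul] at hT
  exact h T e (isUnit_of_mul_isUnit_right hT)

variable [IsAffine S] [LocallyOfFinitePresentation G.hom] {i : Y ⟶ W}
  (ha : NonAbH1.IsTorsorFor Scheme.fppfPrecoverage a) [IsAffine E.left] (σ : Scal E) (H : Dat a b π i σ.o)

include ha H

lemma desc_add {r r' : Γ(S, ⊤)} (h : Desc a b π r) (h' : Desc a b π r') : Desc a b π (r + r') := by
  intro T e hT
  have hB : IsCoprime (cst r (Dr (r + r'))) (cst r' (Dr (r + r'))) := by
    have h1 := (isD_Dr (r + r')).unit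
    rw [cst_add] at h1
    obtain ⟨u, hu⟩ := h1
    exact ⟨↑u⁻¹, ↑u⁻¹, by rw [← _root_.mul_add, ← hu, Units.inv_mul]⟩
  obtain ⟨φ₁, h1⟩ := h ((E ⊗ Dr (r + r')) ⊗ Dr r) (fst _ _ ≫ fst _ _)
    (isUnit_cst (isD_Dr r).unit (snd _ _))
  obtain ⟨φ₂, h2⟩ := h' ((E ⊗ Dr (r + r')) ⊗ Dr r') (fst _ _ ≫ fst _ _)
    (isUnit_cst (isD_Dr r').unit (snd _ _))
  obtain ⟨φ, hφ⟩ := exists_patch ha σ H (isD_Dr r) (isD_Dr r') hB φ₁ h1 φ₂ h2
  obtain ⟨β⟩ := (isD_Dr (r + r')).ex hT
  refine ⟨rs (lift e β) φ, ?_⟩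
  have := hφ.rs (lift e β)
  rwa [lift_fst] at this

/-- the set of functions over which the torsor descends is an ideal -/
theorem exists_ideal : ∃ I : Ideal Γ(S, ⊤), ∀ r, r ∈ I ↔ Desc a b π r :=
  ⟨{ carrier := {r | Desc a b π r}
     add_mem' := fun h h' => desc_add ha σ H h h'
     zero_mem' := desc_zero
     smul_mem' := fun c _ h => desc_mul c h }, fun _ => Iff.rfl⟩

end K552.QuIdeal
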