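import Groth.Agent.NonAbH1.K552.QuOver

/-!
# Extension of points of `G` locally of finite presentation over `S` on lines, after rescaling
-/

set_option autoImplicit false
universe u

open CategoryTheory CategoryTheory.Limits MonoidalCategory CartesianMonoidalCategory AlgebraicGeometry Polynomial

namespace K552.QuLfp

open K552.QuOver

variable {S : Scheme.{u}} {G : Over S}

section Spec

variable {C : Type u} [CommRing C] (c : Spec (CommRingCat.of C) ⟶ S)

/-- the line over a spectrum -/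
noncomputable abbrev lin : Over S := Over.mk (Spec.map (CommRingCat.ofHom (Polynomial.C : C →+* C[X])) ≫ c)

/-- its projection -/
noncomputable abbrev linP : lin c ⟶ Over.mk c := Over.homMk (Spec.map (CommRingCat.ofHom Polynomial.C))

variable {Cs : Type u} [CommRing Cs] [Algebra C Cs]

/-- a localization -/
noncomputable abbrev loc (c : Spec (CommRingCat.of C) ⟶ S) (Cs : Type u) [CommRing Cs] [Algebra C Cs] :
    Spec (CommRingCat.of Cs) ⟶ S := Spec.map (CommRingCat.ofHom (algebraMap C Cs)) ≫ c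

/-- its map to the whole -/
noncomputable abbrev locJ (c : Spec (CommRingCat.of C) ⟶ S) (Cs : Type u) [CommRing Cs] [Algebra C Cs] :
    Over.mk (loc c Cs) ⟶ Over.mk c := Over.homMk (Spec.map (CommRingCat.ofHom (algebraMap C Cs)))

/-- the points of the localized line with the same coordinate -/
noncomputable abbrev mapL (c : Spec (CommRingCat.of C) ⟶ S) (Cs : Type u) [CommRing Cs] [Algebra C Cs] :
    lin (loc c Cs) ⟶ lin c :=
  Over.homMk (Spec.map (CommRingCat.ofHom (mapRingHom (algebraMap C Cs)))) (by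
    change Spec.map _ ≫ Spec.map _ ≫ c = Spec.map _ ≫ Spec.map _ ≫ c
    rw [← Spec.map_comp_assoc, ← Spec.map_comp_assoc, ← CommRingCat.ofHom_comp, ← CommRingCat.ofHom_comp]
    congr 3
    ext
    simp)

lemma mapL_linP : mapL c Cs ≫ linP c = linP (loc c Cs) ≫ locJ c Cs := by
  ext1
  change Spec.map _ ≫ Spec.map _ = Spec.map _ ≫ Spec.map _
  rw [← Spec.map_comp, ← Spec.map_comp, ← CommRingCat.ofHom_comp, ← CommRingCat.ofHom_comp]
  congr 2
  ext
  simp

lemma res_mapL : res (mapL c Cs) (fn C[X] X) = fn Cs[X] X := by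
  change (Spec.map _).appTop.hom _ = _
  rw [map_fn]
  simp

/-- the zero section -/
noncomputable abbrev zer : Over.mk c ⟶ lin c :=
  Over.homMk (Spec.map (CommRingCat.ofHom (evalRingHom (0 : C)))) (by
    change Spec.map _ ≫ Spec.map _ ≫ c = c
    rw [← Spec.map_comp_assoc, ← CommRingCat.ofHom_comp]
    have : (evalRingHom (0 : C)).comp Polynomial.C = RingHom.id C := by ext; simp
    rw [this]
    exact (congrArg (fun f => f ≫ c) (Spec.map_id _)).trans (Category.id_comp c))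

lemma zer_linP : zer c ≫ linP c = 𝟙 _ := by
  ext1
  change Spec.map _ ≫ Spec.map _ = _
  rw [← Spec.map_comp, ← CommRingCat.ofHom_comp]
  have : (evalRingHom (0 : C)).comp Polynomial.C = RingHom.id C := by ext; simp
  rw [this]
  exact Spec.map_id _

lemma res_zer : res (zer c) (fn C[X] X) = 0 := by
  change (Spec.map _).appTop.hom _ = _
  rw [map_fn]
  simp

/-- rescaling the line -/
noncomputable abbrev scl (a : C) : lin c ⟶ lin c :=
  Over.homMk (Spec.map (CommRingCat.ofHom (QuAlg.sc a))) (by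
    change Spec.map _ ≫ Spec.map _ ≫ c = Spec.map _ ≫ c
    exact QuHom.sc_C_comp _ _)

lemma scl_linP (a : C) : scl c a ≫ linP c = linP c := by
  ext1
  change Spec.map _ ≫ Spec.map _ = Spec.map _
  rw [← Spec.map_comp, ← CommRingCat.ofHom_comp, QuAlg.sc_comp_C]

lemma res_scl (a : C) : res (scl c a) (fn C[X] X) = fn C[X] (Polynomial.C a) * fn C[X] X := by
  change (Spec.map _).appTop.hom _ = _
  rw [map_fn, QuAlg.sc_X, map_mul]

lemma fn_C (a : C) : fn C[X] (Polynomial.C a) = res (linP c) (fn C a) := by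
  change _ = (Spec.map _).appTop.hom _
  rw [map_fn]

end Spec

variable {Z Zs P Ps : Over S} {s : Γ(S, ⊤)} {j : Zs ⟶ Z} {p : P ⟶ Z} {x : Fn P} {ps : Ps ⟶ Zs} {xs : Fn Ps}

/-- the case of spectra -/
theorem exists_ext_spec {C : Type u} [CommRing C] (c : Spec (CommRingCat.of C) ⟶ S)
    [LocallyOfFinitePresentation G.hom] {j : Zs ⟶ Over.mk c} {p : P ⟶ Over.mk c}
    (hj : IsLocz s (Over.mk c) Zs j) (hps : IsLine Zs Ps ps xs)
    (φ : Ps ⟶ G) (g : Over.mk c ⟶ G)
    (h0 : ∀ {T : Over S} (f : T ⟶ Ps), res f xs = 0 → f ≫ φ = f ≫ ps ≫ j ≫ g) :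
    ∃ (N : ℕ) (ψ : P ⟶ G), (∀ {T : Over S} (f : T ⟶ P), res f x = 0 → f ≫ ψ = f ≫ p ≫ g) ∧
      ∀ {T : Over S} (a : T ⟶ P) (b : T ⟶ Ps), a ≫ p = b ≫ ps ≫ j → res b xs = cst s T ^ N * res a x →
        a ≫ ψ = b ≫ φ := by
  let sC : C := fn' C (cst s (Over.mk c))
  let Cs := Localization.Away sC
  have hsC : fn C sC = cst s (Over.mk c) := fn_fn' _
  have hJ : IsLocz s (Over.mk c) (Over.mk (loc c Cs)) (locJ c Cs) := isLocz_Spec c s
  have hP' : IsLine (Over.mk c) (lin c) (linP c) (fn C[X] X) := isLine_Spec c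
  have hPs' : IsLine (Over.mk (loc c Cs)) (lin (loc c Cs)) (linP (loc c Cs)) (fn Cs[X] X) := isLine_Spec _
  obtain ⟨z, hz⟩ := hj.ex (locJ c Cs) hJ.unit
  obtain ⟨β, hβ1, hβ2⟩ := hps.ex (linP (loc c Cs) ≫ z) (fn Cs[X] X)
  have hβ3 : β ≫ ps ≫ j = linP (loc c Cs) ≫ locJ c Cs := by rw [← Category.assoc, hβ1, Category.assoc, hz]
  let φ' := β ≫ φ
  obtain ⟨N, ψ', h1, h2, h3⟩ := QuHom.exists_ext (Cs := Cs) sC G.hom c φ'.left g.left (Over.w g)
    (by
      rw [Over.w φ']
      change Spec.map _ ≫ Spec.map _ ≫ c = Spec.map _ ≫ c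
      rw [← Spec.map_comp_assoc, ← CommRingCat.ofHom_comp])
    (by
      have h4 : zer (loc c Cs) ≫ φ' = locJ c Cs ≫ g := by
        have h5 := h0 (zer (loc c Cs) ≫ β) (by rw [res_comp, hβ2, res_zer])
        rw [Category.assoc, Category.assoc] at h5
        rw [h5, ← Category.assoc β, ← Category.assoc (β ≫ ps), Category.assoc β, hβ3, ← Category.assoc,
          ← Category.assoc, zer_linP, Category.id_comp]
      exact congrArg (fun f => f.left) h4)
  let ψ'' : lin c ⟶ G := Over.homMk ψ' h1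
  have h2' : zer c ≫ ψ'' = g := by ext1; exact h2
  have h3' : mapL c Cs ≫ ψ'' = scl (loc c Cs) (algebraMap C Cs sC ^ N) ≫ φ' := by ext1; exact h3
  obtain ⟨α, hα1, hα2⟩ := hP'.ex p x
  refine ⟨N, α ≫ ψ'', ?_, ?_⟩
  · intro T f hf
    have h4 : f ≫ α = (f ≫ p) ≫ zer c := by
      refine hP'.uniq _ _ ?_ ?_
      · rw [Category.assoc, hα1, Category.assoc, zer_linP, Category.comp_id]
      · rw [res_comp, hα2, hf, res_comp, res_zer, map_zero]
    rw [← Category.assoc, h4, Category.assoc, h2', Category.assoc]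
  · intro T a b hab hxs
    have hu : IsUnit (cst s T) := isUnit_cst hj.unit (b ≫ ps)
    obtain ⟨w, hw⟩ := hJ.ex (b ≫ ps ≫ j) hu
    obtain ⟨b', hb1, hb2⟩ := hPs'.ex w (res a x)
    have e1 : a ≫ α = b' ≫ mapL c Cs := by
      refine hP'.uniq _ _ ?_ ?_
      · rw [Category.assoc, hα1, Category.assoc, mapL_linP, ← Category.assoc, hb1, hw, hab]
      · rw [res_comp, hα2, res_comp, res_mapL, hb2]
    have e2 : b' ≫ scl (loc c Cs) (algebraMap C Cs sC ^ N) ≫ β = b := by
      refine hps.uniq _ _ ?_ ?_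
      · refine hj.uniq _ _ ?_
        simp only [Category.assoc]
        rw [hβ3, ← Category.assoc (scl _ _), scl_linP, ← Category.assoc b', hb1, hw]
      · rw [res_comp, res_comp, hβ2, res_scl, map_mul, hb2, hxs, fn_C (loc c Cs), ← res_comp, hb1]
        congr 1
        have e3 : fn Cs (algebraMap C Cs sC ^ N) = cst s (Over.mk (loc c Cs)) ^ N := by
          rw [map_pow, ← map_fn, hsC]
          exact congrArg (fun y => y ^ N) (res_cst (locJ c Cs) s)
        rw [e3, map_pow, res_cst]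
    rw [← Category.assoc, e1, Category.assoc, h3', ← e2]
    simp only [Category.assoc]
    rfl

/-- **Extension after rescaling**: `Z` affine over `S`, `Zs` the part where `s` is invertible, `P`, `Ps` the lines over
`Z`, `Zs`; a point `φ` of `G` with values in `Ps` which at `0` comes from `g : Z ⟶ G`; then for some `N` the point
`φ(s^N x)` comes from a point `ψ` on `P` with value `g` at `0`. -/
theorem exists_ext [IsAffine Z.left] [LocallyOfFinitePresentation G.hom]
    (hj : IsLocz s Z Zs j) (hps : IsLine Zs Ps ps xs) (φ : Ps ⟶ G) (g : Z ⟶ G)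
    (h0 : ∀ {T : Over S} (f : T ⟶ Ps), res f xs = 0 → f ≫ φ = f ≫ ps ≫ j ≫ g) :
    ∃ (N : ℕ) (ψ : P ⟶ G), (∀ {T : Over S} (f : T ⟶ P), res f x = 0 → f ≫ ψ = f ≫ p ≫ g) ∧
      ∀ {T : Over S} (a : T ⟶ P) (b : T ⟶ Ps), a ≫ p = b ≫ ps ≫ j → res b xs = cst s T ^ N * res a x →
        a ≫ ψ = b ≫ φ := by
  let c : Spec (CommRingCat.of Γ(Z.left, ⊤)) ⟶ S := Z.left.isoSpec.inv ≫ Z.hom
  let e : Z ≅ Over.mk c := Over.isoMk Z.left.isoSpec (by simp [c])
  obtain ⟨N, ψ, h1, h2⟩ := exists_ext_spec (G := G) (x := x) c (j := j ≫ e.hom) (p := p ≫ e.hom) (ps := ps) (xs := xs)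
    (s := s)
    ⟨hj.unit, fun {T} z h => by
      obtain ⟨f, hf⟩ := hj.ex (z ≫ e.inv) h
      exact ⟨f, by rw [← Category.assoc, hf, Category.assoc, e.inv_hom_id, Category.comp_id]⟩,
      fun f g h => hj.uniq f g (by
        rw [← cancel_mono e.hom, Category.assoc, Category.assoc, h])⟩
    hps φ (e.inv ≫ g) (fun f hf => by
      rw [h0 f hf]
      simp)
  refine ⟨N, ψ, ?_, ?_⟩
  · intro T f hf
    rw [h1 f hf]
    simp
  · intro T a b hab hxs
    exact h2 a b (by rw [← Category.assoc, hab]; simp) hxs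

/-- **Uniqueness after rescaling** -/
theorem exists_eq [IsAffine Z.left] [LocallyOfFiniteType G.hom] (s : Γ(S, ⊤)) (hp : IsLine Z P p x) (ψ ψ' : P ⟶ G)
    (h0 : ∀ {T : Over S} (f : T ⟶ P), res f x = 0 → f ≫ ψ = f ≫ ψ')
    (hs : ∀ {T : Over S} (f : T ⟶ P), IsUnit (cst s T) → f ≫ ψ = f ≫ ψ') :
    ∃ N : ℕ, ∀ {T : Over S} (f f' : T ⟶ P), f ≫ p = f' ≫ p → res f x = cst s T ^ N * res f' x → f ≫ ψ = f ≫ ψ' := by
  let c : Spec (CommRingCat.of Γ(Z.left, ⊤)) ⟶ S := Z.left.isoSpec.inv ≫ Z.hom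
  let e : Z ≅ Over.mk c := Over.isoMk Z.left.isoSpec (by simp [c])
  let C : Type u := Γ(Z.left, ⊤)
  let sC : C := fn' C (cst s (Over.mk c))
  let Cs := Localization.Away sC
  have hsC : fn C sC = cst s (Over.mk c) := fn_fn' _
  have hP' : IsLine (Over.mk c) (lin c) (linP c) (fn C[X] X) := isLine_Spec c
  have hJ : IsLocz s (Over.mk c) (Over.mk (loc c Cs)) (locJ c Cs) := isLocz_Spec c s
  obtain ⟨α, hα1, hα2⟩ := hP'.ex (p ≫ e.hom) x
  obtain ⟨γ, hγ1, hγ2⟩ := hp.ex (linP c ≫ e.inv) (fn C[X] X)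
  have hw (q : P ⟶ G) : (γ ≫ q).left ≫ G.hom = Spec.map (CommRingCat.ofHom Polynomial.C) ≫ c := Over.w (γ ≫ q)
  obtain ⟨N, hN⟩ := QuHom.exists_eq (Cs := Cs) sC G.hom c (γ ≫ ψ).left (γ ≫ ψ').left (hw ψ) (hw ψ')
    (by
      have h1 : zer c ≫ γ ≫ ψ = zer c ≫ γ ≫ ψ' := by
        rw [← Category.assoc, ← Category.assoc]
        exact h0 _ (by rw [res_comp, hγ2, res_zer])
      exact congrArg (fun f => f.left) h1)
    (by
      have h1 : mapL c Cs ≫ γ ≫ ψ = mapL c Cs ≫ γ ≫ ψ' := by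
        rw [← Category.assoc, ← Category.assoc]
        exact hs _ (isUnit_cst hJ.unit (linP (loc c Cs)))
      exact congrArg (fun f => f.left) h1)
  have hN' : scl c (sC ^ N) ≫ γ ≫ ψ = scl c (sC ^ N) ≫ γ ≫ ψ' := by ext1; exact hN
  refine ⟨N, ?_⟩
  intro T f f' hff hx
  have h1 : f = f' ≫ α ≫ scl c (sC ^ N) ≫ γ := by
    refine hp.uniq _ _ ?_ ?_
    · simp only [Category.assoc]
      rw [hγ1, ← Category.assoc (scl _ _), scl_linP, ← Category.assoc α, hα1]
      simp [hff]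
    · rw [res_comp, res_comp, res_comp, hγ2, res_scl, map_mul, map_mul, hα2, fn_C c, map_pow, hsC, hx]
      simp only [map_pow, res_cst]
  rw [h1]
  simp only [Category.assoc]
  rw [hN']

end K552.QuLfp
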