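import Groth.Agent.NonAbH1.K552.QuTrans

/-!
# Quillen patching for torsors over affine space
-/

set_option autoImplicit false
universe u

open CategoryTheory CategoryTheory.Limits MonoidalCategory CartesianMonoidalCategory MonObj GrpObj AlgebraicGeometry
open Groth.Agent.Books.BorelOrb K554.Fpqc

namespace K552.QuMain

open K552.QuOver K552.QuEqv K552.QuIdeal K552.Push K552.QuFib K552.QuTrans

section

variable {S : Scheme.{u}} {n : Type u} {G : Over S} [GrpObj G]
  (X : NonAbH1.TorsorSch (Red.bc (𝔸(n; S) ↘ S) G) Scheme.fppfPrecoverage)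

/-- the fibre at the origin -/
noncomputable def fibre : NonAbH1.TorsorSch G Scheme.fppfPrecoverage :=
  ⟨Red.bc (zn n S) X.X, actz (zn n S) (zn_comp n) X.act, isTorsor_actz (zn n S) (zn_comp n) X.isTorsor⟩

/-- descent over the part where `r` is invertible -/
def DescX (r : Γ(S, ⊤)) : Prop := Desc (fibre X).act (push X.act) (proj (𝔸(n; S) ↘ S) X.X) r

theorem exists_ideal [IsAffine S] [LocallyOfFinitePresentation G.hom] :
    ∃ I : Ideal Γ(S, ⊤), ∀ r, r ∈ I ↔ DescX X r :=
  QuIdeal.exists_ideal (E := En S n) (i := iz (zn n S) (zn_comp n)) (fibre X).isTorsor (scal n)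
    (dat (zn n S) (zn_comp n) X.isTorsor.1)

variable {U : Scheme.{u}} (j : U ⟶ S)

/-- descent over `U` in the form of the statements -/
def DescU : Prop := ∃ P : NonAbH1.TorsorSch (Red.bc j G) Scheme.fppfPrecoverage,
  Nonempty (NonAbH1.EquivIso
    ((P.act.bc (pullback.snd (𝔸(n; S) ↘ S) j)).restrict
      (ActBC.bcCompIso (pullback.snd (𝔸(n; S) ↘ S) j) j G rfl).inv)
    ((X.act.bc (pullback.fst (𝔸(n; S) ↘ S) j)).restrict
      (ActBC.bcCompIso (pullback.fst (𝔸(n; S) ↘ S) j) (𝔸(n; S) ↘ S) G pullback.condition).inv))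

theorem desc_of_descU (h : DescU X j) (T : Over S) (t : T ⟶ Over.mk j) (x : T ⟶ En S n) :
    ∃ φ : Eqv (fibre X).act (push X.act) T, Ov (proj (𝔸(n; S) ↘ S) X.X) φ x := by
  obtain ⟨P, ⟨e⟩⟩ := h
  exact exists_eqv_of_equivIso (pullback.fst (𝔸(n; S) ↘ S) j) (pullback.snd (𝔸(n; S) ↘ S) j)
    (IsPullback.of_hasPullback _ _) (zn n S) (zn_comp n) P.isTorsor X.isTorsor e T t x

theorem descU_of_desc {r : Γ(S, ⊤)} (h : DescX X r) (hr : IsUnit (cst r (Over.mk j))) : DescU X j := by
  obtain ⟨φ, hφ⟩ := h (Over.mk (pullback.snd (𝔸(n; S) ↘ S) j ≫ j))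
    (ovr (pullback.fst (𝔸(n; S) ↘ S) j) pullback.condition) (by
      exact isUnit_cst hr (ovr (pullback.snd (𝔸(n; S) ↘ S) j) rfl))
  exact ⟨⟨_, (fibre X).act.bc j, NonAbH1.isTorsorFor_bc j _ (fibre X).isTorsor⟩,
    nonempty_equivIso_of_eqv _ _ pullback.condition (fibre X).isTorsor X.isTorsor.1 φ hφ⟩

theorem descX_of_descU {r : Γ(S, ⊤)} [IsOpenImmersion j] (h : DescU X j) (hr : S.basicOpen r ≤ j.opensRange) :
    DescX X r := by
  intro T e hT
  have h1 : Set.range T.hom ⊆ Set.range j := by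
    rintro _ ⟨t, rfl⟩
    have h2 : T.left.basicOpen (cst r T) = ⊤ := Scheme.basicOpen_of_isUnit _ hT
    have h3 : t ∈ T.hom ⁻¹ᵁ S.basicOpen r := by
      rw [Scheme.preimage_basicOpen_top]
      change t ∈ T.left.basicOpen (cst r T)
      rw [h2]
      trivial
    exact hr h3
  let t : T ⟶ Over.mk j := Over.homMk (IsOpenImmersion.lift j T.hom h1) (IsOpenImmersion.lift_fac _ _ _)
  exact desc_of_descU X j h T t e

/-- **Quillen patching** -/
theorem exists_torsor [IsAffine S] [LocallyOfFinitePresentation G.hom]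
    (hloc : ∀ s : S, ∃ (U : Scheme.{u}) (j : U ⟶ S) (_ : IsOpenImmersion j), s ∈ Set.range j.base ∧ DescU X j) :
    ∃ P : NonAbH1.TorsorSch G Scheme.fppfPrecoverage,
      Nonempty (NonAbH1.EquivIso (P.act.bc (𝔸(n; S) ↘ S)) X.act) := by
  obtain ⟨I, hI⟩ := exists_ideal X
  have h1 : Ideal.span (I : Set Γ(S, ⊤)) = ⊤ := by
    rw [← (isAffineOpen_top S).iSup_basicOpen_eq_self_iff]
    rw [eq_top_iff]
    intro s _
    obtain ⟨U, j, hj, hs, hU⟩ := hloc s
    have hs' : s ∈ j.opensRange := hs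
    obtain ⟨_, ⟨r, rfl⟩, h3, h4⟩ := TopologicalSpace.Opens.isBasis_iff_nbhd.mp (isBasis_basicOpen S) hs'
    rw [TopologicalSpace.Opens.mem_iSup]
    exact ⟨⟨r, (hI r).mpr (descX_of_descU X j hU h4)⟩, h3⟩
  rw [Ideal.span_eq] at h1
  have h2 : DescX X 1 := (hI 1).mp (h1 ▸ trivial)
  obtain ⟨φ, hφ⟩ := h2 (En S n) (𝟙 _) (by
    have : cst (1 : Γ(S, ⊤)) (En S n) = 1 := map_one _
    rw [this]
    exact isUnit_one)
  exact ⟨fibre X, nonempty_equivIso (fibre X).isTorsor X.isTorsor.1 φ hφ⟩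

end

/-- the ideal for a localization `R[1/r]` -/
theorem exists_ideal_away (R : Type u) [CommRing R] (n : Type u)
    (G : Over (Spec (CommRingCat.of R))) [GrpObj G] [LocallyOfFinitePresentation G.hom]
    (X : NonAbH1.TorsorSch (Red.bc (𝔸(n; Spec (CommRingCat.of R)) ↘ Spec (CommRingCat.of R)) G)
      Scheme.fppfPrecoverage) :
    ∃ I : Ideal R, ∀ r : R, r ∈ I ↔
      DescU X (Spec.map (CommRingCat.ofHom (algebraMap R (Localization.Away r)))) := by
  obtain ⟨I, hI⟩ := exists_ideal X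
  refine ⟨I.comap (fn R), fun r => ?_⟩
  rw [Ideal.mem_comap, hI]
  let j : Spec (CommRingCat.of (Localization.Away r)) ⟶ Spec (CommRingCat.of R) :=
    Spec.map (CommRingCat.ofHom (algebraMap R (Localization.Away r)))
  have hj : IsOpenImmersion j := inferInstance
  have hr : (Spec (CommRingCat.of R)).basicOpen (fn R r) = j.opensRange := by
    refine (basicOpen_eq_of_affine (R := CommRingCat.of R) r).trans ?_
    ext1
    exact (PrimeSpectrum.localization_away_comap_range (Localization.Away r) r).symm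
  constructor
  · intro h
    refine descU_of_desc X _ h ?_
    change IsUnit ((Spec.map _).appTop.hom (fn R r))
    rw [map_fn]
    exact (IsLocalization.Away.algebraMap_isUnit r).map _
  · intro h
    exact descX_of_descU X _ h hr.le

end K552.QuMain
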