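import Groth.Agent.NonAbH1.K552.QuHom
import Groth.Agent.NonAbH1.K552.Glue
import Mathlib.AlgebraicGeometry.AffineSpace

/-!
# Lines and localizations over `S`, by their points
-/

set_option autoImplicit false
universe u

open CategoryTheory CategoryTheory.Limits MonoidalCategory CartesianMonoidalCategory AlgebraicGeometry

namespace K552.QuOver

variable {S : Scheme.{u}}

/-- functions on `T` -/
abbrev Fn (T : Over S) : Type u := Γ(T.left, ⊤)

/-- restriction of functions -/
noncomputable def res {T T' : Over S} (f : T' ⟶ T) : Fn T →+* Fn T' := f.left.appTop.hom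

lemma res_id {T : Over S} (a : Fn T) : res (𝟙 T) a = a := by
  simp [res]

lemma res_comp {T T' T'' : Over S} (g : T'' ⟶ T') (f : T' ⟶ T) (a : Fn T) :
    res (g ≫ f) a = res g (res f a) := by
  rw [res, Over.comp_left, Scheme.Hom.comp_appTop]
  rfl

/-- a function on `S` as a function on `T` -/
noncomputable def cst (s : Γ(S, ⊤)) (T : Over S) : Fn T := T.hom.appTop.hom s

@[simp] lemma res_cst {T T' : Over S} (f : T' ⟶ T) (s : Γ(S, ⊤)) : res f (cst s T) = cst s T' := by
  have h : f.left ≫ T.hom = T'.hom := Over.w f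
  rw [cst, cst, ← h, Scheme.Hom.comp_appTop]
  rfl

lemma cst_mul (s t : Γ(S, ⊤)) (T : Over S) : cst (s * t) T = cst s T * cst t T := map_mul _ _ _

lemma cst_pow (s : Γ(S, ⊤)) (n : ℕ) (T : Over S) : cst (s ^ n) T = cst s T ^ n := map_pow _ _ _

lemma cst_add (s t : Γ(S, ⊤)) (T : Over S) : cst (s + t) T = cst s T + cst t T := map_add _ _ _

variable (S) in
/-- the affine line -/
noncomputable def A1 : Over S := Over.mk (𝔸(PUnit.{u + 1}; S) ↘ S)

/-- the point with given coordinate -/
noncomputable def pt {T : Over S} (a : Fn T) : T ⟶ A1 S :=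
  Over.homMk (AffineSpace.homOfVector T.hom (fun _ => a)) (AffineSpace.homOfVector_over _ _)

/-- the coordinate of a point -/
noncomputable def co {T : Over S} (x : T ⟶ A1 S) : Fn T := res x (AffineSpace.coord S PUnit.unit)

@[simp] lemma co_pt {T : Over S} (a : Fn T) : co (pt a) = a :=
  AffineSpace.homOfVector_appTop_coord T.hom (fun _ => a) PUnit.unit

lemma co_comp {T T' : Over S} (f : T' ⟶ T) (x : T ⟶ A1 S) : co (f ≫ x) = res f (co x) := res_comp _ _ _

lemma co_injective {T : Over S} {x y : T ⟶ A1 S} (h : co x = co y) : x = y := by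
  ext1
  refine AffineSpace.hom_ext ?_ ?_
  · exact (Over.w x).trans (Over.w y).symm
  · intro i
    exact h

@[simp] lemma pt_co {T : Over S} (x : T ⟶ A1 S) : pt (co x) = x := co_injective (co_pt _)

lemma comp_pt {T T' : Over S} (f : T' ⟶ T) (a : Fn T) : f ≫ pt a = pt (res f a) :=
  co_injective (by rw [co_comp, co_pt, co_pt])

/-- `P` with `p : P ⟶ Z` and the function `x` is the affine line over `Z`. -/
structure IsLine (Z P : Over S) (p : P ⟶ Z) (x : Fn P) : Prop where
  ex : ∀ {T : Over S} (z : T ⟶ Z) (a : Fn T), ∃ f : T ⟶ P, f ≫ p = z ∧ res f x = a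
  uniq : ∀ {T : Over S} (f g : T ⟶ P), f ≫ p = g ≫ p → res f x = res g x → f = g

theorem isLine_prod (Z : Over S) : IsLine Z (Z ⊗ A1 S) (fst _ _) (co (snd Z (A1 S))) where
  ex z a := ⟨lift z (pt a), lift_fst _ _, by rw [← co_comp, lift_snd, co_pt]⟩
  uniq f g h1 h2 := by
    apply CartesianMonoidalCategory.hom_ext _ _ h1
    apply co_injective
    rw [co_comp, co_comp, h2]

/-- `j : Zs ⟶ Z` is the part of `Z` where `s` is invertible. -/
structure IsLocz (s : Γ(S, ⊤)) (Z Zs : Over S) (j : Zs ⟶ Z) : Prop where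
  unit : IsUnit (cst s Zs)
  ex : ∀ {T : Over S} (z : T ⟶ Z), IsUnit (cst s T) → ∃ f : T ⟶ Zs, f ≫ j = z
  uniq : ∀ {T : Over S} (f g : T ⟶ Zs), f ≫ j = g ≫ j → f = g

/-- `D` is the part of `S` where `s` is invertible. -/
structure IsD (s : Γ(S, ⊤)) (D : Over S) : Prop where
  unit : IsUnit (cst s D)
  ex : ∀ {T : Over S}, IsUnit (cst s T) → Nonempty (T ⟶ D)
  uniq : ∀ {T : Over S} (f g : T ⟶ D), f = g

lemma isUnit_cst {s : Γ(S, ⊤)} {D T : Over S} (h : IsUnit (cst s D)) (f : T ⟶ D) : IsUnit (cst s T) := by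
  rw [← res_cst f s]
  exact h.map _

theorem isLocz_prod {s : Γ(S, ⊤)} {D : Over S} (hD : IsD s D) (Z : Over S) : IsLocz s Z (Z ⊗ D) (fst Z D) where
  unit := isUnit_cst hD.unit (snd Z D)
  ex z h := by
    obtain ⟨d⟩ := hD.ex h
    exact ⟨lift z d, lift_fst _ _⟩
  uniq f g h := CartesianMonoidalCategory.hom_ext _ _ h (hD.uniq _ _)

section Spec

variable {C : Type u} [CommRing C] (c : Spec (CommRingCat.of C) ⟶ S)

/-- elements as functions -/
noncomputable def fn (C : Type u) [CommRing C] : C →+* Γ(Spec (CommRingCat.of C), ⊤) :=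
  (Scheme.ΓSpecIso (CommRingCat.of C)).inv.hom

/-- functions as elements -/
noncomputable def fn' (C : Type u) [CommRing C] : Γ(Spec (CommRingCat.of C), ⊤) →+* C :=
  (Scheme.ΓSpecIso (CommRingCat.of C)).hom.hom

@[simp] lemma fn_fn' (a : Γ(Spec (CommRingCat.of C), ⊤)) : fn C (fn' C a) = a := by
  simp [fn, fn']

@[simp] lemma fn'_fn (a : C) : fn' C (fn C a) = a := by
  simp [fn, fn']

lemma map_fn {D : Type u} [CommRing D] (f : C →+* D) (a : C) :
    (Spec.map (CommRingCat.ofHom f)).appTop.hom (fn C a) = fn D (f a) := by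
  have := Scheme.ΓSpecIso_inv_naturality (CommRingCat.ofHom f)
  exact (congrArg (fun g => g.hom a) this).symm

/-- morphisms to the spectrum -/
noncomputable def toSp {T : Scheme.{u}} (f : C →+* Γ(T, ⊤)) : T ⟶ Spec (CommRingCat.of C) :=
  T.toSpecΓ ≫ Spec.map (CommRingCat.ofHom f)

lemma toSp_fn {T : Scheme.{u}} (f : C →+* Γ(T, ⊤)) (a : C) : (toSp f).appTop.hom (fn C a) = f a := by
  rw [toSp, Scheme.Hom.comp_appTop, CommRingCat.hom_comp, RingHom.comp_apply, map_fn, Scheme.toSpecΓ_appTop]
  simp [fn]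

lemma toSp_ext {T : Scheme.{u}} {f g : T ⟶ Spec (CommRingCat.of C)}
    (h : ∀ a : C, f.appTop.hom (fn C a) = g.appTop.hom (fn C a)) : f = g := by
  apply ext_of_isAffine
  ext a
  have := h (fn' C a)
  rw [fn_fn'] at this
  exact this

open Polynomial in
theorem isLine_Spec : IsLine (Over.mk c) (Over.mk (Spec.map (CommRingCat.ofHom (Polynomial.C : C →+* C[X])) ≫ c))
    (Over.homMk (Spec.map (CommRingCat.ofHom Polynomial.C))) (fn C[X] X) where
  ex {T} z a := by
    let f : T.left ⟶ Spec (CommRingCat.of C[X]) :=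
      toSp (eval₂RingHom ((res z).comp (fn C)) a)
    have hf : f ≫ Spec.map (CommRingCat.ofHom Polynomial.C) = z.left := by
      apply toSp_ext
      intro b
      rw [Scheme.Hom.comp_appTop, CommRingCat.hom_comp, RingHom.comp_apply, map_fn, toSp_fn]
      simp [res]
    refine ⟨Over.homMk f (by
      change f ≫ Spec.map (CommRingCat.ofHom Polynomial.C) ≫ c = _
      rw [← Category.assoc, hf]
      exact Over.w z), ?_, ?_⟩
    · ext1
      exact hf
    · change f.appTop.hom (fn C[X] X) = a
      rw [toSp_fn]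
      simp
  uniq {T} f g h1 h2 := by
    ext1
    apply toSp_ext
    intro a
    have h3 : (f.left.appTop.hom.comp (fn C[X])) = (g.left.appTop.hom.comp (fn C[X])) := by
      apply Polynomial.ringHom_ext
      · intro b
        have h4 := congrArg (fun z => z.left.appTop.hom (fn C b)) h1
        simp only [Over.comp_left, Over.homMk_left] at h4
        rw [Scheme.Hom.comp_appTop, Scheme.Hom.comp_appTop, CommRingCat.hom_comp, CommRingCat.hom_comp,
          RingHom.comp_apply, RingHom.comp_apply, map_fn] at h4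
        exact h4
      · exact h2
    exact RingHom.congr_fun h3 a

theorem isLocz_Spec (s : Γ(S, ⊤)) {Cs : Type u} [CommRing Cs] [Algebra C Cs]
    [IsLocalization.Away (fn' C (cst s (Over.mk c))) Cs] :
    IsLocz s (Over.mk c) (Over.mk (Spec.map (CommRingCat.ofHom (algebraMap C Cs)) ≫ c))
      (Over.homMk (Spec.map (CommRingCat.ofHom (algebraMap C Cs)))) where
  unit := by
    rw [← res_cst (T := Over.mk c) (Over.homMk (Spec.map (CommRingCat.ofHom (algebraMap C Cs))))]
    change IsUnit ((Spec.map (CommRingCat.ofHom (algebraMap C Cs))).appTop.hom _)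
    rw [← fn_fn' (cst s (Over.mk c)), map_fn]
    exact (IsLocalization.Away.algebraMap_isUnit _).map _
  ex {T} z h := by
    have hu : IsUnit (((res z).comp (fn C)) (fn' C (cst s (Over.mk c)))) := by
      rw [RingHom.comp_apply]
      erw [fn_fn']
      rw [res_cst]
      exact h
    let f : T.left ⟶ Spec (CommRingCat.of Cs) :=
      toSp (IsLocalization.Away.lift (S := Cs) (fn' C (cst s (Over.mk c))) hu)
    have hf : f ≫ Spec.map (CommRingCat.ofHom (algebraMap C Cs)) = z.left := by
      apply toSp_ext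
      intro b
      rw [Scheme.Hom.comp_appTop, CommRingCat.hom_comp, RingHom.comp_apply, map_fn, toSp_fn]
      simp [res]
    refine ⟨Over.homMk f (by
      change f ≫ Spec.map (CommRingCat.ofHom _) ≫ c = _
      rw [← Category.assoc, hf]
      exact Over.w z), ?_⟩
    ext1
    exact hf
  uniq {T} f g h := by
    ext1
    apply toSp_ext
    intro a
    have h3 : (f.left.appTop.hom.comp (fn Cs)) = (g.left.appTop.hom.comp (fn Cs)) := by
      apply IsLocalization.ringHom_ext (Submonoid.powers (fn' C (cst s (Over.mk c))))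
      ext b
      have h4 := congrArg (fun z => z.left.appTop.hom (fn C b)) h
      simp only [Over.comp_left, Over.homMk_left] at h4
      rw [Scheme.Hom.comp_appTop, Scheme.Hom.comp_appTop, CommRingCat.hom_comp, CommRingCat.hom_comp,
        RingHom.comp_apply, RingHom.comp_apply, map_fn] at h4
      exact h4
    exact RingHom.congr_fun h3 a

end Spec

end K552.QuOver
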