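import Groth.Agent.NonAbH1.K552.QuDec

/-!
# Quillen patching of equivariant morphisms
-/

set_option autoImplicit false
universe u

open CategoryTheory CategoryTheory.Limits MonoidalCategory CartesianMonoidalCategory MonObj GrpObj AlgebraicGeometry
open Groth.Agent.Books.BorelOrb K554.Fpqc

namespace K552.QuPatch

open K552.QuOver K552.QuEqv K552.QuAut K552.QuDec

variable {S : Scheme.{u}}

section Cov

variable {r r' : Γ(S, ⊤)} {D D' : Over S}

/-- if `r`, `r'` generate the unit ideal on `T` then the parts where they are invertible cover `T`. -/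
lemma cov_of_coprime (hD : IsD r D) (hD' : IsD r' D') (T : Over S) (h : IsCoprime (cst r T) (cst r' T)) (x : T.left) :
    x ∈ Set.range (fst T D).left ∨ x ∈ Set.range (fst T D').left := by
  let K : Over S := Over.mk (T.left.fromSpecResidueField x ≫ T.hom)
  let k : K ⟶ T := Over.homMk (T.left.fromSpecResidueField x)
  have hK : IsField (Fn K) := by
    have e : Fn K ≃+* T.left.residueField x :=
      (Scheme.ΓSpecIso (T.left.residueField x)).commRingCatIsoToRingEquiv
    exact MulEquiv.isField (Field.toIsField (T.left.residueField x)) e.toMulEquiv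
  have key : ∀ {s : Γ(S, ⊤)} {D : Over S}, IsD s D → cst s K ≠ 0 → x ∈ Set.range (fst T D).left := by
    intro s D hD hs
    obtain ⟨y, hy⟩ := hK.mul_inv_cancel hs
    obtain ⟨d⟩ := hD.ex (T := K) (IsUnit.of_mul_eq_one y hy)
    have h1 : lift k d ≫ fst T D = k := lift_fst _ _
    have h2 : (lift k d).left ≫ (fst T D).left = T.left.fromSpecResidueField x := congrArg (fun f => f.left) h1
    obtain ⟨z, hz⟩ : x ∈ Set.range (T.left.fromSpecResidueField x) := by
      rw [Scheme.range_fromSpecResidueField]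
      exact rfl
    refine ⟨(lift k d).left z, ?_⟩
    rw [← Scheme.Hom.comp_apply, h2, hz]
  by_contra hx
  rw [not_or] at hx
  have h1 : cst r K = 0 := by
    by_contra h1
    exact hx.1 (key hD h1)
  have h2 : cst r' K = 0 := by
    by_contra h2
    exact hx.2 (key hD' h2)
  have h3 := h.map (res k)
  rw [res_cst, res_cst, h1, h2] at h3
  have h4 : (0 : Fn K) = 1 := by
    have := isCoprime_zero_left.mp h3
    obtain ⟨y, hy⟩ := this.exists_left_inv
    rw [mul_zero] at hy
    exact hy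
  exact hK.nontrivial.exists_pair_ne.elim fun a ⟨b, hab⟩ => hab (by
    rw [← _root_.mul_one a, ← _root_.mul_one b, ← h4, mul_zero, mul_zero])

variable [IsOpenImmersion D.hom] [IsOpenImmersion D'.hom]

omit [IsOpenImmersion D'.hom] in
lemma isOpenImmersion_fst (T : Over S) : IsOpenImmersion (fst T D).left :=
  inferInstanceAs (IsOpenImmersion (pullback.fst T.hom D.hom))

theorem hom_ext_two (hD : IsD r D) (hD' : IsD r' D') {T X : Over S} (h : IsCoprime (cst r T) (cst r' T))
    {f g : T ⟶ X} (h1 : fst T D ≫ f = fst T D ≫ g) (h2 : fst T D' ≫ f = fst T D' ≫ g) : f = g := by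
  ext1
  have := isOpenImmersion_fst (D := D) T
  have := isOpenImmersion_fst (D := D') T
  refine Glue.hom_ext_two (fst T D).left (fst T D').left (cov_of_coprime hD hD' T h) ?_ ?_
  · simpa using congrArg (fun f => f.left) h1
  · simpa using congrArg (fun f => f.left) h2

theorem exists_glue_two (hD : IsD r D) (hD' : IsD r' D') {T X : Over S} (h : IsCoprime (cst r T) (cst r' T))
    (x₁ : T ⊗ D ⟶ X) (x₂ : T ⊗ D' ⟶ X)
    (h12 : ∀ {V : Over S} (t : V ⟶ T) (d : V ⟶ D) (d' : V ⟶ D'), lift t d ≫ x₁ = lift t d' ≫ x₂) :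
    ∃ x : T ⟶ X, fst T D ≫ x = x₁ ∧ fst T D' ≫ x = x₂ := by
  have := isOpenImmersion_fst (D := D) T
  have := isOpenImmersion_fst (D := D') T
  obtain ⟨f, hf₁, hf₂⟩ := Glue.exists_glue_two (fst T D).left (fst T D').left
    (cov_of_coprime hD hD' T h) x₁.left x₂.left (by
      intro V p q e
      let p' : Over.mk (p ≫ (T ⊗ D).hom) ⟶ T ⊗ D := Over.homMk p rfl
      let q' : Over.mk (p ≫ (T ⊗ D).hom) ⟶ T ⊗ D' := Over.homMk q (by
        have e1 : (fst T D).left ≫ T.hom = (T ⊗ D).hom := Over.w _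
        have e2 : (fst T D').left ≫ T.hom = (T ⊗ D').hom := Over.w _
        change q ≫ (T ⊗ D').hom = p ≫ (T ⊗ D).hom
        rw [← e1, ← e2, ← Category.assoc, ← Category.assoc, e])
      have e3 : p' ≫ fst T D = q' ≫ fst T D' := by ext1; exact e
      have e4 := h12 (p' ≫ fst _ _) (p' ≫ snd _ _) (q' ≫ snd _ _)
      rw [← comp_lift, lift_fst_snd, Category.comp_id, e3, ← comp_lift, lift_fst_snd, Category.comp_id] at e4
      exact congrArg (fun f => f.left) e4)
  have hw : f ≫ X.hom = T.hom := by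
    refine Glue.hom_ext_two (fst T D).left (fst T D').left (cov_of_coprime hD hD' T h) ?_ ?_
    · rw [← Category.assoc, hf₁, Over.w, Over.w]
    · rw [← Category.assoc, hf₂, Over.w, Over.w]
  exact ⟨Over.homMk f hw, by ext1; exact hf₁, by ext1; exact hf₂⟩

variable {G X Y : Over S} [GrpObj G] {a : AlgGrp.Action G Y} {b : AlgGrp.Action G X}

/-- gluing of equivariant morphisms -/
theorem exists_glue_eqv (hD : IsD r D) (hD' : IsD r' D') {T : Over S} (h : IsCoprime (cst r T) (cst r' T))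
    (φ₁ : Eqv a b (T ⊗ D)) (φ₂ : Eqv a b (T ⊗ D'))
    (h12 : ∀ {V : Over S} (t : V ⟶ T) (d : V ⟶ D) (d' : V ⟶ D'), rs (lift t d) φ₁ = rs (lift t d') φ₂) :
    ∃ φ : Eqv a b T, rs (fst T D) φ = φ₁ ∧ rs (fst T D') φ = φ₂ := by
  have hco : ∀ {T' : Over S} (_ : T' ⟶ T), IsCoprime (cst r T') (cst r' T') := by
    intro T' t
    have := h.map (res t)
    rwa [res_cst, res_cst] at this
  have h12' : ∀ {V : Over S} (y : V ⟶ Y) (t : V ⟶ T) (d : V ⟶ D) (d' : V ⟶ D'),
      ev φ₁ y (lift t d) = ev φ₂ y (lift t d') := by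
    intro V y t d d'
    have := congrArg (fun z => ev z y (𝟙 V)) (h12 t d d')
    simpa using this
  choose f hf₁ hf₂ using fun (V : Over S) (y : V ⟶ Y) (t : V ⟶ T) =>
    exists_glue_two hD hD' (hco t) (ev φ₁ (fst V D ≫ y) (t ▷ D)) (ev φ₂ (fst V D' ≫ y) (t ▷ D')) (by
      intro W v d d'
      rw [comp_ev, comp_ev, lift_fst_assoc, lift_fst_assoc, lift_whiskerRight, lift_whiskerRight]
      exact h12' _ _ _ _)
  have hf₁' : ∀ {V : Over S} (y : V ⟶ Y) (t : V ⟶ T) (d : V ⟶ D), f V y t = ev φ₁ y (lift t d) := by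
    intro V y t d
    have := congrArg (fun z => lift (𝟙 V) d ≫ z) (hf₁ V y t)
    simp only [lift_fst_assoc, Category.id_comp] at this
    rw [this, comp_ev, lift_fst_assoc, Category.id_comp, lift_whiskerRight, Category.id_comp]
  have hf₂' : ∀ {V : Over S} (y : V ⟶ Y) (t : V ⟶ T) (d : V ⟶ D'), f V y t = ev φ₂ y (lift t d) := by
    intro V y t d
    have := congrArg (fun z => lift (𝟙 V) d ≫ z) (hf₂ V y t)
    simp only [lift_fst_assoc, Category.id_comp] at this
    rw [this, comp_ev, lift_fst_assoc, Category.id_comp, lift_whiskerRight, Category.id_comp]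
  have hn : ∀ {T' T'' : Over S} (v : T'' ⟶ T') (y : T' ⟶ Y) (t : T' ⟶ T), v ≫ f T' y t = f T'' (v ≫ y) (v ≫ t) := by
    intro T' T'' v y t
    refine hom_ext_two hD hD' (hco (v ≫ t)) ?_ ?_
    · have h1 := congrArg (fun z => v ▷ D ≫ z) (hf₁ _ y t)
      rw [hf₁, ← whiskerRight_fst_assoc, hf₁, comp_ev, whiskerRight_fst_assoc, comp_whiskerRight]
    · rw [hf₂, ← whiskerRight_fst_assoc, hf₂, comp_ev, whiskerRight_fst_assoc, comp_whiskerRight]
  have hs : ∀ {T' : Over S} (g : T' ⟶ G) (y : T' ⟶ Y) (t : T' ⟶ T), f T' (sm a g y) t = sm b g (f T' y t) := by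
    intro T' g y t
    refine hom_ext_two hD hD' (hco t) ?_ ?_
    · rw [hf₁, comp_sm, ev_sm, comp_sm, hf₁]
    · rw [hf₂, comp_sm, ev_sm, comp_sm, hf₂]
  let φ : Eqv a b T := mk' (fun {T'} y t => f T' y t) hn hs
  have hφ : ∀ {T' : Over S} (y : T' ⟶ Y) (t : T' ⟶ T), ev φ y t = f T' y t := fun y t => ev_mk' _ hn hs y t
  refine ⟨φ, ?_, ?_⟩
  · apply Eqv.ext'
    intro T' y t
    rw [ev_rs, hφ, hf₁' _ _ (t ≫ snd _ _), ← comp_lift, lift_fst_snd, Category.comp_id]
  · apply Eqv.ext'
    intro T' y t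
    rw [ev_rs, hφ, hf₂' _ _ (t ≫ snd _ _), ← comp_lift, lift_fst_snd, Category.comp_id]

end Cov

end K552.QuPatch
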