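import Groth.Agent.NonAbH1.K552.QuFib

/-!
# From equivariant isomorphisms of base-changed torsors to equivariant morphisms over `S`, and back
-/

set_option autoImplicit false
universe u

open CategoryTheory CategoryTheory.Limits MonoidalCategory CartesianMonoidalCategory MonObj GrpObj AlgebraicGeometry
open Groth.Agent.Books.BorelOrb K554.Fpqc

namespace K552.QuTrans

open K552.QuEqv K552.QuIdeal K552.Push K552.QuFib

variable {S D : Scheme.{u}} {d : D ⟶ S} {G Y : Over S} [GrpObj G] {Z : Over D} {b : AlgGrp.Action (Red.bc d G) Z}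
  {a : AlgGrp.Action G Y}

theorem nonempty_equivIso (ha : NonAbH1.IsTorsorFor Scheme.fppfPrecoverage a) (hb : NonAbH1.IsPseudoTorsorSch b)
    (φ : Eqv a (push b) (Over.mk d)) (hφ : Ov (proj d Z) φ (𝟙 _)) : Nonempty (NonAbH1.EquivIso (a.bc d) b) := by
  have h1 : ev φ (bcProj d Y) (proj d (Red.bc d Y)) ≫ proj d Z = proj d (Red.bc d Y) :=
    (hφ.eq _ _).trans (Category.comp_id _)
  obtain ⟨m, hm⟩ := exists_lift_of_proj _ h1
  have h2 : AlgGrp.Action.IsEquivariant (a.bc d) b m := by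
    rw [isEquivariant_push_iff]
    intro T g z
    rw [hm, comp_ev, comp_ev, sm_push_bc, sm_push_proj, ev_sm]
  have h3 : IsIso m := isIso_of_isEquivariant Scheme.fppfPrecoverage _ _
    (NonAbH1.isTorsorFor_bc d Scheme.fppfPrecoverage ha) hb m h2
  exact ⟨⟨asIso m, h2⟩⟩

variable {U Q : Scheme.{u}} {j : U ⟶ S} (p₁ : Q ⟶ D) (p₂ : Q ⟶ U)

theorem nonempty_equivIso_of_eqv (hp : p₁ ≫ d = p₂ ≫ j) (ha : NonAbH1.IsTorsorFor Scheme.fppfPrecoverage a)
    (hb : NonAbH1.IsPseudoTorsorSch b) (φ : Eqv a (push b) (Over.mk (p₂ ≫ j)))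
    (hφ : Ov (proj d Z) φ (ovr p₁ hp)) :
    Nonempty (NonAbH1.EquivIso (((a.bc j).bc p₂).restrict (ActBC.bcCompIso p₂ j G rfl).inv)
      ((b.bc p₁).restrict (ActBC.bcCompIso p₁ d G hp).inv)) := by
  let y : (Over.map (p₂ ≫ j)).obj (Red.bc p₂ (Red.bc j Y)) ⟶ Y := rProj (Red.bc j Y) p₂ rfl ≫ bcProj j Y
  let t : (Over.map (p₂ ≫ j)).obj (Red.bc p₂ (Red.bc j Y)) ⟶ Over.mk (p₂ ≫ j) := proj _ _
  obtain ⟨m', hm1, hm2⟩ := exists_lift_r (Z := Z) p₁ hp (ev φ y t) t (hφ.eq _ _)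
  obtain ⟨m, hm⟩ := exists_lift_of_proj m' hm2
  have h2 : AlgGrp.Action.IsEquivariant (((a.bc j).bc p₂).restrict (ActBC.bcCompIso p₂ j G rfl).inv)
      ((b.bc p₁).restrict (ActBC.bcCompIso p₁ d G hp).inv) m := by
    rw [isEquivariant_push_iff]
    intro T g z
    rw [hm]
    refine hom_ext_r p₁ hp ?_ ?_
    · have e1 : sm (push (((a.bc j).bc p₂).restrict (ActBC.bcCompIso p₂ j G rfl).inv)) g z ≫ y =
          sm a g (z ≫ y) := by
        simp only [y]
        rw [← Category.assoc, sm_push_restrict_bc, sm_push_bc, Category.assoc]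
      have e2 : sm (push (((a.bc j).bc p₂).restrict (ActBC.bcCompIso p₂ j G rfl).inv)) g z ≫ t = z ≫ t :=
        sm_push_proj _ _ _
      rw [sm_push_restrict_bc, Category.assoc, hm1, Category.assoc, hm1, comp_ev, comp_ev, e1, e2, ev_sm]
    · rw [sm_push_proj, Category.assoc, hm2, Category.assoc, hm2]
      exact sm_push_proj _ _ _
  have h4 := NonAbH1.isTorsorFor_bc p₂ Scheme.fppfPrecoverage (NonAbH1.isTorsorFor_bc j Scheme.fppfPrecoverage ha)
  have h3 : IsIso m := isIso_of_isEquivariant Scheme.fppfPrecoverage _ _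
    (K553.Bc.isTorsorFor_restrict h4 (ActBC.bcCompIso p₂ j G rfl).inv)
    (K553.Bc.isPseudoTorsorSch_restrict (NonAbH1.isPseudoTorsorSch_bc p₁ hb) _) m h2
  exact ⟨⟨asIso m, h2⟩⟩

/-- an equivariant isomorphism over `Q = D ×_S U` gives equivariant morphisms from the fibre -/
theorem exists_eqv_of_equivIso (hQ : IsPullback p₁ p₂ d j) (z : S ⟶ D) (hz : z ≫ d = 𝟙 S) {P : Over U}
    {c : AlgGrp.Action (Red.bc j G) P} (hc : NonAbH1.IsTorsorFor Scheme.fppfPrecoverage c)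
    (hb : NonAbH1.IsTorsorFor Scheme.fppfPrecoverage b)
    (e : NonAbH1.EquivIso ((c.bc p₂).restrict (ActBC.bcCompIso p₂ j G rfl).inv)
      ((b.bc p₁).restrict (ActBC.bcCompIso p₁ d G hQ.w).inv))
    (T : Over S) (t : T ⟶ Over.mk j) (x : T ⟶ Over.mk d) :
    ∃ φ : Eqv (actz z hz b) (push b) T, Ov (proj d Z) φ x := by
  have hsec : ∀ {T : Over S} (x : T ⟶ Over.mk d) (t : T ⟶ Over.mk j),
      ∃ w : T ⟶ Over.mk (p₂ ≫ j), w ≫ ovr p₁ hQ.w = x ∧ w ≫ ovr p₂ rfl = t := by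
    intro T x t
    refine ⟨Over.homMk (hQ.lift x.left t.left ((Over.w x).trans (Over.w t).symm)) ?_, ?_, ?_⟩
    · change hQ.lift _ _ _ ≫ p₂ ≫ j = _
      rw [hQ.lift_snd_assoc]
      exact Over.w t
    · ext1
      exact hQ.lift_fst _ _ _
    · ext1
      exact hQ.lift_snd _ _ _
  have hsecu : ∀ {T : Over S} (w w' : T ⟶ Over.mk (p₂ ≫ j)), w ≫ ovr p₁ hQ.w = w' ≫ ovr p₁ hQ.w →
      w ≫ ovr p₂ rfl = w' ≫ ovr p₂ rfl → w = w' := by
    intro T w w' h1 h2
    ext1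
    exact hQ.hom_ext (congrArg (fun f => f.left) h1) (congrArg (fun f => f.left) h2)
  -- the map `θ(p, x)`
  have hth : ∀ {T : Over S} (p : T ⟶ (Over.map j).obj P) (x : T ⟶ Over.mk d),
      ∃ q : T ⟶ (Over.map (p₂ ≫ j)).obj (Red.bc p₂ P), q ≫ rProj P p₂ rfl = p ∧
        q ≫ proj _ _ ≫ ovr p₁ hQ.w = x := by
    intro T p x
    obtain ⟨w, hw1, hw2⟩ := hsec x (p ≫ proj j P)
    obtain ⟨q, hq1, hq2⟩ := exists_lift_r (Z := P) (d := j) p₂ rfl p w hw2.symm
    exact ⟨q, hq1, by rw [← Category.assoc, hq2, hw1]⟩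
  choose q hq1 hq2 using @hth
  have hqu : ∀ {T : Over S} (p : T ⟶ (Over.map j).obj P) (x : T ⟶ Over.mk d)
      (q' : T ⟶ (Over.map (p₂ ≫ j)).obj (Red.bc p₂ P)), q' ≫ rProj P p₂ rfl = p →
        q' ≫ proj _ _ ≫ ovr p₁ hQ.w = x → q' = q p x := by
    intro T p x q' h1 h2
    refine hom_ext_r (d := j) p₂ rfl ?_ ?_
    · rw [h1, hq1]
    · refine hsecu _ _ ?_ ?_
      · rw [Category.assoc, Category.assoc, h2, hq2]
      · rw [Category.assoc, Category.assoc, ← rProj_proj, ← Category.assoc, h1, ← Category.assoc, hq1]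
  let θ : ∀ {T : Over S} (p : T ⟶ (Over.map j).obj P) (x : T ⟶ Over.mk d), T ⟶ (Over.map d).obj Z :=
    fun p x => q p x ≫ (Over.map (p₂ ≫ j)).map e.iso.hom ≫ rProj Z p₁ hQ.w
  have hθn : ∀ {T T' : Over S} (f : T' ⟶ T) (p : T ⟶ (Over.map j).obj P) (x : T ⟶ Over.mk d),
      f ≫ θ p x = θ (f ≫ p) (f ≫ x) := by
    intro T T' f p x
    have : f ≫ q p x = q (f ≫ p) (f ≫ x) := hqu _ _ _ (by rw [Category.assoc, hq1]) (by rw [Category.assoc, hq2])
    simp only [θ]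
    rw [← Category.assoc, this]
  have hθπ : ∀ {T : Over S} (p : T ⟶ (Over.map j).obj P) (x : T ⟶ Over.mk d), θ p x ≫ proj d Z = x := by
    intro T p x
    simp only [θ]
    rw [Category.assoc, Category.assoc, rProj_proj, ← Category.assoc ((Over.map (p₂ ≫ j)).map e.iso.hom), map_proj, hq2]
  have he : AlgGrp.Action.IsEquivariant ((c.bc p₂).restrict (ActBC.bcCompIso p₂ j G rfl).inv)
      ((b.bc p₁).restrict (ActBC.bcCompIso p₁ d G hQ.w).inv) e.iso.hom := e.comm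
  rw [isEquivariant_push_iff] at he
  have hθs : ∀ {T : Over S} (g : T ⟶ G) (p : T ⟶ (Over.map j).obj P) (x : T ⟶ Over.mk d),
      θ (sm (push c) g p) x = sm (push b) g (θ p x) := by
    intro T g p x
    have h1 : sm (push ((c.bc p₂).restrict (ActBC.bcCompIso p₂ j G rfl).inv)) g (q p x) =
        q (sm (push c) g p) x := by
      refine hqu _ _ _ ?_ ?_
      · rw [sm_push_restrict_bc, hq1]
      · rw [← Category.assoc, sm_push_proj, Category.assoc, hq2]
    simp only [θ]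
    rw [← h1, ← Category.assoc, he, sm_push_restrict_bc, Category.assoc]
  -- the fibre at the section
  obtain ⟨κ, hκ⟩ := lift_z z hz (θ (𝟙 ((Over.map j).obj P)) (toUnit _ ≫ oz z hz)) (by rw [hθπ])
  have hκ' : ∀ {T : Over S} (p : T ⟶ (Over.map j).obj P), p ≫ κ ≫ iz z hz = θ p (toUnit _ ≫ oz z hz) := by
    intro T p
    rw [hκ, hθn, Category.comp_id, ← Category.assoc, toUnit_unique (p ≫ toUnit _) (toUnit _)]
  have hκs : ∀ {T : Over S} (g : T ⟶ G) (p : T ⟶ (Over.map j).obj P),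
      sm (push c) g p ≫ κ = sm (actz z hz b) g (p ≫ κ) := by
    intro T g p
    apply mono_z z hz
    rw [sm_actz, Category.assoc, hκ', hθs, Category.assoc, hκ']
  obtain ⟨k', hk1, hk2⟩ := exists_lift_bc (d := j) κ (proj j P)
  obtain ⟨k, hk⟩ := exists_lift_of_proj k' hk2
  have hks : AlgGrp.Action.IsEquivariant c ((actz z hz b).bc j) k := by
    rw [isEquivariant_push_iff]
    intro T g p
    rw [hk]
    refine hom_ext_bc ?_ ?_
    · rw [sm_push_bc, Category.assoc, hk1, Category.assoc, hk1, hκs]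
    · rw [sm_push_proj, Category.assoc, hk2, Category.assoc, hk2, sm_push_proj]
  have hki : IsIso k := isIso_of_isEquivariant Scheme.fppfPrecoverage _ _ hc
    (NonAbH1.isPseudoTorsorSch_bc j (isTorsor_actz z hz hb).1) k hks
  -- the inverse, on points
  have hinv : ∀ {T : Over S} (y : T ⟶ Red.bc z Z) (t : T ⟶ Over.mk j),
      ∃ p : T ⟶ (Over.map j).obj P, p ≫ κ = y ∧ p ≫ proj j P = t := by
    intro T y t
    obtain ⟨w, hw1, hw2⟩ := exists_lift_bc (d := j) y t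
    have h1 : (Over.map j).map (CategoryTheory.inv k) ≫ k' = 𝟙 _ := by
      rw [← hk, ← Functor.map_comp, IsIso.inv_hom_id, CategoryTheory.Functor.map_id]
    refine ⟨w ≫ (Over.map j).map (CategoryTheory.inv k), ?_, ?_⟩
    · rw [← hk1, Category.assoc, ← Category.assoc _ k', h1, Category.id_comp, hw1]
    · rw [← hk2, Category.assoc, ← Category.assoc _ k', h1, Category.id_comp, hw2]
  have hinvu : ∀ {T : Over S} (p p' : T ⟶ (Over.map j).obj P), p ≫ κ = p' ≫ κ → p ≫ proj j P = p' ≫ proj j P →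
      p = p' := by
    intro T p p' h1 h2
    have h3 : k' ≫ (Over.map j).map (CategoryTheory.inv k) = 𝟙 _ := by
      rw [← hk, ← Functor.map_comp, IsIso.hom_inv_id, CategoryTheory.Functor.map_id]
    have h4 : p ≫ k' = p' ≫ k' := hom_ext_bc (by rw [Category.assoc, hk1, Category.assoc, hk1, h1])
      (by rw [Category.assoc, hk2, Category.assoc, hk2, h2])
    rw [← Category.comp_id p, ← h3, ← Category.assoc, h4, Category.assoc, h3, Category.comp_id]
  choose r hr1 hr2 using @hinv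
  have hrn : ∀ {T' T'' : Over S} (f : T'' ⟶ T') (y : T' ⟶ Red.bc z Z) (t : T' ⟶ Over.mk j),
      f ≫ r y t = r (f ≫ y) (f ≫ t) := by
    intro T' T'' f y t
    refine hinvu _ _ ?_ ?_
    · rw [Category.assoc, hr1, hr1]
    · rw [Category.assoc, hr2, hr2]
  have hrs : ∀ {T' : Over S} (g : T' ⟶ G) (y : T' ⟶ Red.bc z Z) (t : T' ⟶ Over.mk j),
      r (sm (actz z hz b) g y) t = sm (push c) g (r y t) := by
    intro T' g y t
    refine hinvu _ _ ?_ ?_
    · rw [hκs, hr1, hr1]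
    · rw [sm_push_proj, hr2, hr2]
  have hn : ∀ {T' T'' : Over S} (f : T'' ⟶ T') (y : T' ⟶ Red.bc z Z) (s : T' ⟶ T),
      f ≫ θ (r y (s ≫ t)) (s ≫ x) = θ (r (f ≫ y) ((f ≫ s) ≫ t)) ((f ≫ s) ≫ x) := by
    intro T' T'' f y s
    rw [hθn, hrn, Category.assoc, Category.assoc]
  have hs : ∀ {T' : Over S} (g : T' ⟶ G) (y : T' ⟶ Red.bc z Z) (s : T' ⟶ T),
      θ (r (sm (actz z hz b) g y) (s ≫ t)) (s ≫ x) = sm (push b) g (θ (r y (s ≫ t)) (s ≫ x)) := by
    intro T' g y s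
    rw [hrs, hθs]
  refine ⟨mk' (fun {T'} y s => θ (r y (s ≫ t)) (s ≫ x)) hn hs, ⟨?_⟩⟩
  intro T' y s
  rw [ev_mk' (fun {T'} y s => θ (r y (s ≫ t)) (s ≫ x)) hn hs, hθπ]

end K552.QuTrans
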