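import Groth.Agent.NonAbH1.K552.VlDesc
import Groth.Agent.NonAbH1.K552.VlSt
import Groth.Agent.Sga3A.MTBasis
import Groth.Agent.Sga3B.Hens.Dict

/-!
# Groups of multiplicative type split by a Galois extension over a valuation ring

The Galois action on the characters, and values of points with values in `K ⊗ U` at the characters.
-/

set_option autoImplicit false
set_option linter.unusedSectionVars false
universe u

open TensorProduct WithConv
open Groth.Agent.Sga3A Groth.Agent.Sga3A.MTBasis
open Groth.Agent.Sga3B.Hens.Dict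
open K552.VlDesc

namespace K552.VlAct

/-- over a domain every group-like element is in the basis -/
lemma exists_eq {S B M : Type*} [CommRing S] [IsDomain S] [CommRing B] [Bialgebra S B] [CommGroup M]
    (g : GBasis S B M) {x : B} (hx : IsGroupLikeElem S x) : ∃ m, x = g.b m := by
  classical
  by_contra hcon
  push Not at hcon
  have h1 : ∀ m, g.b.repr x m = 0 := by
    intro m
    have h2 := g.repr_mul_repr hx m m
    rw [if_pos rfl] at h2
    by_contra h3
    exact hcon m (g.eq_of_repr_eq_one hx (mul_left_cancel₀ h3 (by rw [h2, mul_one])))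
  have h2 := g.sum_repr hx
  rw [Finsupp.sum, Finset.sum_eq_zero fun m _ => h1 m] at h2
  exact zero_ne_one h2

section act

variable {V W H M : Type u} [CommRing V] [CommRing W] [IsDomain W] [Algebra V W] [CommRing H] [HopfAlgebra V H]
  [CommGroup M] (g : GBasis W (W ⊗[V] H) M)

/-- The action of an endomorphism of `W` on the characters. -/
noncomputable def act (σ : W →ₐ[V] W) (m : M) : M :=
  (exists_eq g (isGroupLikeElem_bc (A := H) σ (g.gl m))).choose

theorem bc_b (σ : W →ₐ[V] W) (m : M) : bc H σ (g.b m) = g.b (act g σ m) :=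
  (exists_eq g (isGroupLikeElem_bc (A := H) σ (g.gl m))).choose_spec

theorem act_mul (σ : W →ₐ[V] W) (m n : M) : act g σ (m * n) = act g σ m * act g σ n := by
  apply g.b_injective
  rw [← bc_b, g.mul, g.mul, map_mul, bc_b, bc_b]

theorem act_one (σ : W →ₐ[V] W) : act g σ 1 = 1 := by
  apply g.b_injective
  rw [← bc_b, g.one, map_one]

theorem act_comp (σ τ : W →ₐ[V] W) (m : M) : act g (σ.comp τ) m = act g σ (act g τ m) := by
  apply g.b_injective
  rw [← bc_b, ← bc_b, ← bc_b, bc_comp]; rfl

theorem act_id (m : M) : act g (AlgHom.id V W) m = m := by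
  apply g.b_injective
  rw [← bc_b]
  have : bc H (AlgHom.id V W) = AlgHom.id V (W ⊗[V] H) := by ext <;> simp
  rw [this]; rfl

variable (Γ : Type*) [Group Γ] [MulSemiringAction Γ W] [SMulCommClass Γ V W]

/-- the action of `Γ` on the characters -/
@[reducible] noncomputable def action : MulDistribMulAction Γ M where
  smul σ m := act g (MulSemiringAction.toAlgHom V W σ) m
  one_smul m := by
    change act g (MulSemiringAction.toAlgHom V W (1 : Γ)) m = m
    have : MulSemiringAction.toAlgHom V W (1 : Γ) = AlgHom.id V W := by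
      ext w
      exact one_smul Γ w
    rw [this, act_id]
  mul_smul σ τ m := by
    change act g (MulSemiringAction.toAlgHom V W (σ * τ)) m =
      act g (MulSemiringAction.toAlgHom V W σ) (act g (MulSemiringAction.toAlgHom V W τ) m)
    have : MulSemiringAction.toAlgHom V W (σ * τ) =
        (MulSemiringAction.toAlgHom V W σ).comp (MulSemiringAction.toAlgHom V W τ) := by
      ext w
      exact mul_smul σ τ w
    rw [this, act_comp]
  smul_one σ := act_one g _
  smul_mul σ m n := act_mul g _ m n

end act

section inter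

variable {V W K L U : Type*} [CommRing V] [IsDomain V] [CommRing W] [IsDomain W] [Algebra V W] [Field K] [Field L] [Algebra V K]
  [IsFractionRing V K] [Algebra K L] [Algebra V L] [IsScalarTower V K L] [Algebra W L] [IsScalarTower V W L]
  [IsFractionRing W L] [CommRing U] [Algebra V U]

/-- Elements of `L` which become integral over a faithfully flat algebra are integral. -/
theorem exists_of_tmul_mem [Module.FaithfullyFlat V U] (x : L) (b : W ⊗[V] U) (h : x ⊗ₜ[V] (1 : U) = ι V W L U b) :
    ∃ w : W, algebraMap W L w = x := by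
  let R : Submodule V L := LinearMap.range ((IsScalarTower.toAlgHom V W L).toLinearMap)
  have h1 : (R.mkQ).rTensor U (ι V W L U b) = 0 := by
    induction b with
    | zero => simp
    | tmul w y =>
      rw [ι_tmul, LinearMap.rTensor_tmul]
      have : R.mkQ (algebraMap W L w) = 0 := by
        rw [Submodule.mkQ_apply, Submodule.Quotient.mk_eq_zero]
        exact ⟨w, rfl⟩
      rw [this, TensorProduct.zero_tmul]
    | add a b ha hb =>
      have key : ∀ b : W ⊗[V] U, (R.mkQ).rTensor U (ι V W L U b) = 0 := by
        intro b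
        induction b with
        | zero => simp
        | tmul w y =>
          rw [ι_tmul, LinearMap.rTensor_tmul]
          have : R.mkQ (algebraMap W L w) = 0 := by
            rw [Submodule.mkQ_apply, Submodule.Quotient.mk_eq_zero]
            exact ⟨w, rfl⟩
          rw [this, TensorProduct.zero_tmul]
        | add a b ha hb => rw [map_add, map_add, ha, hb, add_zero]
      exact key _
  rw [← h, LinearMap.rTensor_tmul] at h1
  have h2 : R.mkQ x = 0 := by
    apply Module.FaithfullyFlat.tensorProduct_mk_injective (A := V) (B := U) (L ⧸ R)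
    change (1 : U) ⊗ₜ[V] R.mkQ x = (1 : U) ⊗ₜ[V] (0 : L ⧸ R)
    have h3 := congrArg (TensorProduct.comm V (L ⧸ R) U) h1
    rw [TensorProduct.comm_tmul, map_zero] at h3
    rw [h3, TensorProduct.tmul_zero]
  rw [Submodule.mkQ_apply, Submodule.Quotient.mk_eq_zero] at h2
  exact h2

theorem exists_unit_of_tmul [Module.FaithfullyFlat V U] (x : Lˣ) (b : (W ⊗[V] U)ˣ) (h : (x : L) ⊗ₜ[V] (1 : U) = ι V W L U b) :
    ∃ w : Wˣ, algebraMap W L w = x := by
  obtain ⟨w, hw⟩ := exists_of_tmul_mem (x : L) _ h
  obtain ⟨w', hw'⟩ := exists_of_tmul_mem (V := V) (W := W) (U := U) ((x⁻¹ : Lˣ) : L) ((b⁻¹ : (W ⊗[V] U)ˣ) : W ⊗[V] U) (by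
    have h1 : IsUnit (ι V W L U b) := b.isUnit.map _
    apply h1.mul_left_cancel
    rw [← map_mul, Units.mul_inv, map_one, ← h, Algebra.TensorProduct.tmul_mul_tmul, Units.mul_inv, one_mul]
    rfl)
  have hww : w * w' = 1 := by
    apply IsFractionRing.injective W L
    rw [map_mul, hw, hw', map_one, Units.mul_inv]
  exact ⟨⟨w, w', hww, by rw [mul_comm, hww]⟩, hw⟩

variable (V K L U) in
/-- `K ⊗ U → L ⊗ U` -/
noncomputable def κ : K ⊗[V] U →ₐ[V] L ⊗[V] U :=
  Algebra.TensorProduct.map (IsScalarTower.toAlgHom V K L) (AlgHom.id V U)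

@[simp] lemma κ_tmul (k : K) (x : U) : κ V K L U (k ⊗ₜ x) = algebraMap K L k ⊗ₜ x := by
  simp [κ]

/-- `(K ⊗ U) ∩ (W ⊗ U) = U` -/
theorem exists_of_κ_eq [Module.Flat V U] (hWK : ∀ (k : K) (w : W), algebraMap K L k = algebraMap W L w → ∃ v : V, algebraMap V K v = k)
    (y : K ⊗[V] U) (b : W ⊗[V] U) (h : κ V K L U y = ι V W L U b) : ∃ x : U, (1 : K) ⊗ₜ[V] x = y := by
  let R : Submodule V L := LinearMap.range ((IsScalarTower.toAlgHom V W L).toLinearMap)
  let R' : Submodule V K := LinearMap.range (Algebra.linearMap V K)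
  let j : K →ₗ[V] L := (IsScalarTower.toAlgHom V K L).toLinearMap
  have hle : R' ≤ R.comap j := by
    rintro _ ⟨v, rfl⟩
    refine ⟨algebraMap V W v, ?_⟩
    change algebraMap W L (algebraMap V W v) = algebraMap K L (algebraMap V K v)
    rw [← IsScalarTower.algebraMap_apply, ← IsScalarTower.algebraMap_apply]
  let f : K ⧸ R' →ₗ[V] L ⧸ R := Submodule.mapQ R' R j hle
  have hf : Function.Injective f := by
    rw [injective_iff_map_eq_zero]
    intro a ha
    obtain ⟨a, rfl⟩ := Submodule.Quotient.mk_surjective _ a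
    have ha' : Submodule.Quotient.mk (p := R) (algebraMap K L a) = 0 := ha
    rw [Submodule.Quotient.mk_eq_zero] at ha'
    obtain ⟨w, hw⟩ := ha'
    obtain ⟨v, hv⟩ := hWK a w hw.symm
    rw [Submodule.Quotient.mk_eq_zero]
    exact ⟨v, hv⟩
  have hf' := Module.Flat.rTensor_preserves_injective_linearMap (M := U) f hf
  have h1 : ∀ b : W ⊗[V] U, (R.mkQ).rTensor U (ι V W L U b) = 0 := by
    intro b
    induction b with
    | zero => simp
    | tmul w y =>
      rw [ι_tmul, LinearMap.rTensor_tmul]
      have : R.mkQ (algebraMap W L w) = 0 := by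
        rw [Submodule.mkQ_apply, Submodule.Quotient.mk_eq_zero]
        exact ⟨w, rfl⟩
      rw [this, TensorProduct.zero_tmul]
    | add a b ha hb => rw [map_add, map_add, ha, hb, add_zero]
  have h2 : ∀ y : K ⊗[V] U, f.rTensor U ((R'.mkQ).rTensor U y) = (R.mkQ).rTensor U (κ V K L U y) := by
    intro y
    induction y with
    | zero => simp
    | tmul k x => rfl
    | add a b ha hb => simp only [map_add, ha, hb]
  have h3 : (R'.mkQ).rTensor U y = 0 := by
    apply hf'
    rw [map_zero, h2, h, h1]
  have hex : Function.Exact (Algebra.linearMap V K) R'.mkQ := by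
    rw [LinearMap.exact_iff, Submodule.ker_mkQ]
  have hex' := Module.Flat.rTensor_exact U hex
  obtain ⟨t, ht⟩ := (hex' y).mp h3
  refine ⟨TensorProduct.lid V U t, ?_⟩
  rw [← ht]
  clear ht h3
  induction t with
  | zero => simp
  | add a b ha hb => rw [map_add, TensorProduct.tmul_add, ha, hb, map_add]
  | tmul v x =>
    rw [TensorProduct.lid_tmul, LinearMap.rTensor_tmul, Algebra.linearMap_apply, ← TensorProduct.smul_tmul,
      Algebra.smul_def, mul_one]

end inter

end K552.VlAct
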