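import Groth.Agent.NonAbH1.K552.VlAct
import Groth.Agent.NonAbH1.K552.VlGal
import Groth.Agent.S16173
import Groth.Agent.Sga3A.MTConst
import Mathlib.RingTheory.HopfAlgebra.Convolution

/-!
# The algebraic core: points of a group of multiplicative type over a valuation ring

Let `H` be the Hopf algebra of a group `M` of multiplicative type and of finite type over the valuation ring `V` with
fraction field `K` and `U` a faithfully flat `V`-algebra. A point `m ∈ M(K ⊗ U)` whose two images in `M(K ⊗ (U ⊗ U))`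
differ by a point of `M(U ⊗ U)` is the product of a point of `M(K)` and a point of `M(U)`.
-/

set_option autoImplicit false
set_option linter.unusedSectionVars false
universe u

open TensorProduct WithConv
open Groth.Agent.Sga3A Groth.Agent.Sga3A.MTBasis
open Groth.Agent.Sga3B.Hens.Dict
open K552.VlDesc K552.VlAct

namespace K552.VlCore

/-- factor an algebra map through an injective one -/
theorem exists_factor {R A B C : Type*} [CommRing R] [CommRing A] [CommRing B] [CommRing C] [Algebra R A] [Algebra R B]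
    [Algebra R C] (j : A →ₐ[R] B) (hj : Function.Injective j) (f : C →ₐ[R] B) (h : ∀ c, ∃ a, j a = f c) :
    ∃ f' : C →ₐ[R] A, j.comp f' = f := by
  let e : A ≃ₐ[R] j.range := AlgEquiv.ofInjective j hj
  refine ⟨e.symm.toAlgHom.comp (f.codRestrict j.range h), ?_⟩
  ext c
  have h1 : ∀ y : j.range, j (e.symm y) = y := by
    intro y
    have := congrArg Subtype.val (e.apply_symm_apply y)
    exact this
  exact h1 _

section ex

variable {V W H D D' : Type u} [CommRing V] [CommRing W] [Algebra V W] [CommRing H] [HopfAlgebra V H]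
  [CommRing D] [Algebra V D] [Algebra W D] [IsScalarTower V W D]
  [CommRing D'] [Algebra V D'] [Algebra W D'] [IsScalarTower V W D']

lemma ex_gl (f f' : WithConv (H →ₐ[V] D)) (z : W ⊗[V] H) (hz : IsGroupLikeElem W z) :
    ex W (f * f').ofConv z = ex W f.ofConv z * ex W f'.ofConv z := by
  rw [ex_conv]
  change (toConv (ex W f.ofConv) * toConv (ex W f'.ofConv) : WithConv (W ⊗[V] H →ₐ[W] D)) z = _
  rw [AlgHom.convMul_apply, hz.comul_eq_tmul_self]
  simp

lemma ex_nat (q : D →ₐ[V] D') (hq : ∀ w, q (algebraMap W D w) = algebraMap W D' w) (f : H →ₐ[V] D) (z : W ⊗[V] H) :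
    q (ex W f z) = ex W (q.comp f) z := by
  induction z with
  | zero => simp
  | add a b ha hb => rw [map_add, map_add, map_add, ha, hb]
  | tmul w h => rw [ex_tmul, ex_tmul, map_mul, hq]; rfl

lemma comp_conv (q : D →ₐ[V] D') (f f' : WithConv (H →ₐ[V] D)) :
    (q.comp (f * f').ofConv) = (toConv (q.comp f.ofConv) * toConv (q.comp f'.ofConv)).ofConv :=
  AlgHom.comp_convMul_distrib _ _ _

end ex

section core

variable {V : Type u} [CommRing V] [IsDomain V] [ValuationRing V] {K : Type u} [Field K] [Algebra V K]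
  [IsFractionRing V K] {L : Type u} [Field L] [Algebra K L] [Algebra V L] [IsScalarTower V K L]
  [FiniteDimensional K L] [IsGalois K L]

attribute [local instance] K552.VlSt.smulCommClass

/-- the Galois action on `L ⊗ U` -/
noncomputable def sg (U : Type u) [CommRing U] [Algebra V U] (σ : L ≃ₐ[K] L) : L ⊗[V] U →ₐ[V] L ⊗[V] U :=
  Algebra.TensorProduct.map ((σ : L →ₐ[K] L).restrictScalars V) (AlgHom.id V U)

@[simp] lemma sg_tmul (U : Type u) [CommRing U] [Algebra V U] (σ : L ≃ₐ[K] L) (x : L) (y : U) :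
    sg (V := V) U σ (x ⊗ₜ y) = σ x ⊗ₜ y := rfl

lemma sg_κ (U : Type u) [CommRing U] [Algebra V U] (σ : L ≃ₐ[K] L) (y : K ⊗[V] U) :
    sg U σ (κ V K L U y) = κ V K L U y := by
  induction y with
  | zero => simp
  | add a b ha hb => rw [map_add, map_add, ha, hb]
  | tmul k x => rw [κ_tmul, sg_tmul, AlgEquiv.commutes]

variable {H M U : Type u} [CommRing H] [HopfAlgebra V H] [CommGroup M] [CommRing U] [Algebra V U]

/-- the Galois action and extended points -/
lemma sg_ex (σ : L ≃ₐ[K] L) (f : H →ₐ[V] K ⊗[V] U) (z : integralClosure V L ⊗[V] H) :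
    sg U σ (ex (integralClosure V L) ((κ V K L U).comp f) z) =
      ex (integralClosure V L) ((κ V K L U).comp f) (bc H (MulSemiringAction.toAlgHom V (integralClosure V L) σ) z) := by
  induction z with
  | zero => simp
  | add a b ha hb => rw [map_add, map_add, map_add, map_add, ha, hb]
  | tmul w h =>
    rw [bc_tmul, ex_tmul, ex_tmul, map_mul, AlgHom.comp_apply, sg_κ]
    rfl

/-- `V = W ∩ K` -/
lemma exists_of_eq (k : K) (w : integralClosure V L) (h : algebraMap K L k = algebraMap (integralClosure V L) L w) :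
    ∃ v : V, algebraMap V K v = k := by
  have hic := K552.VlSt.isIntegrallyClosed V
  have h2 : IsIntegral V k := by
    have h3 : IsIntegral V (algebraMap (integralClosure V L) L w) := w.2
    rw [← h] at h3
    exact (isIntegral_algebraMap_iff (algebraMap K L).injective).mp h3
  exact IsIntegrallyClosed.algebraMap_eq_of_integral h2

theorem exists_desc (g : GBasis (integralClosure V L) (integralClosure V L ⊗[V] H) M) [Module.FaithfullyFlat V U]
    (m : WithConv (H →ₐ[V] K ⊗[V] U)) (a : WithConv (H →ₐ[V] U ⊗[V] U))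
    (hm : toConv ((P₁ V K U).comp m.ofConv) =
      toConv ((Algebra.TensorProduct.includeRight : U ⊗[V] U →ₐ[V] K ⊗[V] (U ⊗[V] U)).comp a.ofConv) *
        toConv ((P₂ V K U).comp m.ofConv)) (μ : M) :
    ∃ c : integralClosure V L ⊗[V] (U ⊗[V] U),
      P₁ V L U (ex (integralClosure V L) ((κ V K L U).comp m.ofConv) (g.b μ)) =
        ι V (integralClosure V L) L (U ⊗[V] U) c *
          P₂ V L U (ex (integralClosure V L) ((κ V K L U).comp m.ofConv) (g.b μ)) := by
  have hfr : IsFractionRing (integralClosure V L) L := integralClosure.isFractionRing_of_finite_extension K L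
  refine ⟨ex (integralClosure V L) ((Algebra.TensorProduct.includeRight :
    U ⊗[V] U →ₐ[V] integralClosure V L ⊗[V] (U ⊗[V] U)).comp a.ofConv) (g.b μ), ?_⟩
  have h1 : (P₁ V L U).comp ((κ V K L U).comp m.ofConv) = (κ V K L (U ⊗[V] U)).comp ((P₁ V K U).comp m.ofConv) := by
    rw [← AlgHom.comp_assoc, ← AlgHom.comp_assoc]
    congr 1
    ext x <;> simp [P₁, κ]
  have h2 : (P₂ V L U).comp ((κ V K L U).comp m.ofConv) = (κ V K L (U ⊗[V] U)).comp ((P₂ V K U).comp m.ofConv) := by
    rw [← AlgHom.comp_assoc, ← AlgHom.comp_assoc]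
    congr 1
    ext x <;> simp [P₂, κ]
  have h3 : (ι V (integralClosure V L) L (U ⊗[V] U)).comp ((Algebra.TensorProduct.includeRight :
      U ⊗[V] U →ₐ[V] integralClosure V L ⊗[V] (U ⊗[V] U)).comp a.ofConv) =
      (κ V K L (U ⊗[V] U)).comp ((Algebra.TensorProduct.includeRight : U ⊗[V] U →ₐ[V] K ⊗[V] (U ⊗[V] U)).comp
        a.ofConv) := by
    rw [← AlgHom.comp_assoc, ← AlgHom.comp_assoc]
    congr 1
    ext x <;> simp [ι, κ]
  rw [ex_nat (P₁ V L U) (fun w => rfl), ex_nat (P₂ V L U) (fun w => rfl),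
    ex_nat (ι V (integralClosure V L) L (U ⊗[V] U)) (fun w => rfl), h1, h2, h3]
  have h4 := congrArg (fun x => (κ V K L (U ⊗[V] U)).comp (ofConv x)) hm
  simp only at h4
  rw [h4, comp_conv]
  exact ex_gl _ _ _ (g.gl μ)

/-- an equivariant family of generators -/
theorem exists_psi [Algebra.Etale V (integralClosure V L)] [Module.Finite V (integralClosure V L)]
    (g : GBasis (integralClosure V L) (integralClosure V L ⊗[V] H) M) [Group.FG M] [Module.FaithfullyFlat V U]
    (m : WithConv (H →ₐ[V] K ⊗[V] U)) (a : WithConv (H →ₐ[V] U ⊗[V] U))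
    (hm : toConv ((P₁ V K U).comp m.ofConv) =
      toConv ((Algebra.TensorProduct.includeRight : U ⊗[V] U →ₐ[V] K ⊗[V] (U ⊗[V] U)).comp a.ofConv) *
        toConv ((P₂ V K U).comp m.ofConv)) :
    ∃ ψ : M →* Lˣ, (∀ (σ : L ≃ₐ[K] L) (μ : M),
        ((ψ (act g (MulSemiringAction.toAlgHom V (integralClosure V L) σ) μ) : Lˣ) : L) = σ (ψ μ : L)) ∧
      ∀ μ, ∃ ω : (integralClosure V L ⊗[V] U)ˣ, ((ψ μ : Lˣ) : L) ⊗ₜ[V] (1 : U) =
        ι V (integralClosure V L) L U ω * ex (integralClosure V L) ((κ V K L U).comp m.ofConv) (g.b μ) := by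
  have hfr : IsFractionRing (integralClosure V L) L := integralClosure.isFractionRing_of_finite_extension K L
  have hst := K552.VlSt.st (V := V) (K := K) (L := L)
  have hbez : IsBezout (integralClosure V L) := K552.VlVal.isBezout hst
  have hflat : Module.Flat V U := inferInstance
  let act : MulDistribMulAction (L ≃ₐ[K] L) M := action g (L ≃ₐ[K] L)
  have hact : ∀ (σ : L ≃ₐ[K] L) (μ : M),
      bc H (MulSemiringAction.toAlgHom V (integralClosure V L) σ) (g.b μ) = g.b (σ • μ) := fun σ μ => bc_b g _ μ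
  have hff : Module.FaithfullyFlat (integralClosure V L) (integralClosure V L ⊗[V] U) := inferInstance
  have hnt : Nontrivial (integralClosure V L ⊗[V] U) :=
    (FaithfulSMul.algebraMap_injective (integralClosure V L) (integralClosure V L ⊗[V] U)).nontrivial
  -- the values of `m` at the characters
  let F : integralClosure V L ⊗[V] H →ₐ[integralClosure V L] L ⊗[V] U :=
    ex (integralClosure V L) ((κ V K L U).comp m.ofConv)
  have hFmul : ∀ μ ν, F (g.b (μ * ν)) = F (g.b μ) * F (g.b ν) := fun μ ν => by rw [g.mul, map_mul]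
  have hFinv : ∀ μ, F (g.b μ) * F (g.b μ⁻¹) = 1 := fun μ => by
    rw [← hFmul, mul_inv_cancel, g.one, map_one]
  let u : M → (L ⊗[V] U)ˣ := fun μ => ⟨F (g.b μ), F (g.b μ⁻¹), hFinv μ, by rw [mul_comm, hFinv]⟩
  have hu : ∀ μ, (u μ : L ⊗[V] U) = F (g.b μ) := fun _ => rfl
  -- the descent condition
  have hc := exists_desc g m a hm
  choose c hc using hc
  have hd := fun μ => exists_unit_mul (u μ) (c μ) (hc μ)
  choose d ω hd using hd
  let iL : Lˣ →* (L ⊗[V] U)ˣ := Units.map (Algebra.TensorProduct.includeLeft : L →ₐ[V] L ⊗[V] U)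
  let iW : (integralClosure V L ⊗[V] U)ˣ →* (L ⊗[V] U)ˣ := Units.map (ι V (integralClosure V L) L U)
  have hiL : ∀ x : Lˣ, (iL x : L ⊗[V] U) = (x : L) ⊗ₜ[V] 1 := fun _ => rfl
  have hiW : ∀ x : (integralClosure V L ⊗[V] U)ˣ, (iW x : L ⊗[V] U) = ι V (integralClosure V L) L U x := fun _ => rfl
  have hd' : ∀ μ, iL (d μ) = iW (ω μ) * u μ := fun μ => Units.ext (hd μ)
  have humul : ∀ μ ν, u (μ * ν) = u μ * u ν := fun μ ν => Units.ext (hFmul μ ν)
  have hmul : ∀ μ ν, ∃ w : (integralClosure V L)ˣ,
      (d (μ * ν) : L) = algebraMap (integralClosure V L) L w * (d μ * d ν) := by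
    intro μ ν
    obtain ⟨w, hw⟩ := exists_unit_of_tmul (V := V) (W := integralClosure V L) (U := U)
      (d (μ * ν) / (d μ * d ν)) (ω (μ * ν) / (ω μ * ω ν)) (by
      rw [← hiL, ← hiW]
      congr 1
      rw [map_div, map_mul, hd', hd', hd', humul, map_div, map_mul, mul_mul_mul_comm, mul_div_mul_right_eq_div])
    refine ⟨w, ?_⟩
    rw [hw, ← Units.val_mul, ← Units.val_mul, div_mul_cancel]
  have hsm : ∀ (σ : L ≃ₐ[K] L) (μ : M), ∃ w : (integralClosure V L)ˣ,
      (d (σ • μ) : L) = algebraMap (integralClosure V L) L w * σ • (d μ : L) := by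
    intro σ μ
    let σ' : (integralClosure V L ⊗[V] U) →ₐ[V] (integralClosure V L ⊗[V] U) :=
      Algebra.TensorProduct.map (MulSemiringAction.toAlgHom V (integralClosure V L) σ) (AlgHom.id V U)
    have h1 : iL (Units.map (σ : L →* L) (d μ)) = iW (Units.map (σ' : _ →* _) (ω μ)) * u (σ • μ) := by
      apply Units.ext
      have h2 := congrArg (sg (V := V) U σ) (hd μ)
      rw [sg_tmul, map_mul] at h2
      have h3 : sg (V := V) U σ (u μ) = u (σ • μ) := by
        change sg U σ (ex (integralClosure V L) ((κ V K L U).comp m.ofConv) (g.b μ)) =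
          ex (integralClosure V L) ((κ V K L U).comp m.ofConv) (g.b (σ • μ))
        rw [sg_ex, hact]
      have h4 : ∀ z, sg (V := V) U σ (ι V (integralClosure V L) L U z) = ι V (integralClosure V L) L U (σ' z) := by
        intro z
        induction z with
        | zero => simp
        | add a b ha hb => rw [map_add, map_add, map_add, map_add, ha, hb]
        | tmul w x => rfl
      rw [h3, h4] at h2
      exact h2
    obtain ⟨w, hw⟩ := exists_unit_of_tmul (V := V) (W := integralClosure V L) (U := U)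
      (d (σ • μ) / (Units.map (σ : L →* L) (d μ))) (ω (σ • μ) / (Units.map (σ' : _ →* _) (ω μ))) (by
      rw [← hiL, ← hiW]
      congr 1
      rw [map_div, hd', h1, map_div, mul_div_mul_right_eq_div])
    refine ⟨w, ?_⟩
    have h5 : σ • (d μ : L) = ((Units.map (σ : L →* L) (d μ) : Lˣ) : L) := rfl
    rw [hw, h5, ← Units.val_mul, div_mul_cancel]
  obtain ⟨ψ, hψ1, hψ2⟩ := K552.VlVal.exists_lift hst d hmul hsm
  refine ⟨ψ, hψ1, fun μ => ?_⟩
  obtain ⟨w, hw⟩ := hψ2 μ
  refine ⟨Units.map (algebraMap (integralClosure V L) (integralClosure V L ⊗[V] U) : _ →* _) w * ω μ, ?_⟩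
  have h2 : ψ μ = Units.map (algebraMap (integralClosure V L) L : _ →* _) w * d μ := Units.ext hw
  rw [← hiL, h2, map_mul, hd']
  rw [Units.val_mul, Units.val_mul, Units.val_mul, map_mul, _root_.mul_assoc]
  rfl

set_option maxHeartbeats 800000 in
/-- the factorization from an equivariant family of generators -/
theorem exists_of_psi [Algebra.Etale V (integralClosure V L)] [Module.Finite V (integralClosure V L)]
    (g : GBasis (integralClosure V L) (integralClosure V L ⊗[V] H) M) [Module.FaithfullyFlat V U]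
    (m : WithConv (H →ₐ[V] K ⊗[V] U)) (ψ : M →* Lˣ)
    (hψ1 : ∀ (σ : L ≃ₐ[K] L) (μ : M),
        ((ψ (act g (MulSemiringAction.toAlgHom V (integralClosure V L) σ) μ) : Lˣ) : L) = σ (ψ μ : L))
    (hψ2 : ∀ μ, ∃ ω : (integralClosure V L ⊗[V] U)ˣ, ((ψ μ : Lˣ) : L) ⊗ₜ[V] (1 : U) =
        ι V (integralClosure V L) L U ω * ex (integralClosure V L) ((κ V K L U).comp m.ofConv) (g.b μ)) :
    ∃ (φ : WithConv (H →ₐ[V] K)) (m' : WithConv (H →ₐ[V] U)),
      toConv ((Algebra.TensorProduct.includeLeft : K →ₐ[V] K ⊗[V] U).comp φ.ofConv) * m =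
        toConv ((Algebra.TensorProduct.includeRight : U →ₐ[V] K ⊗[V] U).comp m'.ofConv) := by
  have hfr : IsFractionRing (integralClosure V L) L := integralClosure.isFractionRing_of_finite_extension K L
  have hflat : Module.Flat V U := inferInstance
  -- the point over `L`
  let ψ' : M →* L := (Units.coeHom L).comp (ψ⁻¹)
  have hψ' : ∀ μ, ψ' μ = ((ψ μ)⁻¹ : Lˣ) := fun _ => rfl
  let Ψ : integralClosure V L ⊗[V] H →ₐ[integralClosure V L] L :=
    (MonoidAlgebra.lift (integralClosure V L) L M ψ').comp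
      (g.bialgEquiv.symm : integralClosure V L ⊗[V] H ≃ₐ[integralClosure V L] _).toAlgHom
  have hΨ : ∀ μ, Ψ (g.b μ) = ((ψ μ)⁻¹ : Lˣ) := by
    intro μ
    have h1 : g.bialgEquiv.symm (g.b μ) = MonoidAlgebra.single μ 1 := by
      have h2 : g.b μ = g.bialgEquiv (MonoidAlgebra.single μ 1) := by rw [g.bialgEquiv_single, one_smul]
      rw [h2]
      exact g.bialgEquiv.symm_apply_apply _
    change MonoidAlgebra.lift (integralClosure V L) L M ψ' (g.bialgEquiv.symm (g.b μ)) = _
    rw [h1, MonoidAlgebra.lift_single, one_smul, hψ']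
  have hΨσ : ∀ (σ : L ≃ₐ[K] L) (z : integralClosure V L ⊗[V] H),
      Ψ (bc H (MulSemiringAction.toAlgHom V (integralClosure V L) σ) z) = σ (Ψ z) := by
    intro σ z
    have hz : z ∈ Submodule.span (integralClosure V L) (Set.range g.b) := by
      rw [g.b.span_eq]
      trivial
    induction hz using Submodule.span_induction with
    | mem x hx =>
      obtain ⟨μ, rfl⟩ := hx
      rw [bc_b g, hΨ, hΨ, Units.val_inv_eq_inv_val, Units.val_inv_eq_inv_val, hψ1, map_inv₀]
    | zero => simp
    | add x y _ _ hx hy => rw [map_add, map_add, map_add, map_add, hx, hy]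
    | smul w x _ hx =>
      rw [bc_smul, map_smul, map_smul, hx, Algebra.smul_def, Algebra.smul_def, map_mul]
      rfl
  obtain ⟨φ, hφ⟩ := exists_factor (IsScalarTower.toAlgHom V K L) (algebraMap K L).injective
    ((Ψ.restrictScalars V).comp (Algebra.TensorProduct.includeRight : H →ₐ[V] integralClosure V L ⊗[V] H)) (by
      intro h
      have h1 : Ψ (1 ⊗ₜ h) ∈ (⊥ : IntermediateField K L) := by
        rw [IsGalois.mem_bot_iff_fixed]
        intro σ
        rw [← hΨσ, bc_tmul, map_one]
      rw [IntermediateField.mem_bot] at h1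
      exact h1)
  have hφ' : ∀ h, algebraMap K L (φ h) = Ψ (1 ⊗ₜ h) := fun h => congrArg (fun f => f h) hφ
  -- the product
  set n : WithConv (H →ₐ[V] K ⊗[V] U) :=
    toConv ((Algebra.TensorProduct.includeLeft : K →ₐ[V] K ⊗[V] U).comp φ) * m with hn
  have hΨex : ∀ z, ex (integralClosure V L) ((κ V K L U).comp
      ((Algebra.TensorProduct.includeLeft : K →ₐ[V] K ⊗[V] U).comp φ)) z = Ψ z ⊗ₜ 1 := by
    intro z
    induction z with
    | zero => simp
    | add a b ha hb => rw [map_add, map_add, ha, hb, TensorProduct.add_tmul]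
    | tmul w h =>
      have h1 : w ⊗ₜ[V] h = w • ((1 : integralClosure V L) ⊗ₜ[V] h) := by
        rw [TensorProduct.smul_tmul', smul_eq_mul, mul_one]
      rw [ex_tmul, h1, map_smul, Algebra.smul_def, ← hφ']
      change (algebraMap _ L w ⊗ₜ[V] (1 : U)) * κ V K L U (φ h ⊗ₜ 1) = _
      rw [κ_tmul, Algebra.TensorProduct.tmul_mul_tmul, one_mul]
  have hnz : ∀ z : integralClosure V L ⊗[V] H, ∃ b, ex (integralClosure V L) ((κ V K L U).comp n.ofConv) z =
      ι V (integralClosure V L) L U b := by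
    intro z
    have hz : z ∈ Submodule.span (integralClosure V L) (Set.range g.b) := by
      rw [g.b.span_eq]
      trivial
    induction hz using Submodule.span_induction with
    | mem x hx =>
      obtain ⟨μ, rfl⟩ := hx
      obtain ⟨w, hw⟩ := hψ2 μ
      refine ⟨((w⁻¹ : (integralClosure V L ⊗[V] U)ˣ) : integralClosure V L ⊗[V] U), ?_⟩
      rw [hn, comp_conv]
      refine (ex_gl _ _ _ (g.gl μ)).trans ?_
      rw [ofConv_toConv, ofConv_toConv, hΨex, hΨ]
      have h3 : IsUnit (ι V (integralClosure V L) L U w) := w.isUnit.map _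
      apply h3.mul_left_cancel
      rw [← map_mul, Units.mul_inv, map_one, mul_left_comm, ← hw, Algebra.TensorProduct.tmul_mul_tmul,
        Units.inv_mul, _root_.one_mul]
      rfl
    | zero => exact ⟨0, by simp⟩
    | add x y _ _ hx hy =>
      obtain ⟨b, hb⟩ := hx
      obtain ⟨b', hb'⟩ := hy
      exact ⟨b + b', by rw [map_add, map_add, hb, hb']⟩
    | smul w x _ hx =>
      obtain ⟨b, hb⟩ := hx
      refine ⟨(w ⊗ₜ 1) * b, ?_⟩
      rw [map_smul, hb, map_mul, ι_tmul, Algebra.smul_def]
      rfl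
  obtain ⟨m', hm'⟩ := exists_factor (Algebra.TensorProduct.includeRight : U →ₐ[V] K ⊗[V] U)
    (Algebra.TensorProduct.includeRight_injective (IsFractionRing.injective V K)) n.ofConv (by
      intro h
      obtain ⟨b, hb⟩ := hnz (1 ⊗ₜ h)
      rw [ex_tmul, map_one, _root_.one_mul] at hb
      exact exists_of_κ_eq (V := V) (W := integralClosure V L) (L := L) exists_of_eq _ b hb)
  refine ⟨toConv φ, toConv m', ?_⟩
  rw [ofConv_toConv, ofConv_toConv, hm']

end core

set_option maxHeartbeats 1600000 in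
/-- **The core.** -/
theorem core (V : Type u) [CommRing V] [IsDomain V] [ValuationRing V] (H : Type u) [CommRing H] [HopfAlgebra V H]
    [Algebra.FiniteType V H] (hH : SGA3b.IsMultType V H) (U : Type u) [CommRing U] [Algebra V U]
    [Module.FaithfullyFlat V U]
    (m : WithConv (H →ₐ[V] FractionRing V ⊗[V] U)) (a : WithConv (H →ₐ[V] U ⊗[V] U))
    (hm : toConv ((P₁ V (FractionRing V) U).comp m.ofConv) =
      toConv ((Algebra.TensorProduct.includeRight : U ⊗[V] U →ₐ[V] FractionRing V ⊗[V] (U ⊗[V] U)).comp a.ofConv) *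
        toConv ((P₂ V (FractionRing V) U).comp m.ofConv)) :
    ∃ (φ : WithConv (H →ₐ[V] FractionRing V)) (m' : WithConv (H →ₐ[V] U)),
      toConv ((Algebra.TensorProduct.includeLeft : FractionRing V →ₐ[V] FractionRing V ⊗[V] U).comp φ.ofConv) * m =
        toConv ((Algebra.TensorProduct.includeRight : U →ₐ[V] FractionRing V ⊗[V] U).comp m'.ofConv) := by
  have hic := K552.VlSt.isIntegrallyClosed V
  obtain ⟨R', _, _, _, _, _, hdiag⟩ := Groth.Agent.S16173.result V H inferInstance hH
  have : Nontrivial R' := (FaithfulSMul.algebraMap_injective V R').nontrivial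
  obtain ⟨L, _, _, _, _, _, _, _, _, ⟨f⟩⟩ := K552.VlGal.exists_galois (V := V) R'
  obtain ⟨M, _, ⟨e⟩⟩ := hdiag
  let g₀ := GBasis.ofBialgEquiv e
  have hft' : Algebra.FiniteType R' (R' ⊗[V] H) := inferInstance
  have hfg : Group.FG M := Groth.Agent.Sga3A.MTConst.fg_of_gbasis g₀
  obtain ⟨ψ, h1, h2⟩ := exists_psi (K := FractionRing V) (g₀.bc f) m a hm
  exact exists_of_psi (K := FractionRing V) (g₀.bc f) m ψ h1 h2

end K552.VlCore
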