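import Mathlib.RingTheory.Flat.Basic
import Mathlib.RingTheory.Flat.Stability
import Mathlib.RingTheory.PrincipalIdealDomain
import Mathlib.RingTheory.Localization.FractionRing
import Mathlib.RingTheory.TensorProduct.Maps
import Mathlib.RingTheory.Flat.Localization

/-!
# Descent of invertible fractional ideals over a Bezout domain

Let `W` be a Bezout domain with fraction field `L`, an algebra over `V`, and `U` a flat `V`-algebra. A unit `u` of
`L ⊗ U` whose two images in `L ⊗ (U ⊗ U)` differ by an element of `W ⊗ (U ⊗ U)` is the product of a unit of `W ⊗ U` and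
an element of `L`.
-/

set_option autoImplicit false
set_option linter.unusedSectionVars false
universe u

open TensorProduct

namespace K552.VlDesc

/-- Descent of a principal ideal along a flat algebra. -/
theorem mem_map_comap {W B : Type*} [CommRing W] [CommRing B] [Algebra W B] [Module.Flat W B] (b : B)
    (c : B ⊗[W] B) (hc : b ⊗ₜ[W] (1 : B) = c * ((1 : B) ⊗ₜ b)) :
    b ∈ ((Ideal.span {b}).comap (algebraMap W B)).map (algebraMap W B) := by
  set 𝔞 : Ideal W := (Ideal.span {b}).comap (algebraMap W B) with h𝔞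
  let Q := B ⧸ (Ideal.span {b} : Ideal B)
  let g : W →ₗ[W] Q := (Ideal.Quotient.mkₐ W (Ideal.span {b})).toLinearMap.comp (Algebra.linearMap W B)
  have hg : ∀ w, g w = Ideal.Quotient.mk (Ideal.span {b}) (algebraMap W B w) := fun w => rfl
  have hex : Function.Exact (Submodule.subtype 𝔞) g := by
    rw [LinearMap.exact_iff, Submodule.range_subtype]
    ext w
    rw [LinearMap.mem_ker, hg, Ideal.Quotient.eq_zero_iff_mem]
    rfl
  have hex' := Module.Flat.lTensor_exact B hex
  have h1 : (g.lTensor B) (b ⊗ₜ (1 : W)) = 0 := by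
    let q : B →ₗ[W] Q := (Ideal.Quotient.mkₐ W (Ideal.span {b})).toLinearMap
    have h2 : (g.lTensor B) (b ⊗ₜ (1 : W)) = (q.lTensor B) (b ⊗ₜ (1 : B)) := by
      rw [LinearMap.lTensor_tmul, LinearMap.lTensor_tmul, hg, map_one]
      rfl
    have h3 : ∀ c : B ⊗[W] B, (q.lTensor B) (c * ((1 : B) ⊗ₜ b)) = 0 := by
      intro c
      induction c with
      | zero => simp
      | add x y hx hy => rw [add_mul, map_add, hx, hy, add_zero]
      | tmul x y =>
        rw [Algebra.TensorProduct.tmul_mul_tmul, LinearMap.lTensor_tmul]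
        have : q (y * b) = 0 := by
          change Ideal.Quotient.mk (Ideal.span {b}) (y * b) = 0
          rw [Ideal.Quotient.eq_zero_iff_mem]
          exact Ideal.mul_mem_left _ _ (Ideal.mem_span_singleton_self b)
        rw [this, tmul_zero]
    rw [h2, hc, h3]
  obtain ⟨t, ht⟩ := (hex' _).mp h1
  have h2 : b = TensorProduct.rid W B ((Submodule.subtype 𝔞).lTensor B t) := by
    rw [ht]
    simp
  rw [h2]
  clear ht h2
  induction t with
  | zero => simp
  | add x y hx hy =>
    rw [map_add, map_add]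
    exact add_mem hx hy
  | tmul x a =>
    rw [LinearMap.lTensor_tmul, TensorProduct.rid_tmul, Algebra.smul_def]
    exact Ideal.mul_mem_right _ _ (Ideal.mem_map_of_mem _ a.2)

/-- Over a Bezout domain the descended ideal is principal. -/
theorem exists_gen {W B : Type*} [CommRing W] [IsDomain W] [IsBezout W] [CommRing B] [Algebra W B] [Module.Flat W B]
    (b : B) (hb : b ∈ nonZeroDivisors B)
    (c : B ⊗[W] B) (hc : b ⊗ₜ[W] (1 : B) = c * ((1 : B) ⊗ₜ b)) : ∃ (d : W) (ω : Bˣ), algebraMap W B d = ω * b := by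
  have h1 := mem_map_comap b c hc
  rw [Ideal.map, Ideal.span, Submodule.mem_span_iff_exists_finset_subset] at h1
  obtain ⟨f, s, hs, -, hsum⟩ := h1
  have h2 : ∀ x ∈ s, ∃ a ∈ (Ideal.span {b}).comap (algebraMap W B), algebraMap W B a = x := fun x hx => hs hx
  choose! a ha hax using h2
  classical
  let J : Ideal W := Ideal.span ((s.image a : Finset W) : Set W)
  have hJ : J.IsPrincipal := IsBezout.isPrincipal_of_FG J ⟨_, rfl⟩
  obtain ⟨d, hd⟩ := hJ
  have hJle : J ≤ (Ideal.span {b}).comap (algebraMap W B) := by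
    rw [Ideal.span_le]
    intro x hx
    rw [Finset.mem_coe, Finset.mem_image] at hx
    obtain ⟨y, hy, rfl⟩ := hx
    exact ha y hy
  have hdJ : d ∈ J := by
    rw [hd]
    exact Submodule.mem_span_singleton_self d
  obtain ⟨x, hx⟩ : b ∣ algebraMap W B d := Ideal.mem_span_singleton.mp (hJle hdJ)
  obtain ⟨y, hy⟩ : algebraMap W B d ∣ b := by
    rw [← hsum]
    refine Finset.dvd_sum fun z hz => ?_
    rw [smul_eq_mul]
    refine Dvd.dvd.mul_left ?_ _
    rw [← hax z hz]
    have h3 : a z ∈ J := Ideal.subset_span (by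
      rw [Finset.mem_coe, Finset.mem_image]
      exact ⟨z, hz, rfl⟩)
    rw [hd, ← Ideal.span, Ideal.mem_span_singleton] at h3
    exact map_dvd _ h3
  have hxy : x * y = 1 := by
    have h3 : b * (x * y) = b * 1 := by
      rw [← mul_assoc, ← hx, ← hy, mul_one]
    exact (mul_cancel_left_mem_nonZeroDivisors hb).mp h3
  exact ⟨d, ⟨x, y, hxy, by rw [mul_comm, hxy]⟩, by rw [hx, mul_comm]⟩

variable {V W L U : Type*} [CommRing V] [CommRing W] [IsDomain W] [Algebra V W] [Field L] [Algebra V L] [Algebra W L]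
  [IsScalarTower V W L] [IsFractionRing W L] [CommRing U] [Algebra V U] [Module.Flat V U]

variable (V W L U) in
/-- `W ⊗ U → L ⊗ U` -/
noncomputable def ι : W ⊗[V] U →ₐ[V] L ⊗[V] U :=
  Algebra.TensorProduct.map (IsScalarTower.toAlgHom V W L) (AlgHom.id V U)

@[simp] lemma ι_tmul (w : W) (x : U) : ι V W L U (w ⊗ₜ x) = algebraMap W L w ⊗ₜ x := by
  simp [ι]

lemma ι_injective : Function.Injective (ι V W L U) :=
  Module.Flat.rTensor_preserves_injective_linearMap (M := U) (IsScalarTower.toAlgHom V W L).toLinearMap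
    (IsFractionRing.injective W L)

variable (V L U) in
/-- `L ⊗ U → L ⊗ (U ⊗ U)`, first factor -/
noncomputable def P₁ : L ⊗[V] U →ₐ[V] L ⊗[V] (U ⊗[V] U) :=
  Algebra.TensorProduct.map (AlgHom.id V L) Algebra.TensorProduct.includeLeft

variable (V L U) in
/-- `L ⊗ U → L ⊗ (U ⊗ U)`, second factor -/
noncomputable def P₂ : L ⊗[V] U →ₐ[V] L ⊗[V] (U ⊗[V] U) :=
  Algebra.TensorProduct.map (AlgHom.id V L) Algebra.TensorProduct.includeRight

/-- common denominators -/
lemma exists_denom (u : L ⊗[V] U) : ∃ (q : W) (_ : q ≠ 0) (b : W ⊗[V] U),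
    ι V W L U b = (algebraMap W L q ⊗ₜ 1) * u := by
  induction u with
  | zero => exact ⟨1, one_ne_zero, 0, by simp⟩
  | tmul l x =>
    obtain ⟨p, q, hq, rfl⟩ := IsFractionRing.div_surjective (A := W) l
    refine ⟨q, nonZeroDivisors.ne_zero hq, p ⊗ₜ x, ?_⟩
    rw [ι_tmul, Algebra.TensorProduct.tmul_mul_tmul, one_mul, mul_div_cancel₀]
    exact IsFractionRing.to_map_ne_zero_of_mem_nonZeroDivisors hq
  | add x y hx hy =>
    obtain ⟨q, hq, b, hb⟩ := hx
    obtain ⟨q', hq', b', hb'⟩ := hy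
    refine ⟨q * q', mul_ne_zero hq hq', (q' ⊗ₜ 1) * b + (q ⊗ₜ 1) * b', ?_⟩
    rw [map_add, map_mul, map_mul, ι_tmul, ι_tmul, hb, hb', map_mul]
    have h1 : (algebraMap W L q * algebraMap W L q') ⊗ₜ[V] (1 : U) =
        (algebraMap W L q ⊗ₜ[V] (1 : U)) * (algebraMap W L q' ⊗ₜ[V] (1 : U)) := by
      rw [Algebra.TensorProduct.tmul_mul_tmul, mul_one]
    rw [h1]
    ring

variable (V W U) in
/-- `W ⊗ (U ⊗ U) → (W ⊗ U) ⊗ (W ⊗ U)` -/
noncomputable def θ : W ⊗[V] (U ⊗[V] U) →ₐ[V] (W ⊗[V] U) ⊗[W] (W ⊗[V] U) :=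
  Algebra.TensorProduct.lift (IsScalarTower.toAlgHom V W ((W ⊗[V] U) ⊗[W] (W ⊗[V] U)))
    (Algebra.TensorProduct.lift
      (((Algebra.TensorProduct.includeLeft : (W ⊗[V] U) →ₐ[W] (W ⊗[V] U) ⊗[W] (W ⊗[V] U)).restrictScalars V).comp
        Algebra.TensorProduct.includeRight)
      (((Algebra.TensorProduct.includeRight : (W ⊗[V] U) →ₐ[W] (W ⊗[V] U) ⊗[W] (W ⊗[V] U)).restrictScalars V).comp
        Algebra.TensorProduct.includeRight) (fun _ _ => Commute.all _ _)) (fun _ _ => Commute.all _ _)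

lemma θ_tmul (w : W) (x y : U) : θ V W U (w ⊗ₜ (x ⊗ₜ y)) = (w ⊗ₜ x) ⊗ₜ[W] (1 ⊗ₜ y) := by
  have h1 : algebraMap W ((W ⊗[V] U) ⊗[W] (W ⊗[V] U)) w = (w ⊗ₜ[V] (1 : U)) ⊗ₜ[W] 1 := rfl
  simp only [θ, Algebra.TensorProduct.lift_tmul]
  rw [IsScalarTower.coe_toAlgHom', h1]
  simp

lemma θ_left (b : W ⊗[V] U) :
    θ V W U (Algebra.TensorProduct.map (AlgHom.id V W) Algebra.TensorProduct.includeLeft b) = b ⊗ₜ[W] 1 := by
  induction b with
  | zero => simp
  | add x y hx hy => rw [map_add, map_add, hx, hy, TensorProduct.add_tmul]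
  | tmul w x =>
    rw [Algebra.TensorProduct.map_tmul, AlgHom.id_apply, Algebra.TensorProduct.includeLeft_apply, θ_tmul]
    rfl

lemma θ_right (b : W ⊗[V] U) :
    θ V W U (Algebra.TensorProduct.map (AlgHom.id V W) Algebra.TensorProduct.includeRight b) = 1 ⊗ₜ[W] b := by
  induction b with
  | zero => simp
  | add x y hx hy => rw [map_add, map_add, hx, hy, TensorProduct.tmul_add]
  | tmul w x =>
    rw [Algebra.TensorProduct.map_tmul, AlgHom.id_apply, Algebra.TensorProduct.includeRight_apply, θ_tmul]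
    have h1 : w ⊗ₜ[V] (1 : U) = w • (1 : W ⊗[V] U) := by
      rw [Algebra.TensorProduct.one_def, TensorProduct.smul_tmul', smul_eq_mul, mul_one]
    rw [h1, TensorProduct.smul_tmul, TensorProduct.smul_tmul', smul_eq_mul, mul_one]

/-- **Descent of fractional ideals.** -/
theorem exists_unit_mul [IsBezout W] [Nontrivial (W ⊗[V] U)] (u : (L ⊗[V] U)ˣ) (c : W ⊗[V] (U ⊗[V] U))
    (hc : P₁ V L U u = ι V W L (U ⊗[V] U) c * P₂ V L U u) :
    ∃ (d : Lˣ) (ω : (W ⊗[V] U)ˣ), (d : L) ⊗ₜ[V] (1 : U) = ι V W L U ω * u := by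
  obtain ⟨q, hq, b, hb⟩ := exists_denom (W := W) (u : L ⊗[V] U)
  have hqL : algebraMap W L q ≠ 0 := (map_ne_zero_iff _ (IsFractionRing.injective W L)).mpr hq
  have hqu : IsUnit (algebraMap W L q ⊗ₜ[V] (1 : U)) :=
    (IsUnit.mk0 _ hqL).map (Algebra.TensorProduct.includeLeft : L →ₐ[V] L ⊗[V] U)
  have hbu : IsUnit (ι V W L U b) := by
    rw [hb]
    exact hqu.mul u.isUnit
  have hbn : b ∈ nonZeroDivisors (W ⊗[V] U) := by
    rw [mem_nonZeroDivisors_iff_right]
    intro x hx
    apply ι_injective (V := V) (W := W) (L := L) (U := U)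
    have h1 := congrArg (ι V W L U) hx
    rw [map_mul, map_zero] at h1
    rw [map_zero]
    exact (hbu.mul_left_eq_zero).mp h1
  have h2 : P₁ V L U (ι V W L U b) = ι V W L (U ⊗[V] U) c * P₂ V L U (ι V W L U b) := by
    have h3 : P₁ V L U (algebraMap W L q ⊗ₜ[V] (1 : U)) = P₂ V L U (algebraMap W L q ⊗ₜ[V] (1 : U)) := by
      simp [P₁, P₂, Algebra.TensorProduct.one_def]
    rw [hb, map_mul, map_mul, hc, h3]
    ring
  have h4 : (Algebra.TensorProduct.map (AlgHom.id V W) Algebra.TensorProduct.includeLeft b : W ⊗[V] (U ⊗[V] U)) =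
      c * Algebra.TensorProduct.map (AlgHom.id V W) Algebra.TensorProduct.includeRight b := by
    apply ι_injective (V := V) (W := W) (L := L) (U := U ⊗[V] U)
    have h5 : ∀ b : W ⊗[V] U, ι V W L (U ⊗[V] U) (Algebra.TensorProduct.map (AlgHom.id V W)
        Algebra.TensorProduct.includeLeft b) = P₁ V L U (ι V W L U b) := by
      intro b
      induction b with
      | zero => simp
      | add x y hx hy => simp only [map_add, hx, hy]
      | tmul w x => simp [P₁]
    have h6 : ∀ b : W ⊗[V] U, ι V W L (U ⊗[V] U) (Algebra.TensorProduct.map (AlgHom.id V W)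
        Algebra.TensorProduct.includeRight b) = P₂ V L U (ι V W L U b) := by
      intro b
      induction b with
      | zero => simp
      | add x y hx hy => simp only [map_add, hx, hy]
      | tmul w x => simp [P₂]
    rw [map_mul, h5, h6, h2]
  have h5 := congrArg (θ V W U) h4
  rw [map_mul, θ_left, θ_right] at h5
  obtain ⟨d, ω, hd⟩ := exists_gen b hbn _ h5
  have hd0 : d ≠ 0 := by
    rintro rfl
    rw [map_zero, eq_comm, ω.isUnit.mul_right_eq_zero] at hd
    rw [hd] at hbn
    exact zero_notMem_nonZeroDivisors hbn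
  have hdL : algebraMap W L d ≠ 0 := (map_ne_zero_iff _ (IsFractionRing.injective W L)).mpr hd0
  refine ⟨Units.mk0 (algebraMap W L d / algebraMap W L q) (div_ne_zero hdL hqL), ω, ?_⟩
  apply hqu.mul_left_cancel
  have h6 := congrArg (ι V W L U) hd
  rw [map_mul, hb] at h6
  have h7 : ι V W L U (algebraMap W (W ⊗[V] U) d) = algebraMap W L d ⊗ₜ 1 := by
    change ι V W L U (d ⊗ₜ 1) = _
    rw [ι_tmul]
  rw [h7] at h6
  rw [Units.val_mk0, Algebra.TensorProduct.tmul_mul_tmul, mul_div_cancel₀ _ hqL, one_mul, h6]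
  ring

end K552.VlDesc
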