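import Mathlib.LinearAlgebra.FreeModule.PID
import Mathlib.Algebra.Order.Group.Abs
import Mathlib.Algebra.Order.BigOperators.Group.Finset
import Mathlib.GroupTheory.GroupAction.Quotient
import Mathlib.Algebra.Module.Projective
import Mathlib.Tactic.Linarith
import Mathlib.Algebra.EuclideanDomain.Int
import Mathlib.RingTheory.PrincipalIdealDomain

/-!
# Equivariant lifting along a valuation-like homomorphism

Let `Γ` be a finite group, `L`, `Λ` be `Γ`-modules with `Λ` finitely generated, `Δ` a totally ordered group and `v : L → Δ`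
a homomorphism such that the group of functions `g ↦ v (g z)` on `Γ` is closed under minima (`min`) and such that elements
of `L` whose function is invariant under a subgroup `D` can be corrected to `D`-invariant elements (`fix`). If
`φ : Λ → Δ` is a homomorphism all of whose functions `g ↦ φ (g λ)` are of the form `g ↦ v (g z)`, then `φ` lifts to an
equivariant homomorphism `Λ → L`.
-/

set_option autoImplicit false

namespace K552.VlLat

variable {Γ : Type*} [Group Γ] {L : Type*} [AddCommGroup L] [DistribMulAction Γ L]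
  {Δ : Type*} [AddCommGroup Δ] [LinearOrder Δ] [IsOrderedAddMonoid Δ]

/-- the hypotheses on the homomorphism `v` -/
structure Good (Γ : Type*) [Group Γ] {L : Type*} [AddCommGroup L] [DistribMulAction Γ L]
    {Δ : Type*} [AddCommGroup Δ] [LinearOrder Δ] (v : L →+ Δ) : Prop where
  min : ∀ z w : L, ∃ u : L, ∀ g : Γ, v (g • u) = min (v (g • z)) (v (g • w))
  fix : ∀ (D : Subgroup Γ) (z : L), (∀ d ∈ D, ∀ g : Γ, v (g • d • z) = v (g • z)) →
    ∃ z' : L, (∀ d ∈ D, d • z' = z') ∧ ∀ g : Γ, v (g • z') = v (g • z)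

/-- the group of functions `g ↦ v (g z)` -/
def Im (Γ : Type*) [Group Γ] {L : Type*} [AddCommGroup L] [DistribMulAction Γ L]
    {Δ : Type*} [AddCommGroup Δ] (v : L →+ Δ) : AddSubgroup (Γ → Δ) where
  carrier := {f | ∃ z : L, ∀ g : Γ, f g = v (g • z)}
  zero_mem' := ⟨0, fun g => by simp⟩
  add_mem' := by
    rintro f f' ⟨z, hz⟩ ⟨z', hz'⟩
    exact ⟨z + z', fun g => by simp [hz, hz']⟩
  neg_mem' := by
    rintro f ⟨z, hz⟩
    exact ⟨-z, fun g => by simp [hz]⟩

variable {v : L →+ Δ}

omit [LinearOrder Δ] [IsOrderedAddMonoid Δ] in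
lemma mem_Im {f : Γ → Δ} : f ∈ Im Γ v ↔ ∃ z : L, ∀ g : Γ, f g = v (g • z) := Iff.rfl

omit [LinearOrder Δ] [IsOrderedAddMonoid Δ] in
lemma rt_mem {f : Γ → Δ} (hf : f ∈ Im Γ v) (h : Γ) : (fun g => f (g * h)) ∈ Im Γ v := by
  obtain ⟨z, hz⟩ := hf
  exact ⟨h • z, fun g => by simp [hz, mul_smul]⟩

omit [IsOrderedAddMonoid Δ] in
lemma inf_mem (hv : Good Γ v) {f f' : Γ → Δ} (hf : f ∈ Im Γ v) (hf' : f' ∈ Im Γ v) : f ⊓ f' ∈ Im Γ v := by
  obtain ⟨z, hz⟩ := hf
  obtain ⟨z', hz'⟩ := hf'
  obtain ⟨u, hu⟩ := hv.min z z'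
  exact ⟨u, fun g => by rw [hu, Pi.inf_apply, hz, hz']⟩

lemma sup_mem (hv : Good Γ v) {f f' : Γ → Δ} (hf : f ∈ Im Γ v) (hf' : f' ∈ Im Γ v) : f ⊔ f' ∈ Im Γ v := by
  have h : f ⊔ f' = -(-f ⊓ -f') := by
    funext g
    simp only [Pi.sup_apply, Pi.neg_apply, Pi.inf_apply]
    rcases le_total (f g) (f' g) with h | h
    · rw [sup_eq_right.mpr h, inf_eq_right.mpr (neg_le_neg h), neg_neg]
    · rw [sup_eq_left.mpr h, inf_eq_left.mpr (neg_le_neg h), neg_neg]
  rw [h]
  exact neg_mem (inf_mem hv (neg_mem hf) (neg_mem hf'))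

/-- All values of functions in `Im` are constants in `Im`. -/
theorem const_mem [Finite Γ] (hv : Good Γ v) {f : Γ → Δ} (hf : f ∈ Im Γ v) (x : Γ) : (fun _ => f x) ∈ Im Γ v := by
  classical
  have := Fintype.ofFinite Γ
  -- the minimum of the translates with value at least `f x` at `x`
  let G : Finset Γ := Finset.univ.filter fun h => f x ≤ f (x * h)
  have hG : G.Nonempty := ⟨1, by simp [G]⟩
  let F : Γ → Δ := G.inf' hG fun h g => f (g * h)
  have hF : F ∈ Im Γ v := Finset.inf'_mem (Im Γ v : Set (Γ → Δ)) (fun _ h _ h' => inf_mem hv h h') G hG _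
    fun h _ => rt_mem hf h
  have hFa : ∀ g, F g = G.inf' hG fun h => f (g * h) := fun g => Finset.inf'_apply hG _ g
  have hFx : F x = f x := by
    rw [hFa]
    apply le_antisymm
    · exact (Finset.inf'_le _ (show (1 : Γ) ∈ G by simp [G])).trans (by rw [mul_one])
    · exact Finset.le_inf' _ _ fun h hh => (Finset.mem_filter.mp hh).2
  have hFle : ∀ y, F y ≤ f x := by
    intro y
    by_contra hcon
    push Not at hcon
    have h1 : ∀ h ∈ G, f x < f (y * h) := fun h hh =>
      lt_of_lt_of_le hcon ((hFa y).le.trans (Finset.inf'_le _ hh))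
    have h2 : G.card ≤ (Finset.univ.filter fun g : Γ => f x < f g).card := by
      refine Finset.card_le_card_of_injOn (fun h => y * h) (fun h hh => ?_) (fun a _ b _ e => mul_left_cancel e)
      simpa using h1 h hh
    have h3 : (Finset.univ.filter fun g : Γ => f x < f g).card < (Finset.univ.filter fun g : Γ => f x ≤ f g).card := by
      apply Finset.card_lt_card
      refine ⟨fun g hg => ?_, fun hsub => ?_⟩
      · simp only [Finset.mem_filter, Finset.mem_univ, true_and] at hg ⊢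
        exact hg.le
      · have := hsub (show x ∈ Finset.univ.filter fun g : Γ => f x ≤ f g by simp)
        simp at this
    have h4 : (Finset.univ.filter fun g : Γ => f x ≤ f g).card ≤ G.card := by
      refine Finset.card_le_card_of_injOn (fun g => x⁻¹ * g) (fun g hg => ?_) (fun a _ b _ e => mul_left_cancel e)
      simp only [Finset.coe_filter, Set.mem_ofPred_eq, Finset.mem_univ, true_and] at hg
      simpa [G] using hg
    omega
  -- the maximum of the translates of `F`
  have hU : (Finset.univ : Finset Γ).Nonempty := ⟨1, Finset.mem_univ _⟩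
  let E : Γ → Δ := (Finset.univ : Finset Γ).sup' hU fun h g => F (g * h)
  have hE : E ∈ Im Γ v := Finset.sup'_mem (Im Γ v : Set (Γ → Δ)) (fun _ h _ h' => sup_mem hv h h') _ hU _
    fun h _ => rt_mem hF h
  have hEa : E = fun _ => f x := by
    funext g
    have h1 : E g = (Finset.univ : Finset Γ).sup' hU fun h => F (g * h) := Finset.sup'_apply hU _ g
    rw [h1]
    apply le_antisymm
    · exact Finset.sup'_le _ _ fun h _ => hFle _
    · refine le_trans ?_ (Finset.le_sup' _ (Finset.mem_univ (g⁻¹ * x)))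
      rw [mul_inv_cancel_left, hFx]
  rw [← hEa]
  exact hE

/-- the convex subgroup generated by the differences `f x - f y` -/
def H (v : L →+ Δ) (x y : Γ) : AddSubgroup Δ where
  carrier := {δ | ∃ f ∈ Im Γ v, |δ| ≤ f x - f y}
  zero_mem' := ⟨0, zero_mem _, by simp⟩
  add_mem' := by
    rintro a b ⟨f, hf, h⟩ ⟨f', hf', h'⟩
    refine ⟨f + f', add_mem hf hf', (abs_add_le a b).trans ?_⟩
    rw [Pi.add_apply, Pi.add_apply, add_sub_add_comm]
    exact add_le_add h h'
  neg_mem' := by
    rintro a ⟨f, hf, h⟩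
    exact ⟨f, hf, by rwa [abs_neg]⟩

lemma mem_H {x y : Γ} {δ : Δ} : δ ∈ H v x y ↔ ∃ f ∈ Im Γ v, |δ| ≤ f x - f y := Iff.rfl

/-- convexity -/
def Cvx (K : AddSubgroup Δ) : Prop := ∀ ⦃a b : Δ⦄, a ∈ K → |b| ≤ |a| → b ∈ K

lemma cvx_H (x y : Γ) : Cvx (H v x y) := by
  rintro a b ⟨f, hf, h⟩ hab
  exact ⟨f, hf, hab.trans h⟩

omit [IsOrderedAddMonoid Δ] in
lemma Cvx.total {K K' : AddSubgroup Δ} (h : Cvx K) (h' : Cvx K') : K ≤ K' ∨ K' ≤ K := by
  by_contra hcon
  push Not at hcon
  obtain ⟨h1, h2⟩ := hcon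
  obtain ⟨a, ha, ha'⟩ := Set.not_subset.mp h1
  obtain ⟨b, hb, hb'⟩ := Set.not_subset.mp h2
  rcases le_total |a| |b| with h3 | h3
  · exact ha' (h' hb h3)
  · exact hb' (h ha h3)

lemma sub_mem_H {f : Γ → Δ} (hf : f ∈ Im Γ v) (x y : Γ) : f x - f y ∈ H v x y := by
  rcases le_total 0 (f x - f y) with h | h
  · exact ⟨f, hf, (abs_of_nonneg h).le⟩
  · refine ⟨-f, neg_mem hf, (abs_of_nonpos h).le.trans ?_⟩
    simp

lemma H_self (x : Γ) : H v x x = ⊥ := by
  rw [eq_bot_iff]
  rintro a ⟨f, hf, h⟩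
  rw [sub_self] at h
  simpa using abs_nonpos_iff.mp h

lemma H_comm (x y : Γ) : H v x y = H v y x := by
  have key : ∀ x y : Γ, H v x y ≤ H v y x := by
    rintro x y a ⟨f, hf, h⟩
    exact ⟨-f, neg_mem hf, h.trans (by simp)⟩
  exact le_antisymm (key x y) (key y x)

lemma H_trans {x y z : Γ} {K : AddSubgroup Δ} (hK : Cvx K) (h : H v x y ≤ K) (h' : H v y z ≤ K) : H v x z ≤ K := by
  rintro a ⟨f, hf, ha⟩
  have h1 : f x - f z ∈ K := by
    have : f x - f z = (f x - f y) + (f y - f z) := by abel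
    rw [this]
    exact add_mem (h (sub_mem_H hf x y)) (h' (sub_mem_H hf y z))
  exact hK h1 (ha.trans (le_abs_self _))

lemma H_rt (x y h : Γ) : H v (x * h) (y * h) = H v x y := by
  have key : ∀ x y h : Γ, H v (x * h) (y * h) ≤ H v x y := by
    rintro x y h a ⟨f, hf, ha⟩
    exact ⟨_, rt_mem hf h, ha⟩
  refine le_antisymm (key x y h) ?_
  have := key (x * h) (y * h) h⁻¹
  simpa using this

/-- Bump functions. -/
theorem bump_mem [Finite Γ] (hv : Good Γ v) {T : Set Γ} {b : Δ} (hb : (fun _ : Γ => b) ∈ Im Γ v)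
    (h : ∀ x ∈ T, ∀ y ∉ T, b ∈ H v x y) (f₀ : Γ → Δ) (h₁ : ∀ x ∈ T, f₀ x = b) (h₂ : ∀ x ∉ T, f₀ x = 0) :
    f₀ ∈ Im Γ v := by
  classical
  have := Fintype.ofFinite Γ
  wlog hb0 : 0 ≤ b generalizing b f₀
  · have := this (b := -b) (neg_mem hb) (fun x hx y hy => neg_mem (h x hx y hy)) (-f₀)
      (fun x hx => by rw [Pi.neg_apply, h₁ x hx]) (fun x hx => by rw [Pi.neg_apply, h₂ x hx, neg_zero])
      (neg_nonneg.mpr (not_le.mp hb0).le)
    simpa using neg_mem this
  -- pairs
  have step1 : ∀ x ∈ T, ∀ y ∉ T, ∃ g ∈ Im Γ v, g x = b ∧ g y = 0 ∧ ∀ t, 0 ≤ g t ∧ g t ≤ b := by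
    intro x hx y hy
    obtain ⟨f, hf, hle⟩ := h x hx y hy
    rw [abs_of_nonneg hb0] at hle
    refine ⟨((f - fun _ => f y) ⊔ 0) ⊓ fun _ => b, inf_mem hv (sup_mem hv (sub_mem hf (const_mem hv hf y)) (zero_mem _)) hb,
      ?_, ?_, fun t => ⟨?_, ?_⟩⟩
    · simp only [Pi.inf_apply, Pi.sup_apply, Pi.sub_apply, Pi.zero_apply]
      exact inf_eq_right.mpr (hle.trans le_sup_left)
    · simp [hb0]
    · simp [hb0]
    · simp
  -- one point of `T`
  have step2 : ∀ x ∈ T, ∀ s : Finset Γ, (∀ y ∈ s, y ∉ T) →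
      ∃ g ∈ Im Γ v, g x = b ∧ (∀ y ∈ s, g y = 0) ∧ ∀ t, 0 ≤ g t ∧ g t ≤ b := by
    intro x hx s
    induction s using Finset.induction_on with
    | empty => exact fun _ => ⟨fun _ => b, hb, rfl, by simp, fun t => ⟨hb0, le_rfl⟩⟩
    | insert y s hy ih =>
      intro hs
      obtain ⟨g, hg, hgx, hgs, hgt⟩ := ih fun y hy => hs y (Finset.mem_insert_of_mem hy)
      obtain ⟨g', hg', hgx', hgy', hgt'⟩ := step1 x hx y (hs y (Finset.mem_insert_self _ _))
      refine ⟨g ⊓ g', inf_mem hv hg hg', by simp [hgx, hgx'], fun z hz => ?_, fun t => ?_⟩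
      · rcases Finset.mem_insert.mp hz with rfl | hz
        · rw [Pi.inf_apply, hgy']
          exact inf_eq_right.mpr (hgt z).1
        · rw [Pi.inf_apply, hgs z hz]
          exact inf_eq_left.mpr (hgt' z).1
      · exact ⟨le_inf (hgt t).1 (hgt' t).1, inf_le_left.trans (hgt t).2⟩
  -- all of `T`
  have step3 : ∀ s : Finset Γ, (∀ x ∈ s, x ∈ T) →
      ∃ g ∈ Im Γ v, (∀ x ∈ s, g x = b) ∧ (∀ y ∉ T, g y = 0) ∧ ∀ t, 0 ≤ g t ∧ g t ≤ b := by
    intro s
    induction s using Finset.induction_on with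
    | empty => exact fun _ => ⟨0, zero_mem _, by simp, by simp, fun t => ⟨le_rfl, hb0⟩⟩
    | insert x s hx ih =>
      intro hs
      obtain ⟨g, hg, hgs, hgy, hgt⟩ := ih fun y hy => hs y (Finset.mem_insert_of_mem hy)
      obtain ⟨g', hg', hgx', hgy', hgt'⟩ := step2 x (hs x (Finset.mem_insert_self _ _))
        (Finset.univ.filter fun y => y ∉ T) (by simp)
      refine ⟨g ⊔ g', sup_mem hv hg hg', fun z hz => ?_, fun y hy => ?_, fun t => ?_⟩
      · rcases Finset.mem_insert.mp hz with rfl | hz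
        · rw [Pi.sup_apply, hgx']
          exact sup_eq_right.mpr (hgt z).2
        · rw [Pi.sup_apply, hgs z hz]
          exact sup_eq_left.mpr (hgt' z).2
      · rw [Pi.sup_apply, hgy y hy, hgy' y (by simpa using hy), sup_idem]
      · exact ⟨(hgt t).1.trans le_sup_left, sup_le (hgt t).2 (hgt' t).2⟩
  obtain ⟨g, hg, hgs, hgy, -⟩ := step3 (Finset.univ.filter fun y => y ∈ T) (by simp)
  have : f₀ = g := by
    funext t
    by_cases ht : t ∈ T
    · rw [h₁ t ht, hgs t (by simpa using ht)]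
    · rw [h₂ t ht, hgy t ht]
  rw [this]
  exact hg

/-- Quotients by convex subgroups are torsion free. -/
lemma isAddTorsionFree_quotient {K : AddSubgroup Δ} (hK : Cvx K) : IsAddTorsionFree (Δ ⧸ K) where
  nsmul_right_injective := by
    intro n hn a b hab
    obtain ⟨a, rfl⟩ := QuotientAddGroup.mk_surjective a
    obtain ⟨b, rfl⟩ := QuotientAddGroup.mk_surjective b
    have h1 : ((n • (-a + b) : Δ) : Δ ⧸ K) = 0 := by
      have h2 : n • (a : Δ ⧸ K) = n • (b : Δ ⧸ K) := hab
      rw [QuotientAddGroup.mk_nsmul, QuotientAddGroup.mk_add, QuotientAddGroup.mk_neg, smul_add, smul_neg, h2,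
        neg_add_cancel]
    rw [QuotientAddGroup.eq_zero_iff] at h1
    rw [QuotientAddGroup.eq]
    refine hK h1 ?_
    rw [abs_nsmul]
    exact le_self_nsmul (abs_nonneg _) hn

/-! ### The lifting -/

variable {Λ : Type*} [AddCommGroup Λ] [DistribMulAction Γ Λ]

/-- One step of the lifting: `φ` has values in `K`, and the classes for `K'` are the cosets of the subgroup `D`. -/
theorem step [Finite Γ] [Module.Finite ℤ Λ] (hv : Good Γ v) (φ : Λ →+ Δ) (hφ : ∀ l, (fun g : Γ => φ (g • l)) ∈ Im Γ v)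
    {K K' : AddSubgroup Δ} (hK : ∀ l, φ l ∈ K) (hK' : Cvx K') (D : Subgroup Γ)
    (hD : ∀ d ∈ D, H v d 1 ≤ K') (hD' : ∀ x ∈ D, ∀ y ∉ D, K ≤ H v x y) :
    ∃ ψ : Λ →+ L, (∀ (g : Γ) (l : Λ), ψ (g • l) = g • ψ l) ∧ ∀ l, φ l - v (ψ l) ∈ K' := by
  classical
  -- the quotient of `Λ`
  let q : Λ →+ Δ ⧸ K' := (QuotientAddGroup.mk' K').comp φ
  let F := q.range
  let π : Λ →ₗ[ℤ] F := q.rangeRestrict.toIntLinearMap
  have hπs : Function.Surjective π := q.rangeRestrict_surjective
  have hπ : ∀ l l', π l = π l' ↔ φ l - φ l' ∈ K' := by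
    intro l l'
    have h1 : π l = π l' ↔ q l = q l' := Subtype.ext_iff
    rw [h1]
    change ((φ l : Δ) : Δ ⧸ K') = ((φ l' : Δ) : Δ ⧸ K') ↔ _
    rw [eq_comm, QuotientAddGroup.eq, neg_add_eq_sub]
  have hfin : Module.Finite ℤ F := Module.Finite.of_surjective π hπs
  have htf : IsAddTorsionFree (Δ ⧸ K') := isAddTorsionFree_quotient hK'
  have hfree : Module.Free ℤ F := inferInstance
  obtain ⟨t, ht⟩ := Module.projective_lifting_property π LinearMap.id hπs
  have ht' : ∀ f, π (t f) = f := fun f => LinearMap.congr_fun ht f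
  -- `D`-invariance of `π`
  have hπD : ∀ d ∈ D, ∀ l, π (d • l) = π l := by
    intro d hd l
    rw [hπ]
    have := hD d hd (sub_mem_H (hφ l) d 1)
    simpa using this
  -- elements of `L` over the elements of `F`
  let A : Submodule ℤ (F × L) := AddSubgroup.toIntSubmodule
    { carrier := {p | (∀ d ∈ D, d • p.2 = p.2) ∧ ∀ g : Γ, v (g • p.2) = if g ∈ D then φ (t p.1) else 0}
      zero_mem' := by
        refine ⟨fun d _ => smul_zero d, fun g => ?_⟩
        simp
      add_mem' := by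
        rintro ⟨f, z⟩ ⟨f', z'⟩ ⟨h1, h2⟩ ⟨h1', h2'⟩
        refine ⟨fun d hd => ?_, fun g => ?_⟩
        · change d • (z + z') = z + z'
          rw [smul_add, h1 d hd, h1' d hd]
        · change v (g • (z + z')) = if g ∈ D then φ (t (f + f')) else 0
          rw [smul_add, map_add, h2, h2']
          split_ifs <;> simp
      neg_mem' := by
        rintro ⟨f, z⟩ ⟨h1, h2⟩
        refine ⟨fun d hd => ?_, fun g => ?_⟩
        · change d • (-z) = -z
          rw [smul_neg, h1 d hd]
        · change v (g • (-z)) = if g ∈ D then φ (t (-f)) else 0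
          rw [smul_neg, map_neg, h2]
          split_ifs <;> simp }
  have hA : ∀ p : F × L, p ∈ A ↔
      (∀ d ∈ D, d • p.2 = p.2) ∧ ∀ g : Γ, v (g • p.2) = if g ∈ D then φ (t p.1) else 0 := fun p => Iff.rfl
  let P : A →ₗ[ℤ] F := (LinearMap.fst ℤ F L).comp A.subtype
  have hP : Function.Surjective P := by
    intro f
    have h1 : (fun _ : Γ => φ (t f)) ∈ Im Γ v := by
      have := const_mem hv (hφ (t f)) 1
      simpa using this
    obtain ⟨z, hz⟩ := bump_mem hv h1 (T := (D : Set Γ)) (fun x hx y hy => hD' x hx y hy (hK _))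
      (fun g => if g ∈ D then φ (t f) else 0) (fun x hx => if_pos hx) (fun x hx => if_neg hx)
    obtain ⟨z', hz', hz''⟩ := hv.fix D z (fun d hd g => by
      rw [smul_smul, ← hz, ← hz]
      exact if_congr (Subgroup.mul_mem_cancel_right D hd) rfl rfl)
    exact ⟨⟨(f, z'), (hA _).mpr ⟨hz', fun g => by rw [hz'', ← hz]⟩⟩, rfl⟩
  obtain ⟨σ, hσ⟩ := Module.projective_lifting_property P LinearMap.id hP
  have hσ' : ∀ f, ((σ f : F × L)).1 = f := fun f => LinearMap.congr_fun hσ f
  let Z : Λ →+ L := (((LinearMap.snd ℤ F L).comp A.subtype).comp (σ.comp π)).toAddMonoidHom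
  have hZ : ∀ l, Z l = (σ (π l) : F × L).2 := fun l => rfl
  have hZD : ∀ d ∈ D, ∀ l, Z (d • l) = Z l := fun d hd l => by rw [hZ, hZ, hπD d hd]
  have hZD' : ∀ d ∈ D, ∀ l, d • Z l = Z l := fun d hd l => ((hA _).mp (σ (π l)).2).1 d hd
  have hZv : ∀ (g : Γ) l, v (g • Z l) = if g ∈ D then φ (t (π l)) else 0 := by
    intro g l
    rw [hZ, ((hA _).mp (σ (π l)).2).2 g, hσ']
  -- the sum over the cosets
  have hfq : Finite (Γ ⧸ D) := Quotient.finite _
  have := Fintype.ofFinite (Γ ⧸ D)
  let T : Γ → Λ → L := fun g l => g • Z (g⁻¹ • l)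
  have hT : ∀ (g g' : Γ) (l : Λ), (g : Γ ⧸ D) = (g' : Γ ⧸ D) → T g l = T g' l := by
    intro g g' l h
    rw [QuotientGroup.eq] at h
    obtain ⟨d, hd, rfl⟩ : ∃ d ∈ D, g' = g * d := ⟨_, h, (mul_inv_cancel_left g g').symm⟩
    change g • Z (g⁻¹ • l) = (g * d) • Z ((g * d)⁻¹ • l)
    rw [mul_inv_rev, mul_smul, mul_smul, hZD _ (inv_mem hd), hZD' _ hd]
  let ψ : Λ →+ L := ∑ c : Γ ⧸ D, (DistribSMul.toAddMonoidHom L c.out).comp
    (Z.comp (DistribSMul.toAddMonoidHom Λ c.out⁻¹))
  have hψ : ∀ l, ψ l = ∑ c : Γ ⧸ D, T c.out l := by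
    intro l
    simp [ψ, T, AddMonoidHom.finsetSum_apply]
  refine ⟨ψ, fun g l => ?_, fun l => ?_⟩
  · rw [hψ, hψ, Finset.smul_sum, ← Equiv.sum_comp (MulAction.toPerm g) fun c : Γ ⧸ D => T c.out (g • l)]
    refine Finset.sum_congr rfl fun c _ => ?_
    have h1 : T (g • c : Γ ⧸ D).out (g • l) = T (g * c.out) (g • l) := by
      apply hT
      rw [QuotientGroup.out_eq', ← MulAction.Quotient.coe_smul_out]
      rfl
    change T (g • c : Γ ⧸ D).out (g • l) = _
    rw [h1]
    change (g * c.out) • Z ((g * c.out)⁻¹ • g • l) = g • c.out • Z (c.out⁻¹ • l)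
    rw [mul_smul, mul_inv_rev, mul_smul, inv_smul_smul]
  · have h1 : v (ψ l) = φ (t (π l)) := by
      rw [hψ, map_sum, Finset.sum_eq_single ((1 : Γ) : Γ ⧸ D)]
      · rw [hT _ 1 l (QuotientGroup.out_eq' _)]
        change v ((1 : Γ) • Z ((1 : Γ)⁻¹ • l)) = _
        rw [hZv, if_pos (one_mem D), inv_one, one_smul]
      · intro c _ hc
        change v (c.out • Z (c.out⁻¹ • l)) = 0
        rw [hZv, if_neg]
        intro hmem
        apply hc
        rw [← QuotientGroup.out_eq' c, QuotientGroup.eq]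
        simpa using hmem
      · intro h
        exact absurd (Finset.mem_univ _) h
    rw [h1, ← hπ, ht']

/-- **Equivariant lifting.** -/
theorem exists_lift [Finite Γ] [Module.Finite ℤ Λ] (hv : Good Γ v) (φ : Λ →+ Δ)
    (hφ : ∀ l, (fun g : Γ => φ (g • l)) ∈ Im Γ v) :
    ∃ ψ : Λ →+ L, (∀ (g : Γ) (l : Λ), ψ (g • l) = g • ψ l) ∧ ∀ l, v (ψ l) = φ l := by
  classical
  have := Fintype.ofFinite Γ
  have key : ∀ (n : ℕ) (K : AddSubgroup Δ), Cvx K →
      (Finset.univ.filter fun p : Γ × Γ => H v p.1 p.2 < K).card ≤ n →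
      ∀ φ : Λ →+ Δ, (∀ l, (fun g : Γ => φ (g • l)) ∈ Im Γ v) → (∀ l, φ l ∈ K) →
      ∃ ψ : Λ →+ L, (∀ (g : Γ) (l : Λ), ψ (g • l) = g • ψ l) ∧ ∀ l, v (ψ l) = φ l := by
    intro n
    induction n with
    | zero =>
      intro K _ hn φ _ hK
      have h1 : K = ⊥ := by
        by_contra hne
        have h2 : ((1 : Γ), (1 : Γ)) ∈ Finset.univ.filter fun p : Γ × Γ => H v p.1 p.2 < K := by
          simp only [Finset.mem_filter, Finset.mem_univ, true_and]
          rw [H_self]
          exact bot_lt_iff_ne_bot.mpr hne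
        rw [Nat.le_zero, Finset.card_eq_zero] at hn
        rw [hn] at h2
        simp at h2
      refine ⟨0, fun g l => by simp, fun l => ?_⟩
      have := hK l
      rw [h1, AddSubgroup.mem_bot] at this
      rw [this]
      simp
    | succ n ih =>
      intro K hKc hn φ hφ hK
      by_cases h1 : K = ⊥
      · refine ⟨0, fun g l => by simp, fun l => ?_⟩
        have := hK l
        rw [h1, AddSubgroup.mem_bot] at this
        rw [this]
        simp
      have h2 : ((1 : Γ), (1 : Γ)) ∈ Finset.univ.filter fun p : Γ × Γ => H v p.1 p.2 < K := by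
        simp only [Finset.mem_filter, Finset.mem_univ, true_and]
        rw [H_self]
        exact bot_lt_iff_ne_bot.mpr h1
      obtain ⟨p, hp, hpmax⟩ := Finset.exists_maximalFor (fun p : Γ × Γ => H v p.1 p.2) _ ⟨_, h2⟩
      simp only [Finset.mem_filter, Finset.mem_univ, true_and] at hp
      set K' := H v p.1 p.2 with hK'
      have hK'c : Cvx K' := cvx_H _ _
      have hmax : ∀ x y : Γ, H v x y < K → H v x y ≤ K' := by
        intro x y hxy
        rcases (cvx_H (v := v) x y).total hK'c with h3 | h3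
        · exact h3
        · exact hpmax (j := (x, y)) (by simpa using hxy) h3
      let D : Subgroup Γ :=
        { carrier := {d | H v d 1 ≤ K'}
          one_mem' := by
            change H v 1 1 ≤ K'
            rw [H_self]
            exact bot_le
          mul_mem' := by
            intro a b ha hb
            change H v (a * b) 1 ≤ K'
            refine H_trans hK'c (y := b) ?_ hb
            have := H_rt (v := v) a 1 b
            rw [one_mul] at this
            rw [this]
            exact ha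
          inv_mem' := by
            intro a ha
            change H v a⁻¹ 1 ≤ K'
            have := H_rt (v := v) 1 a a⁻¹
            rw [one_mul, mul_inv_cancel] at this
            rw [this, H_comm]
            exact ha }
      have hDmem : ∀ d, d ∈ D ↔ H v d 1 ≤ K' := fun d => Iff.rfl
      obtain ⟨ψ, hψ, hψv⟩ := step hv φ hφ hK hK'c D (fun d hd => hd) (fun x hx y hy => by
        rcases (hKc).total (cvx_H (v := v) x y) with h3 | h3
        · exact h3
        · rcases h3.eq_or_lt with h4 | h4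
          · exact h4.ge
          · exfalso
            apply hy
            rw [hDmem]
            refine H_trans hK'c (y := x) ?_ hx
            rw [H_comm]
            exact hmax x y h4)
      obtain ⟨ψ', hψ', hψv'⟩ := ih K' hK'c (by
        refine Nat.lt_succ_iff.mp (lt_of_lt_of_le (Finset.card_lt_card ?_) hn)
        refine ⟨fun r hr => ?_, fun hsub => ?_⟩
        · simp only [Finset.mem_filter, Finset.mem_univ, true_and] at hr ⊢
          exact hr.trans hp
        · have := hsub (show p ∈ _ by simpa using hp)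
          simp at this
          exact absurd rfl this.ne) (φ - v.comp ψ) (fun l => by
            have h3 : (fun g : Γ => (φ - v.comp ψ) (g • l)) = (fun g : Γ => φ (g • l)) - fun g : Γ => v (g • ψ l) := by
              funext g
              simp [hψ]
            rw [h3]
            exact sub_mem (hφ l) ⟨ψ l, fun g => rfl⟩) (fun l => hψv l)
      refine ⟨ψ + ψ', fun g l => ?_, fun l => ?_⟩
      · rw [AddMonoidHom.add_apply, AddMonoidHom.add_apply, hψ, hψ', smul_add]
      · rw [AddMonoidHom.add_apply, map_add, hψv']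
        simp
  exact key _ ⊤ (fun (_ _ : Δ) _ _ => AddSubgroup.mem_top _) le_rfl φ hφ fun _ => AddSubgroup.mem_top _

end K552.VlLat
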