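import Groth.Agent.NonAbH1.K552.VlCore
import Groth.Agent.NonAbH1.K552.Push
import Groth.Agent.NonAbH1.K553.FibExt
import Groth.Agent.NonAbH1.K554.Fpqc2

/-!
# Torsors over a valuation ring which become isomorphic over the fraction field

* `val`: the values at points over `S` of a morphism of base changes;
* `twist`: an equivariant isomorphism multiplied by a point of the group (commutative case);
* `nonempty_of_affine`: the algebraic core `VlCore.core` applied to torsors.
-/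

set_option autoImplicit false
universe u

open CategoryTheory CategoryTheory.Limits MonoidalCategory CartesianMonoidalCategory MonObj GrpObj AlgebraicGeometry
open Groth.Agent.Books.BorelOrb Groth.Agent.Books.AffBridge
open K554.Fpqc K552.Push
open TensorProduct WithConv

namespace K552.VlTors

section Value

variable {S D : Scheme.{u}} (c : D ⟶ S) {G P Q : Over S} [GrpObj G]

/-- value of a morphism of base changes at points -/
noncomputable def val (f : Red.bc c P ⟶ Red.bc c Q) {T : Over S} (p : T ⟶ P) (t : T ⟶ Over.mk c) : T ⟶ Q :=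
  (exists_lift_bc (d := c) p t).choose ≫ (Over.map c).map f ≫ bcProj c Q

lemma val_eq (f : Red.bc c P ⟶ Red.bc c Q) {T : Over S} (p : T ⟶ P) (t : T ⟶ Over.mk c)
    (z : T ⟶ (Over.map c).obj (Red.bc c P)) (h1 : z ≫ bcProj c P = p) (h2 : z ≫ proj c (Red.bc c P) = t) :
    val c f p t = z ≫ (Over.map c).map f ≫ bcProj c Q := by
  have h := (exists_lift_bc (d := c) p t).choose_spec
  have : (exists_lift_bc (d := c) p t).choose = z := hom_ext_bc (h.1.trans h1.symm) (h.2.trans h2.symm)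
  rw [val, this]

lemma comp_val (f : Red.bc c P ⟶ Red.bc c Q) {T T' : Over S} (r : T' ⟶ T) (p : T ⟶ P) (t : T ⟶ Over.mk c) :
    r ≫ val c f p t = val c f (r ≫ p) (r ≫ t) := by
  obtain ⟨z, h1, h2⟩ := exists_lift_bc (d := c) p t
  rw [val_eq c f p t z h1 h2, val_eq c f (r ≫ p) (r ≫ t) (r ≫ z) (by rw [Category.assoc, h1])
    (by rw [Category.assoc, h2]), Category.assoc]

variable {a : AlgGrp.Action G P} {b : AlgGrp.Action G Q}

lemma val_sm (f : Red.bc c P ⟶ Red.bc c Q) (hf : AlgGrp.Action.IsEquivariant (a.bc c) (b.bc c) f) {T : Over S}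
    (g : T ⟶ G) (p : T ⟶ P) (t : T ⟶ Over.mk c) : val c f (sm a g p) t = sm b g (val c f p t) := by
  obtain ⟨z, h1, h2⟩ := exists_lift_bc (d := c) p t
  rw [val_eq c f p t z h1 h2, val_eq c f (sm a g p) t (sm (push (a.bc c)) g z) (by rw [sm_push_bc, h1])
    (by rw [sm_push_proj, h2]), ← Category.assoc, (isEquivariant_push_iff (a.bc c) (b.bc c) f).mp hf, sm_push_bc,
    Category.assoc]

lemma dn_injective {T : Over D} {g g' : T ⟶ Red.bc c Q} (h : dn g = dn g') : g = g' := by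
  rw [← up_dn g, h, up_dn]

lemma dn_sm {T : Over D} (g : T ⟶ Red.bc c G) (q : T ⟶ Red.bc c Q) :
    dn (sm (b.bc c) g q) = sm b (dn g) (dn q) := by
  have h := AlgGrp.Action.lift_homEquiv_bc_act c b (dn g) (dn q)
  change sm (b.bc c) (up (dn g)) (up (dn q)) = up (sm b (dn g) (dn q)) at h
  rw [up_dn, up_dn] at h
  rw [h, dn_up]

lemma dn_map {C : Over S} (y : C ⟶ Q) : dn ((Over.pullback c).map y) = bcProj c C ≫ y := by
  ext
  rw [dn_left, Over.comp_left, bcProj_left]
  exact pullback.lift_fst _ _ _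

/-- the base of the base change, over `S` -/
noncomputable def bs : (Over.map c).obj (𝟙_ (Over D)) ⟶ Over.mk c := Over.homMk (𝟙 D) (by
  change 𝟙 D ≫ c = 𝟙 D ≫ c
  rfl)

/-- a point over `D`, as a section of the base change -/
noncomputable def sec (g : Over.mk c ⟶ G) : 𝟙_ (Over D) ⟶ Red.bc c G := up (bs c ≫ g)

omit [GrpObj G] in
lemma dn_sec (g : Over.mk c ⟶ G) (Z : Over D) : dn (toUnit Z ≫ sec c g) = proj c Z ≫ g := by
  rw [comp_dn, sec, dn_up, ← Category.assoc]
  congr 1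

/-- **The matching of points** after modification by a point of `G`. -/
theorem map_eq (hb : NonAbH1.IsPseudoTorsorSch b) {C : Over S} (x : C ⟶ P) (y : C ⟶ Q)
    (f : Red.bc c P ⟶ Red.bc c Q) (g : Over.mk c ⟶ G) (m' : C ⟶ G)
    (h : ∀ {T : Over S} (s : T ⟶ C) (t : T ⟶ Over.mk c),
      (t ≫ g) * dif hb (val c f (s ≫ x) t) (s ≫ y) = s ≫ m') :
    (Over.pullback c).map (sm b m' y) =
      (Over.pullback c).map x ≫ sm (b.bc c) (toUnit _ ≫ sec c g) f := by
  apply dn_injective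
  have h1 : (Over.pullback c).map x ≫ toUnit (Red.bc c P) ≫ sec c g = toUnit _ ≫ sec c g := by
    rw [← Category.assoc]
    congr 1
    exact toUnit_unique _ _
  have h0 : (Over.pullback c).map x ≫ sm (b.bc c) (toUnit _ ≫ sec c g) f =
      sm (b.bc c) ((Over.pullback c).map x ≫ toUnit (Red.bc c P) ≫ sec c g) ((Over.pullback c).map x ≫ f) :=
    comp_sm _ _ _ _
  rw [dn_map, h0, dn_sm]
  have h2 := h (bcProj c C) (proj c (Red.bc c C))
  have h3 : val c f (bcProj c C ≫ x) (proj c (Red.bc c C)) = dn ((Over.pullback c).map x ≫ f) := by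
    rw [val_eq c f _ _ ((Over.map c).map ((Over.pullback c).map x)) (by rw [map_bcProj, dn_map])
      (map_proj _), comp_dn, map_bcProj]
  rw [h3] at h2
  rw [comp_sm, ← h2, mul_sm, sm_dif]
  congr 1
  exact ((congrArg dn h1).trans (dn_sec c g _)).symm

end Value

section Twist

variable {D : Scheme.{u}} {G P Q : Over D} [GrpObj G] {a : AlgGrp.Action G P} {b : AlgGrp.Action G Q}

/-- an equivariant isomorphism multiplied by a point -/
noncomputable def twist (hG : ∀ {T : Over D} (g h : T ⟶ G), g * h = h * g) (e : NonAbH1.EquivIso a b)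
    (g : 𝟙_ (Over D) ⟶ G) : NonAbH1.EquivIso a b where
  iso := {
    hom := sm b (toUnit _ ≫ g) e.iso.hom
    inv := sm a (toUnit _ ≫ g⁻¹) e.iso.inv
    hom_inv_id := by
      have h1 := (isEquivariant_iff b a e.iso.inv).mp (K551.Tors.equivIsoSymm e).comm
      rw [comp_sm, h1, Iso.hom_inv_id, ← mul_sm, ← Category.assoc,
        toUnit_unique (sm b (toUnit P ≫ g) e.iso.hom ≫ toUnit Q) (toUnit P), ← comp_mul, inv_mul_cancel, comp_one,
        one_sm]
    inv_hom_id := by
      have h1 := (isEquivariant_iff a b e.iso.hom).mp e.comm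
      rw [comp_sm, h1, Iso.inv_hom_id, ← mul_sm, ← Category.assoc,
        toUnit_unique (sm a (toUnit Q ≫ g⁻¹) e.iso.inv ≫ toUnit P) (toUnit Q), ← comp_mul, mul_inv_cancel, comp_one,
        one_sm] }
  comm := by
    have h1 := (isEquivariant_iff a b e.iso.hom).mp e.comm
    refine (isEquivariant_iff a b _).mpr fun T k p => ?_
    rw [comp_sm, comp_sm, h1, ← mul_sm, ← mul_sm, ← Category.assoc, ← Category.assoc,
      toUnit_unique (sm a k p ≫ toUnit P) (toUnit T), toUnit_unique (p ≫ toUnit P) (toUnit T), hG]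

end Twist

section Aff

variable {R : Type u} [CommRing R]

/-- an affine scheme over `Spec R` is the spectrum of an algebra -/
lemma exists_iso_specOver (X : Over (Spec (CommRingCat.of R))) [IsAffine X.left] :
    ∃ (D : Type u) (_ : CommRing D) (_ : Algebra R D), Nonempty (X ≅ SpecOver R D) := by
  obtain ⟨φ, hφ⟩ := Spec.map_surjective (X.left.isoSpec.inv ≫ X.hom)
  let _ : Algebra R Γ(X.left, ⊤) := φ.hom.toAlgebra
  refine ⟨Γ(X.left, ⊤), inferInstance, inferInstance, ⟨Over.isoMk X.left.isoSpec ?_⟩⟩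
  change X.left.isoSpec.hom ≫ Spec.map (CommRingCat.ofHom φ.hom) = X.hom
  rw [show CommRingCat.ofHom φ.hom = φ from rfl, hφ, Iso.hom_inv_id_assoc]

lemma faithfullyFlat_of_iso {X : Over (Spec (CommRingCat.of R))} {D : Type u} [CommRing D]
    [Algebra R D] (i : X ≅ SpecOver R D) (h1 : Surjective X.hom) (h2 : Flat X.hom) :
    Module.FaithfullyFlat R D := by
  have h3 : Surjective (SpecOver R D).hom := by
    rw [← Over.w i.inv]
    have : IsIso i.inv.left := (Over.forget _).map_isIso i.inv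
    infer_instance
  have h4 : Flat (SpecOver R D).hom := by
    rw [← Over.w i.inv]
    have : IsIso i.inv.left := (Over.forget _).map_isIso i.inv
    infer_instance
  have h5 : RingHom.FaithfullyFlat (algebraMap R D) := by
    have h6 : Flat (Spec.map (CommRingCat.ofHom (algebraMap R D))) ∧
      Surjective (Spec.map (CommRingCat.ofHom (algebraMap R D))) := ⟨h4, h3⟩
    rwa [flat_and_surjective_SpecMap_iff] at h6
  exact (RingHom.faithfullyFlat_algebraMap_iff).1 h5

end Aff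

section Alg

open Groth.Agent.Sga3B.Hens.Dict K552.VlDesc

variable {V : Type u} [CommRing V] [IsDomain V] [ValuationRing V]
  {G P Q : Over (Spec (CommRingCat.of V))} [GrpObj G] {a : AlgGrp.Action G P} {b : AlgGrp.Action G Q}

/-- the spectrum of the fraction field -/
noncomputable def toK (V : Type u) [CommRing V] [IsDomain V] :
    SpecOver V (FractionRing V) ⟶ Over.mk (Neron.genPt V) := 𝟙 (Over.mk (Neron.genPt V))

/-- the spectrum of the fraction field -/
noncomputable def ofK (V : Type u) [CommRing V] [IsDomain V] :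
    Over.mk (Neron.genPt V) ⟶ SpecOver V (FractionRing V) := 𝟙 (Over.mk (Neron.genPt V))

@[reassoc]
lemma toK_ofK (V : Type u) [CommRing V] [IsDomain V] : toK V ≫ ofK V = 𝟙 _ := Category.id_comp (𝟙 (Over.mk (Neron.genPt V)))

@[reassoc]
lemma ofK_toK (V : Type u) [CommRing V] [IsDomain V] : ofK V ≫ toK V = 𝟙 _ := Category.id_comp (𝟙 (Over.mk (Neron.genPt V)))

/-- the algebraic core, for torsors -/
theorem exists_points (hG : ∀ {T : Over (Spec (CommRingCat.of V))} (g h : T ⟶ G), g * h = h * g)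
    {H : Type u} [CommRing H] [HopfAlgebra V H] [Algebra.FiniteType V H] (hH : SGA3b.IsMultType V H)
    (e : G ≅ SpecOver V H) [IsMonHom e.hom]
    (ha : NonAbH1.IsPseudoTorsorSch a) (hb : NonAbH1.IsPseudoTorsorSch b)
    {U : Type u} [CommRing U] [Algebra V U] [Module.FaithfullyFlat V U] (x : SpecOver V U ⟶ P) (y : SpecOver V U ⟶ Q)
    (f : Red.bc (Neron.genPt V) P ⟶ Red.bc (Neron.genPt V) Q)
    (hf : AlgGrp.Action.IsEquivariant (a.bc (Neron.genPt V)) (b.bc (Neron.genPt V)) f) :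
    ∃ (g : Over.mk (Neron.genPt V) ⟶ G) (m' : SpecOver V U ⟶ G),
      ∀ {T : Over (Spec (CommRingCat.of V))} (s : T ⟶ SpecOver V U) (t : T ⟶ Over.mk (Neron.genPt V)),
        (t ≫ g) * dif hb (val (Neron.genPt V) f (s ≫ x) t) (s ≫ y) = s ≫ m' := by
  have hcomp : ∀ {T : Over (Spec (CommRingCat.of V))} (g h : T ⟶ G), (g * h) ≫ e.hom = (g ≫ e.hom) * (h ≫ e.hom) :=
    fun g h => MonObj.mul_comp g h e.hom
  let K := FractionRing V
  let s₁ : SpecOver V (K ⊗[V] U) ⟶ SpecOver V U := specMap V Algebra.TensorProduct.includeRight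
  let t₁ : SpecOver V (K ⊗[V] U) ⟶ SpecOver V K := specMap V Algebra.TensorProduct.includeLeft
  let m₁ : SpecOver V (K ⊗[V] U) ⟶ G := dif hb (val (Neron.genPt V) f (s₁ ≫ x) (t₁ ≫ toK V)) (s₁ ≫ y)
  let i₁ : SpecOver V (U ⊗[V] U) ⟶ SpecOver V U := specMap V Algebra.TensorProduct.includeLeft
  let i₂ : SpecOver V (U ⊗[V] U) ⟶ SpecOver V U := specMap V Algebra.TensorProduct.includeRight
  let a₀ : SpecOver V (U ⊗[V] U) ⟶ G := dif ha (i₁ ≫ x) (i₂ ≫ x) * (dif hb (i₁ ≫ y) (i₂ ≫ y))⁻¹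
  let m : WithConv (H →ₐ[V] K ⊗[V] U) := toConv (specPreimage V (m₁ ≫ e.hom))
  let α : WithConv (H →ₐ[V] U ⊗[V] U) := toConv (specPreimage V (a₀ ≫ e.hom))
  have hm₁ : specMap V m.ofConv = m₁ ≫ e.hom := specMap_specPreimage _ _
  have hα : specMap V α.ofConv = a₀ ≫ e.hom := specMap_specPreimage _ _
  let r₁ : SpecOver V (K ⊗[V] (U ⊗[V] U)) ⟶ SpecOver V (K ⊗[V] U) := specMap V (P₁ V K U)
  let r₂ : SpecOver V (K ⊗[V] (U ⊗[V] U)) ⟶ SpecOver V (K ⊗[V] U) := specMap V (P₂ V K U)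
  let s₂ : SpecOver V (K ⊗[V] (U ⊗[V] U)) ⟶ SpecOver V (U ⊗[V] U) := specMap V Algebra.TensorProduct.includeRight
  let t₂ : SpecOver V (K ⊗[V] (U ⊗[V] U)) ⟶ SpecOver V K := specMap V Algebra.TensorProduct.includeLeft
  have e1 : r₁ ≫ s₁ = s₂ ≫ i₁ := by
    rw [← specMap_comp, ← specMap_comp]
    congr 1
  have e2 : r₂ ≫ s₁ = s₂ ≫ i₂ := by
    rw [← specMap_comp, ← specMap_comp]
    congr 1
  have e3 : r₁ ≫ t₁ = t₂ := by
    rw [← specMap_comp]
    congr 1
  have e4 : r₂ ≫ t₁ = t₂ := by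
    rw [← specMap_comp]
    congr 1
  have key : r₁ ≫ m₁ = (s₂ ≫ a₀) * (r₂ ≫ m₁) := by
    have h1 : r₁ ≫ m₁ = dif hb (val (Neron.genPt V) f (s₂ ≫ i₁ ≫ x) (t₂ ≫ toK V)) (s₂ ≫ i₁ ≫ y) := by
      rw [comp_dif, comp_val, ← Category.assoc r₁ s₁, ← Category.assoc r₁ s₁, ← Category.assoc r₁ t₁, e1, e3,
        Category.assoc, Category.assoc]
    have h2 : r₂ ≫ m₁ = dif hb (val (Neron.genPt V) f (s₂ ≫ i₂ ≫ x) (t₂ ≫ toK V)) (s₂ ≫ i₂ ≫ y) := by
      rw [comp_dif, comp_val, ← Category.assoc r₂ s₁, ← Category.assoc r₂ s₁, ← Category.assoc r₂ t₁, e2, e4,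
        Category.assoc, Category.assoc]
    have h3 : i₁ ≫ x = sm a (dif ha (i₁ ≫ x) (i₂ ≫ x)) (i₂ ≫ x) := (sm_dif _ _ _).symm
    have h4 : i₁ ≫ y = sm b (dif hb (i₁ ≫ y) (i₂ ≫ y)) (i₂ ≫ y) := (sm_dif _ _ _).symm
    have h5 : s₂ ≫ i₁ ≫ x = sm a (s₂ ≫ dif ha (i₁ ≫ x) (i₂ ≫ x)) (s₂ ≫ i₂ ≫ x) := by
      rw [← comp_sm, ← h3]
    have h6 : s₂ ≫ i₁ ≫ y = sm b (s₂ ≫ dif hb (i₁ ≫ y) (i₂ ≫ y)) (s₂ ≫ i₂ ≫ y) := by
      rw [← comp_sm, ← h4]
    rw [h1, h2, h5, h6, val_sm _ _ hf, dif_sm_left, dif_sm_right, comp_mul, comp_inv]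
    rw [_root_.mul_assoc]
    congr 1
    exact hG _ _
  obtain ⟨φ, m', hφ⟩ := K552.VlCore.core V H hH U m α (by
    apply WithConv.ofConv_injective
    apply specMap_injective V
    rw [specMap_mul, ofConv_toConv, ofConv_toConv, ofConv_toConv, specMap_comp, specMap_comp, specMap_comp, hm₁, hα]
    change r₁ ≫ m₁ ≫ e.hom = (s₂ ≫ a₀ ≫ e.hom) * (r₂ ≫ m₁ ≫ e.hom)
    rw [← Category.assoc, key, hcomp, Category.assoc, Category.assoc])
  have hφ' : (t₁ ≫ specMap V φ.ofConv ≫ e.inv) * m₁ = s₁ ≫ specMap V m'.ofConv ≫ e.inv := by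
    rw [← cancel_mono e.hom, hcomp]
    have h1 := congrArg (fun z => specMap V z.ofConv) hφ
    simp only at h1
    rw [specMap_mul, ofConv_toConv, ofConv_toConv, specMap_comp, specMap_comp, hm₁] at h1
    simp only [Category.assoc, Iso.inv_hom_id, Category.comp_id]
    exact h1
  refine ⟨ofK V ≫ specMap V φ.ofConv ≫ e.inv, specMap V m'.ofConv ≫ e.inv, fun {T} s t => ?_⟩
  let w : T ⟶ SpecOver V (K ⊗[V] U) :=
    CartesianMonoidalCategory.lift s (t ≫ ofK V) ≫ CategoryTheory.inv (Groth.Agent.Sga3B.Hens.Dict.cmp V U K)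
  have hw : w ≫ Groth.Agent.Sga3B.Hens.Dict.cmp V U K = CartesianMonoidalCategory.lift s (t ≫ ofK V) := by
    rw [Category.assoc, IsIso.inv_hom_id, Category.comp_id]
  have hw1 : w ≫ s₁ = s := by
    have h0 : Groth.Agent.Sga3B.Hens.Dict.cmp V U K ≫ CartesianMonoidalCategory.fst _ _ = s₁ :=
      CartesianMonoidalCategory.lift_fst _ _
    rw [← h0, ← Category.assoc, hw]
    exact CartesianMonoidalCategory.lift_fst _ _
  have hw2 : w ≫ t₁ = t ≫ ofK V := by
    have h0 : Groth.Agent.Sga3B.Hens.Dict.cmp V U K ≫ CartesianMonoidalCategory.snd _ _ = t₁ :=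
      CartesianMonoidalCategory.lift_snd _ _
    rw [← h0, ← Category.assoc, hw]
    exact CartesianMonoidalCategory.lift_snd _ _
  have h1 : (w ≫ t₁ ≫ specMap V φ.ofConv ≫ e.inv) * (w ≫ m₁) = w ≫ s₁ ≫ specMap V m'.ofConv ≫ e.inv := by
    rw [← comp_mul, hφ']
  have h2 : w ≫ m₁ = dif hb (val (Neron.genPt V) f (s ≫ x) t) (s ≫ y) := by
    rw [comp_dif, comp_val, ← Category.assoc w s₁, ← Category.assoc w s₁, ← Category.assoc w t₁, hw1, hw2,
      Category.assoc, ofK_toK, Category.comp_id]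
  rw [h2, ← Category.assoc w t₁, ← Category.assoc w s₁, hw1, hw2, Category.assoc] at h1
  exact h1

/-- Torsors under a group of multiplicative type over a valuation ring which become isomorphic over the fraction field
are isomorphic. -/
theorem nonempty_equivIso (hG : ∀ {T : Over (Spec (CommRingCat.of V))} (g h : T ⟶ G), g * h = h * g)
    {H : Type u} [CommRing H] [HopfAlgebra V H] [Algebra.FiniteType V H] (hH : SGA3b.IsMultType V H)
    (e : G ≅ SpecOver V H) [IsMonHom e.hom] [Flat G.hom] [IsAffineHom G.hom]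
    (ha : NonAbH1.IsTorsorFor Scheme.fpqcPrecoverage a) (hb : NonAbH1.IsTorsorFor Scheme.fpqcPrecoverage b)
    (f : NonAbH1.EquivIso (a.bc (Neron.genPt V)) (b.bc (Neron.genPt V))) : Nonempty (NonAbH1.EquivIso a b) := by
  have := K554.FibProd.flat_descends.{u}
  have := Groth.Agent.Etbase.FpqcDescent.descendsAlong_isAffineHom.{u}
  have h1 : Flat P.hom := K554.Fpqc.prop_of_isTorsorFor @Flat ha inferInstance
  have h2 : Flat Q.hom := K554.Fpqc.prop_of_isTorsorFor @Flat hb inferInstance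
  have h3 : IsAffineHom P.hom := K554.Fpqc.prop_of_isTorsorFor @IsAffineHom ha inferInstance
  have h4 : IsAffineHom Q.hom := K554.Fpqc.prop_of_isTorsorFor @IsAffineHom hb inferInstance
  have h5 : Surjective P.hom := K554.Fpqc2.surjective_of_isLocallyTrivialFor ha.2
  have h6 : Surjective Q.hom := K554.Fpqc2.surjective_of_isLocallyTrivialFor hb.2
  have h7 : (P ⊗ Q).hom = pullback.fst P.hom Q.hom ≫ P.hom := rfl
  have h8 : Flat (P ⊗ Q).hom := by rw [h7]; infer_instance
  have h9 : Surjective (P ⊗ Q).hom := by rw [h7]; infer_instance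
  have h10 : IsAffineHom (P ⊗ Q).hom := by
    have h13 : IsAffineHom (pullback.fst P.hom Q.hom) := MorphismProperty.pullback_fst (P := @IsAffineHom) _ _ h4
    rw [h7]
    infer_instance
  have h11 : IsAffine (P ⊗ Q).left := isAffine_of_isAffineHom (P ⊗ Q).hom
  obtain ⟨U, _, _, ⟨i⟩⟩ := exists_iso_specOver (P ⊗ Q)
  have h12 : Module.FaithfullyFlat V U := faithfullyFlat_of_iso i h9 h8
  obtain ⟨g, m', hgm⟩ := exists_points hG hH e ha.1 hb.1 (i.inv ≫ fst P Q) (i.inv ≫ snd P Q) f.iso.hom f.comm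
  have hG' : ∀ {T : Over (Spec (CommRingCat.of (FractionRing V)))} (g h : T ⟶ Red.bc (Neron.genPt V) G),
      g * h = h * g := by
    intro T g h
    rw [← up_dn g, ← up_dn h, ← up_mul, ← up_mul, hG]
  have hUf : Flat (SpecOver V U).hom := by
    rw [← Over.w i.inv]
    have : IsIso i.inv.left := (Over.forget _).map_isIso i.inv
    infer_instance
  have hUs : Surjective (SpecOver V U).hom := by
    rw [← Over.w i.inv]
    have : IsIso i.inv.left := (Over.forget _).map_isIso i.inv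
    infer_instance
  have hUq : QuasiCompact (SpecOver V U).hom := by
    rw [← Over.w i.inv]
    have : IsIso i.inv.left := (Over.forget _).map_isIso i.inv
    infer_instance
  obtain ⟨ψ, -⟩ := K553.FibExt.nonempty_equivIso ha.1 hb.1 (C := SpecOver V U) (i.inv ≫ fst P Q)
    (sm b m' (i.inv ≫ snd P Q)) (twist hG' f (sec (Neron.genPt V) g))
    (map_eq (Neron.genPt V) hb.1 _ _ f.iso.hom g m' hgm)
  exact ⟨ψ⟩

end Alg

end K552.VlTors
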