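import Groth.Agent.NonAbH1.K552.VlLat
import Groth.Agent.Ega2.ArcNorm
import Mathlib.RingTheory.Valuation.ValuationSubring
import Mathlib.RingTheory.Invariant.Basic
import Mathlib.RingTheory.Unramified.Finite
import Mathlib.RingTheory.Ideal.Pointwise
import Mathlib.LinearAlgebra.LinearIndependent.Lemmas
import Mathlib.RingTheory.Spectrum.Maximal.Basic

/-!
# Lifting to the multiplicative group of a Galois extension modulo the units of a semilocal Prüfer domain

`W` is a domain with fraction field `L`, with an action of a finite group `Γ`, transitive on the maximal ideals, whose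
local rings are valuation rings and with trivial inertia. A homomorphism from a finitely generated `Γ`-module to
`Lˣ / Wˣ` lifts to an equivariant homomorphism to `Lˣ`.
-/

set_option autoImplicit false

open scoped Pointwise

namespace K552.VlVal

/-- the hypotheses on `W`, `L` and `Γ` -/
structure St (W L Γ : Type*) [CommRing W] [Field L] [Algebra W L] [Group Γ] [MulSemiringAction Γ W]
    [MulSemiringAction Γ L] : Prop where
  smul_alg : ∀ (g : Γ) (w : W), algebraMap W L (g • w) = g • algebraMap W L w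
  val : ∀ (n : Ideal W) [n.IsMaximal] (a b : W), ∃ c s, s ∉ n ∧ (s * a = c * b ∨ s * b = c * a)
  trans : ∀ (n n' : Ideal W) [n.IsMaximal] [n'.IsMaximal], ∃ g : Γ, n' = g • n
  indep : ∀ (n : Ideal W) [n.IsMaximal] (g h : Γ), g ≠ h → ∃ a : W, g • a - h • a ∉ n

variable {W L Γ : Type*} [CommRing W] [IsDomain W] [Field L] [Algebra W L] [IsFractionRing W L] [Group Γ]
  [MulSemiringAction Γ W] [MulSemiringAction Γ L]

section vs

variable (n : Ideal W) [hn : n.IsMaximal] (h : ∀ a b : W, ∃ c s, s ∉ n ∧ (s * a = c * b ∨ s * b = c * a))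

variable (L) in
/-- the valuation ring at a maximal ideal -/
def vs : ValuationSubring L where
  carrier := {x | ∃ a b : W, b ∉ n ∧ x * algebraMap W L b = algebraMap W L a}
  mul_mem' := by
    rintro x y ⟨a, b, hb, e⟩ ⟨a', b', hb', e'⟩
    refine ⟨a * a', b * b', fun hh => (hn.isPrime.mem_or_mem hh).elim hb hb', ?_⟩
    rw [map_mul, map_mul, ← e, ← e']
    ring
  one_mem' := ⟨1, 1, fun hh => hn.isPrime.ne_top ((Ideal.eq_top_iff_one n).mpr hh), by simp⟩
  add_mem' := by
    rintro x y ⟨a, b, hb, e⟩ ⟨a', b', hb', e'⟩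
    refine ⟨a * b' + a' * b, b * b', fun hh => (hn.isPrime.mem_or_mem hh).elim hb hb', ?_⟩
    rw [map_mul, map_add, map_mul, map_mul, ← e, ← e']
    ring
  zero_mem' := ⟨0, 1, fun hh => hn.isPrime.ne_top ((Ideal.eq_top_iff_one n).mpr hh), by simp⟩
  neg_mem' := by
    rintro x ⟨a, b, hb, e⟩
    exact ⟨-a, b, hb, by rw [map_neg, ← e]; ring⟩
  mem_or_inv_mem' := by
    intro x
    obtain ⟨p, q, hq, rfl⟩ := IsFractionRing.div_surjective (A := W) x
    have hq0 : algebraMap W L q ≠ 0 := by
      rw [Ne, IsFractionRing.to_map_eq_zero_iff (K := L)]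
      exact nonZeroDivisors.ne_zero hq
    by_cases hp : p = 0
    · left
      exact ⟨0, 1, fun hh => hn.isPrime.ne_top ((Ideal.eq_top_iff_one n).mpr hh), by simp [hp]⟩
    have hp0 : algebraMap W L p ≠ 0 := by
      rwa [Ne, IsFractionRing.to_map_eq_zero_iff (K := L)]
    obtain ⟨c, s, hs, e | e⟩ := h p q
    · left
      refine ⟨c, s, hs, ?_⟩
      have := congrArg (algebraMap W L) e
      rw [map_mul, map_mul] at this
      rw [div_mul_eq_mul_div, div_eq_iff hq0, mul_comm, this]
    · right
      refine ⟨c, s, hs, ?_⟩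
      have := congrArg (algebraMap W L) e
      rw [map_mul, map_mul] at this
      rw [inv_div, div_mul_eq_mul_div, div_eq_iff hp0, mul_comm, this]

lemma mem_vs {x : L} : x ∈ vs L n h ↔ ∃ a b : W, b ∉ n ∧ x * algebraMap W L b = algebraMap W L a := Iff.rfl

omit [IsDomain W] in
lemma one_notMem : (1 : W) ∉ n := fun hh => hn.isPrime.ne_top ((Ideal.eq_top_iff_one n).mpr hh)

lemma alg_mem (w : W) : algebraMap W L w ∈ vs L n h := ⟨w, 1, one_notMem n, by simp⟩

lemma val_le_one (w : W) : (vs L n h).valuation (algebraMap W L w) ≤ 1 :=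
  ((vs L n h).valuation_le_one_iff _).mpr (alg_mem n h w)

lemma val_eq_one {w : W} (hw : w ∉ n) : (vs L n h).valuation (algebraMap W L w) = 1 := by
  apply le_antisymm (val_le_one n h w)
  have hw0 : algebraMap W L w ≠ 0 := by
    rw [Ne, IsFractionRing.to_map_eq_zero_iff (K := L)]
    rintro rfl
    exact hw (zero_mem _)
  have h1 : (algebraMap W L w)⁻¹ ∈ vs L n h := ⟨1, w, hw, by rw [inv_mul_cancel₀ hw0, map_one]⟩
  have h2 := ((vs L n h).valuation_le_one_iff _).mpr h1
  rw [map_inv₀] at h2
  exact (inv_le_one₀ (by simpa [zero_lt_iff] using hw0)).mp h2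

lemma val_lt_one {w : W} (hw : w ∈ n) : (vs L n h).valuation (algebraMap W L w) < 1 := by
  refine lt_of_le_of_ne (val_le_one n h w) fun hh => ?_
  by_cases hw0 : algebraMap W L w = 0
  · rw [hw0, map_zero] at hh
    exact zero_ne_one hh
  have h1 : (algebraMap W L w)⁻¹ ∈ vs L n h := by
    rw [← (vs L n h).valuation_le_one_iff, map_inv₀, hh, inv_one]
  obtain ⟨a, b, hb, e⟩ := h1
  apply hb
  have : b = w * a := by
    apply IsFractionRing.injective W L
    rw [map_mul, ← e, mul_inv_cancel_left₀ hw0]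
  rw [this]
  exact n.mul_mem_right _ hw

lemma val_alg_lt_iff {w : W} : (vs L n h).valuation (algebraMap W L w) < 1 ↔ w ∈ n :=
  ⟨fun hh => by
    by_contra hw
    exact hh.ne (val_eq_one n h hw), fun hw => val_lt_one n h hw⟩

/-- elements of positive value at `n` -/
def Pos (n : Ideal W) (x : L) : Prop := ∃ a ∈ n, ∃ b ∉ n, x * algebraMap W L b = algebraMap W L a

lemma val_lt_one_iff (x : L) : (vs L n h).valuation x < 1 ↔ Pos n x := by
  constructor
  · intro hx
    obtain ⟨a, b, hb, e⟩ := ((vs L n h).valuation_le_one_iff _).mp hx.le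
    refine ⟨a, ?_, b, hb, e⟩
    rw [← val_alg_lt_iff (L := L) n h, ← e, map_mul, val_eq_one n h hb, mul_one]
    exact hx
  · rintro ⟨a, ha, b, hb, e⟩
    have := (val_alg_lt_iff (L := L) n h).mpr ha
    rwa [← e, map_mul, val_eq_one n h hb, mul_one] at this

end vs

variable (hS : St W L Γ)
include hS

omit [IsDomain W] [IsFractionRing W L] in
lemma smul_pos (n : Ideal W) (g : Γ) (x : L) : Pos n (g • x) ↔ Pos (g⁻¹ • n) x := by
  constructor
  · rintro ⟨a, ha, b, hb, e⟩
    refine ⟨g⁻¹ • a, (Ideal.smul_mem_pointwise_smul_iff).mpr ha, g⁻¹ • b, fun hh => hb ?_, ?_⟩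
    · exact (Ideal.smul_mem_pointwise_smul_iff).mp hh
    · rw [hS.smul_alg, hS.smul_alg, ← e, smul_mul', inv_smul_smul]
  · rintro ⟨a, ha, b, hb, e⟩
    rw [Ideal.mem_pointwise_smul_iff_inv_smul_mem, inv_inv] at ha hb
    refine ⟨g • a, ha, g • b, hb, ?_⟩
    rw [hS.smul_alg, hS.smul_alg, ← e, smul_mul']

omit hS [IsDomain W] in
lemma smul_isMaximal (n : Ideal W) [hn : n.IsMaximal] (g : Γ) : (g • n).IsMaximal := by
  rw [n.pointwise_smul_eq_comap]
  infer_instance

omit [IsFractionRing W L] [IsDomain W] in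
lemma finite_max [Finite Γ] : Finite (MaximalSpectrum W) := by
  by_cases he : Nonempty (MaximalSpectrum W)
  · obtain ⟨m⟩ := he
    have hm := m.isMaximal
    refine Finite.of_surjective (fun g : Γ => (⟨g • m.asIdeal, smul_isMaximal _ g⟩ : MaximalSpectrum W)) ?_
    intro m'
    have := m'.isMaximal
    obtain ⟨g, hg⟩ := hS.trans m.asIdeal m'.asIdeal
    exact ⟨g, MaximalSpectrum.ext hg.symm⟩
  · rw [not_nonempty_iff] at he
    infer_instance

omit [IsFractionRing W L] [IsDomain W] in
/-- the Chinese remainder theorem -/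
lemma crt [Finite Γ] (x : MaximalSpectrum W → W) : ∃ c : W, ∀ m : MaximalSpectrum W, c - x m ∈ m.asIdeal := by
  have := finite_max hS
  refine Ideal.exists_forall_sub_mem_ideal (I := fun m : MaximalSpectrum W => m.asIdeal) (fun m m' hne => ?_) x
  have h1 := m.isMaximal
  have h2 := m'.isMaximal
  exact Ideal.isCoprime_of_isMaximal fun h => hne (MaximalSpectrum.ext h)

variable (n : Ideal W) [hn : n.IsMaximal]

/-- integrality criterion -/
lemma exists_of_val_le (z : L) (hz : ∀ g : Γ, (vs L n (hS.val n)).valuation (g • z) ≤ 1) :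
    ∃ w : W, algebraMap W L w = z := by
  let I : Ideal W :=
    { carrier := {b | ∃ a : W, z * algebraMap W L b = algebraMap W L a}
      add_mem' := by
        rintro b b' ⟨a, e⟩ ⟨a', e'⟩
        exact ⟨a + a', by rw [map_add, map_add, mul_add, e, e']⟩
      zero_mem' := ⟨0, by simp⟩
      smul_mem' := by
        rintro c b ⟨a, e⟩
        refine ⟨c * a, ?_⟩
        rw [smul_eq_mul, map_mul, map_mul, ← e]
        ring }
  have hI : I = ⊤ := by
    by_contra hne
    obtain ⟨m, hm, hle⟩ := Ideal.exists_le_maximal I hne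
    obtain ⟨g, rfl⟩ := hS.trans n m
    obtain ⟨a, b, hb, e⟩ := ((vs L n (hS.val n)).valuation_le_one_iff _).mp (hz g⁻¹)
    have h1 : g • b ∈ I := by
      refine ⟨g • a, ?_⟩
      rw [hS.smul_alg, hS.smul_alg, ← e, smul_mul', smul_inv_smul]
    exact hb (Ideal.smul_mem_pointwise_smul_iff.mp (hle h1))
  obtain ⟨a, ha⟩ : (1 : W) ∈ I := by rw [hI]; trivial
  exact ⟨a, by rw [← ha, map_one, mul_one]⟩

lemma exists_unit_of_val_eq (z : Lˣ) (hz : ∀ g : Γ, (vs L n (hS.val n)).valuation (g • (z : L)) = 1) :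
    ∃ w : Wˣ, algebraMap W L w = z := by
  obtain ⟨a, ha⟩ := exists_of_val_le hS n (z : L) fun g => (hz g).le
  obtain ⟨b, hb⟩ := exists_of_val_le hS n ((z⁻¹ : Lˣ) : L) fun g => by
    rw [Units.val_inv_eq_inv_val, smul_inv'', map_inv₀, hz, inv_one]
  have hab : a * b = 1 := by
    apply IsFractionRing.injective W L
    rw [map_mul, ha, hb, map_one, Units.mul_inv]
  exact ⟨⟨a, b, hab, by rw [mul_comm, hab]⟩, ha⟩

lemma val_unit (w : Wˣ) : (vs L n (hS.val n)).valuation (algebraMap W L w) = 1 :=
  val_eq_one n _ fun h => hn.isPrime.ne_top (Ideal.eq_top_of_isUnit_mem n h w.isUnit)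

lemma val_smul_unit (w : Wˣ) (g : Γ) : (vs L n (hS.val n)).valuation (g • algebraMap W L w) = 1 := by
  rw [← hS.smul_alg]
  refine val_eq_one n _ fun h => hn.isPrime.ne_top (Ideal.eq_top_of_isUnit_mem n h ?_)
  exact w.isUnit.map (MulSemiringAction.toRingHom Γ W g)

/-- maxima of valuations -/
lemma exists_max [Finite Γ] (z w : Lˣ) : ∃ (u : Lˣ) (c : W), (u : L) = z + algebraMap W L c * w ∧
    ∀ g : Γ, (vs L n (hS.val n)).valuation (g • (u : L)) =
    max ((vs L n (hS.val n)).valuation (g • (z : L))) ((vs L n (hS.val n)).valuation (g • (w : L))) := by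
  classical
  obtain ⟨c, hc⟩ := crt hS fun m => if Pos m.asIdeal ((z / w : Lˣ) : L) then 1 else 0
  have key : ∀ g : Γ, (vs L n (hS.val n)).valuation (g • ((z : L) + algebraMap W L c * w)) =
      max ((vs L n (hS.val n)).valuation (g • (z : L))) ((vs L n (hS.val n)).valuation (g • (w : L))) := by
    intro g
    have hw0 : (vs L n (hS.val n)).valuation (g • (w : L)) ≠ 0 := by
      rw [Ne, map_eq_zero, smul_eq_zero_iff_eq]
      exact w.ne_zero
    have h1 : (z : L) + algebraMap W L c * w = (((z / w : Lˣ) : L) + algebraMap W L c) * w := by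
      rw [Units.val_div_eq_div_val, add_mul, div_mul_cancel₀ _ w.ne_zero]
    have h2 : (z : L) = ((z / w : Lˣ) : L) * w := by
      rw [Units.val_div_eq_div_val, div_mul_cancel₀ _ w.ne_zero]
    set x : L := ((z / w : Lˣ) : L) with hx
    rw [h1, h2, smul_mul', smul_mul', map_mul, map_mul]
    have h3 : (vs L n (hS.val n)).valuation (g • (x + algebraMap W L c)) =
        max ((vs L n (hS.val n)).valuation (g • x)) 1 := by
      rw [smul_add, ← hS.smul_alg]
      have h4 := hc ⟨g⁻¹ • n, smul_isMaximal n g⁻¹⟩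
      by_cases hp : Pos (g⁻¹ • n) x
      · rw [if_pos hp] at h4
        have h5 : (vs L n (hS.val n)).valuation (g • x) < 1 := by
          rw [val_lt_one_iff, smul_pos hS]
          exact hp
        have h6 : (vs L n (hS.val n)).valuation (algebraMap W L (g • c)) = 1 := by
          apply val_eq_one
          intro h7
          have h8 : c ∈ g⁻¹ • n := by
            rw [Ideal.mem_pointwise_smul_iff_inv_smul_mem, inv_inv]
            exact h7
          have h9 : (1 : W) ∈ g⁻¹ • n := by
            have := sub_mem h8 h4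
            simpa using this
          have := smul_isMaximal n g⁻¹
          exact one_notMem (g⁻¹ • n) h9
        rw [Valuation.map_add_eq_of_lt_right _ (by rwa [h6]), h6, max_eq_right h5.le]
      · rw [if_neg hp, sub_zero] at h4
        have h5 : ¬ (vs L n (hS.val n)).valuation (g • x) < 1 := by
          rw [val_lt_one_iff, smul_pos hS]
          exact hp
        have h6 : (vs L n (hS.val n)).valuation (algebraMap W L (g • c)) < 1 := by
          apply val_lt_one
          rwa [Ideal.mem_pointwise_smul_iff_inv_smul_mem, inv_inv] at h4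
        push Not at h5
        rw [Valuation.map_add_eq_of_lt_left _ (lt_of_lt_of_le h6 h5), max_eq_left h5]
    rw [h3, ← max_mul_mul_right, one_mul]
  have hne : (z : L) + algebraMap W L c * w ≠ 0 := by
    intro h0
    have := key 1
    rw [h0, smul_zero, map_zero, one_smul] at this
    have h1 : (vs L n (hS.val n)).valuation (z : L) ≤ 0 := this ▸ le_max_left _ _
    rw [le_zero_iff, map_eq_zero] at h1
    exact z.ne_zero h1
  exact ⟨Units.mk0 _ hne, c, rfl, key⟩

omit n hn in
/-- `W` is a Bezout domain. -/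
theorem isBezout [Finite Γ] : IsBezout W := by
  obtain ⟨n, hn⟩ := Ideal.exists_maximal W
  rw [IsBezout.iff_span_pair_isPrincipal]
  intro x y
  by_cases hx : x = 0
  · rw [hx, Ideal.span_insert_zero]
    exact ⟨y, rfl⟩
  by_cases hy : y = 0
  · rw [hy, Set.pair_comm, Ideal.span_insert_zero]
    exact ⟨x, rfl⟩
  have hxL : algebraMap W L x ≠ 0 := (map_ne_zero_iff _ (IsFractionRing.injective W L)).mpr hx
  have hyL : algebraMap W L y ≠ 0 := (map_ne_zero_iff _ (IsFractionRing.injective W L)).mpr hy
  obtain ⟨u, c, hu, hmax⟩ := exists_max hS n (Units.mk0 _ hxL) (Units.mk0 _ hyL)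
  simp only [Units.val_mk0] at hu hmax
  rw [← map_mul, ← map_add] at hu
  have key : ∀ t : W, (∀ g : Γ, (vs L n (hS.val n)).valuation (g • algebraMap W L t) ≤
      (vs L n (hS.val n)).valuation (g • (u : L))) → (x + c * y) ∣ t := by
    intro t ht
    obtain ⟨s, hs⟩ := exists_of_val_le hS n (algebraMap W L t / u) (fun g => by
      rw [smul_div₀', map_div₀]
      exact div_le_one_of_le₀ (ht g) zero_le)
    refine ⟨s, ?_⟩
    apply IsFractionRing.injective W L
    rw [map_mul, hs, ← hu, mul_div_cancel₀ _ u.ne_zero]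
  have h1 : (x + c * y) ∣ x := key x fun g => (hmax g) ▸ le_max_left _ _
  have h2 : (x + c * y) ∣ y := key y fun g => (hmax g) ▸ le_max_right _ _
  refine ⟨x + c * y, le_antisymm ?_ ?_⟩
  · rw [Ideal.span_le]
    rintro z (rfl | rfl)
    · exact Ideal.mem_span_singleton.mpr h1
    · exact Ideal.mem_span_singleton.mpr h2
  · rw [← Ideal.span, Ideal.span_le]
    rintro z rfl
    exact add_mem (Ideal.subset_span (by simp)) (Ideal.mul_mem_left _ _ (Ideal.subset_span (by simp)))

omit [IsDomain W] [IsFractionRing W L] hn in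
/-- independence of characters -/
lemma exists_sum_notMem (D : Subgroup Γ) [Fintype D] (u : D → Wˣ) (F : Finset D) (hF : 1 ∈ F) (m : Ideal W) [hm : m.IsMaximal] :
    ∃ a : W, ∑ h ∈ F, (u h : W) * ((h : Γ) • a) ∉ m := by
  by_contra hcon
  push Not at hcon
  have : Field (W ⧸ m) := Ideal.Quotient.field m
  let χ : D → (W →* W ⧸ m) := fun h =>
    ((Ideal.Quotient.mk m).comp (MulSemiringAction.toRingHom Γ W (h : Γ)) : W →+* W ⧸ m)
  have hχ : ∀ (h : D) (a : W), χ h a = Ideal.Quotient.mk m ((h : Γ) • a) := fun _ _ => rfl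
  have hinj : Function.Injective χ := by
    intro h h' e
    by_contra hne
    obtain ⟨a, ha⟩ := hS.indep m (h : Γ) (h' : Γ) fun e => hne (Subtype.ext e)
    apply ha
    rw [← Ideal.Quotient.eq_zero_iff_mem, map_sub, ← hχ, ← hχ, e, sub_self]
  have hli := (linearIndependent_monoidHom W (W ⧸ m)).comp χ hinj
  have h1 := (linearIndependent_iff'.mp hli) F (fun h => Ideal.Quotient.mk m (u h : W)) (by
    funext a
    rw [Finset.sum_apply]
    have h2 := hcon a
    rw [← Ideal.Quotient.eq_zero_iff_mem, map_sum] at h2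
    rw [Pi.zero_apply, ← h2]
    refine Finset.sum_congr rfl fun h _ => ?_
    rw [map_mul]
    rfl) 1 hF
  rw [Ideal.Quotient.eq_zero_iff_mem] at h1
  exact hm.ne_top (Ideal.eq_top_of_isUnit_mem m h1 (u 1).isUnit)

/-- Hilbert 90 for the units. -/
lemma exists_fix [Finite Γ] (D : Subgroup Γ) (z : Lˣ)
    (hz : ∀ d ∈ D, ∀ g : Γ, (vs L n (hS.val n)).valuation (g • d • (z : L)) =
      (vs L n (hS.val n)).valuation (g • (z : L))) :
    ∃ z' : Lˣ, (∀ d ∈ D, d • (z' : L) = z') ∧
      ∀ g : Γ, (vs L n (hS.val n)).valuation (g • (z' : L)) = (vs L n (hS.val n)).valuation (g • (z : L)) := by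
  classical
  have := Fintype.ofFinite D
  have hz0 : ∀ g : Γ, g • (z : L) ≠ 0 := fun g => by
    rw [Ne, smul_eq_zero_iff_eq]
    exact z.ne_zero
  have hu : ∀ h : D, ∃ u : Wˣ, algebraMap W L u = (z : L) / ((h : Γ) • (z : L)) := by
    intro h
    obtain ⟨u, hu⟩ := exists_unit_of_val_eq hS n (z / Units.mk0 _ (hz0 h)) (fun g => by
      rw [Units.val_div_eq_div_val, Units.val_mk0, smul_div₀', map_div₀, hz h h.2]
      exact div_self (by
        rw [Ne, map_eq_zero]
        exact hz0 g))
    exact ⟨u, by rw [hu, Units.val_div_eq_div_val, Units.val_mk0]⟩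
  choose u hu using hu
  let w : W → W := fun c => ∑ h : D, (u h : W) * ((h : Γ) • c)
  let T : W → L := fun c => ∑ h : D, (h : Γ) • (algebraMap W L c / z)
  have hwT : ∀ c, algebraMap W L (w c) = z * T c := by
    intro c
    simp only [w, T]
    rw [map_sum, Finset.mul_sum]
    refine Finset.sum_congr rfl fun h _ => ?_
    rw [map_mul, hu, hS.smul_alg, smul_div₀']
    ring
  have hT : ∀ d ∈ D, ∀ c, d • T c = T c := by
    intro d hd c
    simp only [T]
    rw [Finset.smul_sum, ← Equiv.sum_comp (Equiv.mulLeft (⟨d, hd⟩ : D))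
      fun h : D => (h : Γ) • (algebraMap W L c / (z : L))]
    refine Finset.sum_congr rfl fun h _ => ?_
    rw [smul_smul]
    rfl
  have hwd : ∀ d : D, ∀ c, (u d : W) * ((d : Γ) • w c) = w c := by
    intro d c
    apply IsFractionRing.injective W L
    rw [map_mul, hS.smul_alg, hwT, smul_mul', hT d d.2, hu]
    field_simp [hz0 d]
  have hmem : ∀ (d : D) (c : W) (m : Ideal W), w c ∈ m → w c ∈ (d : Γ) • m := by
    intro d c m h
    rw [← hwd d c]
    exact Ideal.mul_mem_left _ _ (Ideal.smul_mem_pointwise_smul_iff.mpr h)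
  -- representatives of orbits
  let r : Ideal W → Ideal W := fun m => (Quotient.mk (MulAction.orbitRel D (Ideal W)) m).out
  have hr : ∀ (d : D) (m : Ideal W), r ((d : Γ) • m) = r m := by
    intro d m
    have : (Quotient.mk (MulAction.orbitRel D (Ideal W)) ((d : Γ) • m)) =
        Quotient.mk (MulAction.orbitRel D (Ideal W)) m := Quotient.sound ⟨d, rfl⟩
    change Quotient.out _ = Quotient.out _
    rw [this]
  have hr' : ∀ m : Ideal W, ∃ d : D, r m = (d : Γ) • m := by
    intro m
    obtain ⟨d, hd⟩ := Quotient.exact (Quotient.out_eq (Quotient.mk (MulAction.orbitRel D (Ideal W)) m))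
    exact ⟨d, hd.symm⟩
  have ha : ∀ m : MaximalSpectrum W, ∃ a : W,
      ∑ h ∈ Finset.univ.filter (fun h : D => (h : Γ) • m.asIdeal = m.asIdeal), (u h : W) * ((h : Γ) • a) ∉ m.asIdeal := by
    intro m
    have := m.isMaximal
    exact exists_sum_notMem hS D u _ (by simp) m.asIdeal
  choose a ha using ha
  obtain ⟨c, hc⟩ := crt hS fun m => if r m.asIdeal = m.asIdeal then a m else 0
  have hrep : ∀ m : MaximalSpectrum W, r m.asIdeal = m.asIdeal → w c ∉ m.asIdeal := by
    intro m hm hwc
    have hmm := m.isMaximal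
    apply ha m
    have h1 : w c - ∑ h ∈ Finset.univ.filter (fun h : D => (h : Γ) • m.asIdeal = m.asIdeal),
        (u h : W) * ((h : Γ) • a m) ∈ m.asIdeal := by
      have h2 : w c = ∑ h ∈ Finset.univ.filter (fun h : D => (h : Γ) • m.asIdeal = m.asIdeal), (u h : W) * ((h : Γ) • c) +
          ∑ h ∈ Finset.univ.filter (fun h : D => ¬ (h : Γ) • m.asIdeal = m.asIdeal), (u h : W) * ((h : Γ) • c) :=
        (Finset.sum_filter_add_sum_filter_not _ _ _).symm
      rw [h2, add_sub_right_comm, ← Finset.sum_sub_distrib]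
      refine add_mem (sum_mem fun h hh => ?_) (sum_mem fun h hh => ?_)
      · rw [Finset.mem_filter] at hh
        rw [← mul_sub, ← smul_sub]
        apply Ideal.mul_mem_left
        have h3 := hc m
        rw [if_pos hm] at h3
        have h4 := (Ideal.smul_mem_pointwise_smul_iff (a := (h : Γ))).mpr h3
        rwa [hh.2] at h4
      · rw [Finset.mem_filter] at hh
        apply Ideal.mul_mem_left
        have h3 := hc ⟨(h : Γ)⁻¹ • m.asIdeal, smul_isMaximal _ _⟩
        have h4 : ¬ r ((h : Γ)⁻¹ • m.asIdeal) = (h : Γ)⁻¹ • m.asIdeal := by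
          intro h5
          have h6 : r ((h : Γ)⁻¹ • m.asIdeal) = m.asIdeal := by
            have := hr h⁻¹ m.asIdeal
            rw [hm] at this
            exact this
          rw [h6] at h5
          apply hh.2
          conv_lhs => rw [h5]
          rw [smul_inv_smul]
        rw [if_neg h4, sub_zero] at h3
        rwa [Ideal.mem_pointwise_smul_iff_inv_smul_mem, inv_inv] at h3
    have h3 := sub_mem hwc h1
    rwa [sub_sub_cancel] at h3
  have hunit : IsUnit (w c) := by
    by_contra hnu
    obtain ⟨m, hm, hwm⟩ := exists_max_ideal_of_mem_nonunits (a := w c) hnu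
    obtain ⟨d, hd⟩ := hr' m
    have h1 : r (r m) = r m := by
      rw [hd, hr, ← hd]
    have h2 : (r m).IsMaximal := by
      rw [hd]
      exact smul_isMaximal _ _
    refine hrep ⟨r m, h2⟩ h1 ?_
    change w c ∈ r m
    rw [hd]
    exact hmem d c m hwm
  obtain ⟨ω, hω⟩ := hunit
  have hT0 : T c ≠ 0 := by
    intro h0
    have h1 := hwT c
    rw [h0, mul_zero, ← hω] at h1
    have h2 : algebraMap W L (ω : W) * algebraMap W L ((ω⁻¹ : Wˣ) : W) = 1 := by
      rw [← map_mul, Units.mul_inv, map_one]
    rw [h1, zero_mul] at h2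
    exact zero_ne_one h2
  refine ⟨(Units.mk0 (T c) hT0)⁻¹, fun d hd => ?_, fun g => ?_⟩
  · rw [Units.val_inv_eq_inv_val, Units.val_mk0, smul_inv'', hT d hd]
  · have h1 : (((Units.mk0 (T c) hT0)⁻¹ : Lˣ) : L) = z / algebraMap W L (ω : W) := by
      rw [Units.val_inv_eq_inv_val, Units.val_mk0, hω, hwT]
      field_simp [z.ne_zero]
    rw [h1, smul_div₀', map_div₀, val_smul_unit hS, div_one]

omit hS hn in
/-- the action on the additive form of a module -/
abbrev addAct (Γ A : Type*) [Group Γ] [CommGroup A] [MulDistribMulAction Γ A] : DistribMulAction Γ (Additive A) where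
  smul g a := Additive.ofMul (g • a.toMul)
  one_smul a := congrArg Additive.ofMul (one_smul Γ a.toMul)
  mul_smul g h a := congrArg Additive.ofMul (mul_smul g h a.toMul)
  smul_zero g := congrArg Additive.ofMul (smul_one g)
  smul_add g a b := congrArg Additive.ofMul (smul_mul' g a.toMul b.toMul)

attribute [local instance] Units.mulDistribMulActionRight addAct

/-- the additive form of the valuation -/
noncomputable def av : Additive Lˣ →+ Additive ((vs L n (hS.val n)).ValueGroup)ˣ :=
  MonoidHom.toAdditive (Units.map ((vs L n (hS.val n)).valuation : L →* (vs L n (hS.val n)).ValueGroup))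

lemma av_apply (z : Additive Lˣ) : (((av hS n z).toMul : ((vs L n (hS.val n)).ValueGroup)ˣ) :
    (vs L n (hS.val n)).ValueGroup) = (vs L n (hS.val n)).valuation (z.toMul : L) := rfl

lemma av_ext_iff (z z' : Additive Lˣ) : av hS n z = av hS n z' ↔
    (vs L n (hS.val n)).valuation (z.toMul : L) = (vs L n (hS.val n)).valuation (z'.toMul : L) := by
  rw [← av_apply hS, ← av_apply hS, Units.val_inj]
  exact Additive.toMul.injective.eq_iff.symm

lemma good [Finite Γ] : VlLat.Good Γ (av hS n) where
  min := by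
    intro z w
    obtain ⟨u, -, -, hu⟩ := exists_max hS n z.toMul w.toMul
    refine ⟨z + w - Additive.ofMul u, fun g => ?_⟩
    have h1 : av hS n (g • Additive.ofMul u) = max (av hS n (g • z)) (av hS n (g • w)) := by
      apply Additive.toMul.injective
      apply Units.ext
      rw [av_apply]
      refine (hu g).trans ?_
      rcases le_total (av hS n (g • z)) (av hS n (g • w)) with h | h
      · rw [max_eq_right h, av_apply]
        exact max_eq_right h
      · rw [max_eq_left h, av_apply]
        exact max_eq_left h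
    rw [smul_sub, smul_add, map_sub, map_add, h1]
    rcases le_total (av hS n (g • z)) (av hS n (g • w)) with h | h
    · rw [max_eq_right h, min_eq_left h, add_sub_cancel_right]
    · rw [max_eq_left h, min_eq_right h, add_sub_cancel_left]
  fix := by
    intro D z hz
    obtain ⟨z', h1, h2⟩ := exists_fix hS n D z.toMul (fun d hd g => (av_ext_iff hS n (g • d • z) (g • z)).mp (hz d hd g))
    refine ⟨Additive.ofMul z', fun d hd => ?_, fun g => ?_⟩
    · apply Additive.toMul.injective
      apply Units.ext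
      exact h1 d hd
    · rw [av_ext_iff]
      exact h2 g

omit n hn in
/-- **Equivariant lifting modulo units.** -/
theorem exists_lift [Finite Γ] {Λ : Type*} [CommGroup Λ] [MulDistribMulAction Γ Λ] [Group.FG Λ] (d : Λ → Lˣ)
    (hmul : ∀ a b, ∃ w : Wˣ, (d (a * b) : L) = algebraMap W L w * (d a * d b))
    (hsm : ∀ (g : Γ) a, ∃ w : Wˣ, (d (g • a) : L) = algebraMap W L w * g • (d a : L)) :
    ∃ ψ : Λ →* Lˣ, (∀ (g : Γ) a, (ψ (g • a) : L) = g • (ψ a : L)) ∧
      ∀ a, ∃ w : Wˣ, (ψ a : L) = algebraMap W L w * d a := by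
  obtain ⟨n, hn⟩ := Ideal.exists_maximal W
  have hfg : Module.Finite ℤ (Additive Λ) := Module.Finite.iff_addGroup_fg.mpr inferInstance
  let φ : Additive Λ →+ Additive ((vs L n (hS.val n)).ValueGroup)ˣ := AddMonoidHom.mk'
    (fun a => av hS n (Additive.ofMul (d a.toMul))) (by
      intro a b
      obtain ⟨w, hw⟩ := hmul a.toMul b.toMul
      rw [← map_add, av_ext_iff hS]
      change (vs L n (hS.val n)).valuation (d (a.toMul * b.toMul) : L) = (vs L n (hS.val n)).valuation ((d a.toMul : L) * d b.toMul)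
      rw [hw, map_mul, val_unit hS, one_mul])
  have hφ : ∀ a : Additive Λ, φ a = av hS n (Additive.ofMul (d a.toMul)) := fun _ => rfl
  obtain ⟨ψ, h1, h2⟩ := VlLat.exists_lift (good hS n) φ (fun a => by
    refine ⟨Additive.ofMul (d a.toMul), fun g => ?_⟩
    obtain ⟨w, hw⟩ := hsm g a.toMul
    change φ (g • a) = _
    rw [hφ, av_ext_iff]
    change (vs L n (hS.val n)).valuation (d (g • a.toMul) : L) = (vs L n (hS.val n)).valuation (g • (d a.toMul : L))
    rw [hw, map_mul, val_unit hS, one_mul])
  refine ⟨MonoidHom.mk' (fun a => (ψ (Additive.ofMul a)).toMul) fun a b =>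
    congrArg Additive.toMul (map_add ψ (Additive.ofMul a) (Additive.ofMul b)), fun g a => ?_, fun a => ?_⟩
  · exact congrArg (fun x : Additive Lˣ => (x.toMul : L)) (h1 g (Additive.ofMul a))
  · obtain ⟨w, hw⟩ := exists_unit_of_val_eq hS n ((ψ (Additive.ofMul a)).toMul / d a) (fun g => by
      have h3 := h2 (Additive.ofMul (g • a))
      rw [hφ, av_ext_iff] at h3
      have h4 := h1 g (Additive.ofMul a)
      have h5 : ((ψ (Additive.ofMul (g • a))).toMul : L) = g • ((ψ (Additive.ofMul a)).toMul : L) :=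
        congrArg (fun x : Additive Lˣ => (x.toMul : L)) h4
      rw [h5] at h3
      obtain ⟨w, hw⟩ := hsm g a
      change _ = (vs L n (hS.val n)).valuation (d (g • a) : L) at h3
      rw [hw, map_mul, val_unit hS, one_mul] at h3
      rw [Units.val_div_eq_div_val, smul_div₀', map_div₀, h3]
      refine div_self ?_
      rw [Ne, map_eq_zero, smul_eq_zero_iff_eq]
      exact (d a).ne_zero)
    refine ⟨w, ?_⟩
    rw [hw, Units.val_div_eq_div_val, div_mul_cancel₀ _ (d a).ne_zero]
    rfl

end K552.VlVal
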